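import Cfsg.Agent.H254.FxTools
import Cfsg.Agent.H99.SuzFive
import Cfsg.Agent.H904.SylOne
import Cfsg.Agent.H715.Fpr.Row4_m3
import Cfsg.Agent.OrdDiv.Core
import Cfsg.Agent.H397.FxOrthC
import Cfsg.Agent.S0286
import Cfsg.Agent.S0287
import Cfsg.Agent.S0288
import Cfsg.Agent.S0292
import Cfsg.Agent.S0293
import Cfsg.Agent.S0294
import Cfsg.Agent.H759.TwF.Main
import Cfsg.Agent.H496.SpTwF.Sq
import Cfsg.Agent.H128.TwF4Ab
import Cfsg.Agent.H745.RvTits
import Cfsg.Agent.H845.CopTits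
import Cfsg.Agent.S1619
import Cfsg.Agent.S1620
import Cfsg.Agent.S1625
import Cfsg.Agent.S1695
import Cfsg.Agent.S1696
import Cfsg.Agent.S1697
import Cfsg.Agent.S0399
import Cfsg.Agent.Schreier.McLaughlin
import Cfsg.Agent.Schreier.CoTwoStab
import Cfsg.Agent.Co2Type.CardCo2
import Cfsg.Agent.SporRec.Co3.Model
import Cfsg.Agent.H52.StrFi24
import Cfsg.Agent.H690.Spor.ONRow
import Cfsg.Agent.H865.RhoEleven
import Cfsg.Agent.S1698
import Cfsg.Agent.S1699
import Cfsg.Agent.S1703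
import Cfsg.Agent.H45.Thin.Leech
import Cfsg.Agent.H817.ThinConway
import Cfsg.Agent.SporadicA.MathieuRecog
import Cfsg.Agent.Omega.TwoF.MathieuRK
import Cfsg.Agent.HN.AutHS
import Cfsg.Agent.KFacts.HS.Base
import Cfsg.Agent.SmallSimple.Order5040
import Cfsg.Agent.S1704
import Cfsg.Agent.S1705
import Cfsg.Agent.H753.FxRu
import Cfsg.Agent.KFacts.HN.Classes
import Cfsg.Agent.CpAutTh.ThreeE
import Cfsg.Agent.CpAutTh.Seven
import Cfsg.Agent.KFacts.Th.Main
import Cfsg.Agent.Lib.ListFast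
import Cfsg.Agent.Lib.NodupNat
import Cfsg.Agent.H104.IrrPOmega
import Cfsg.Agent.ClassicalGeometry.PSL2Basic
import Cfsg.Agent.H868.KSL2
import Cfsg.Agent.H696.GmnThree
import Cfsg.Agent.TwoFusion.SLTwoFacts
import Cfsg.Agent.S1059
import Cfsg.Agent.H378.TwAdj
import Cfsg.Agent.H607.Car.E6Def
import Cfsg.Agent.H744.Fx.TwE6A
import Cfsg.Agent.H493.PGE7_m3
import Cfsg.Agent.H129.PhiE
import Cfsg.Agent.S1062
import Cfsg.Agent.S1063
import Cfsg.Agent.S1064
import Cfsg.Agent.S1065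
import Cfsg.Agent.S1066
import Cfsg.Agent.S0364
import Cfsg.Agent.S0365
import Cfsg.Agent.H865.Seven
import Cfsg.Agent.CTwoTab.Suz
import Cfsg.Agent.KFacts.SuzLarge
import Cfsg.Agent.KFacts.SuzTwoB
import Cfsg.Agent.S1694
import Cfsg.Agent.CpAutLy.Row
import Cfsg.Agent.TypeM.FactsLy
import Cfsg.Agent.ChevFast.E6
import Cfsg.Agent.ChevFast.E7
import Cfsg.Agent.ChevFast.E8
import Cfsg.Agent.FastGrp
import Cfsg.Agent.Prune
set_option linter.all false

section
prune_inst 0x7fb4a8f889b881dedfff7e7ffedddffc18d0dfffe6dff9437fe8e1ff0bdf030009c56b8d0de010fe0ed6e03410b87853fb7eeeffea6fd87ffffd1ff45ffbee0ff5f7bd08119688240f340ff703f0778e7f3fffffffffffffffffffffffffffaeffbfffffffff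

-- part: H315/FxRow
section
set_option linter.all false
open scoped Cfsg.Agent.FastGrp

-- part: H315/FxNum
section
/-!
# Fixity 3 and 4: numerical engine (helper315)

`D` with `OddTI k D` in a finite simple group `G` of even order, `D` containing a Sylow `r`-subgroup of `G` for
every prime divisor `r` of `|D|`. Then `N(D)` is strongly `r`-embedded for these primes, hence
`|G : N(D)| ≡ 1 (mod |G|_r)`, and `|N(D) : D| ∈ {3}` (`k = 3`), `{4, 12}` (`k = 4`).

* `cases` : the pair `(|D|, |N(D) : D|)` is in a list of exceptions `E`, from a computation.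
-/

set_option autoImplicit false
set_option linter.unusedSectionVars false

namespace Cfsg.Agent.H315.FxNum

open Subgroup Cfsg Cfsg.Agent.H254.Fx Cfsg.Agent.EvenType.StrongP

/-! ### Arithmetic -/

/-- the product of a factorized number -/
def pr (l : List (ℕ × ℕ)) : ℕ := (l.map fun x => x.1 ^ x.2).prod

theorem pr_nil : pr [] = 1 := rfl

theorem pr_cons (x : ℕ × ℕ) (l : List (ℕ × ℕ)) : pr (x :: l) = x.1 ^ x.2 * pr l := by
  unfold pr
  rw [List.map_cons, List.prod_cons]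

theorem coprime_pr {l : List (ℕ × ℕ)} (hp : ∀ x ∈ l, x.1.Prime) {q : ℕ} (hq : q.Prime)
    (h : q ∉ l.map Prod.fst) : Nat.Coprime q (pr l) := by
  induction l with
  | nil => rw [pr_nil]; exact Nat.coprime_one_right q
  | cons x l ih =>
    rw [pr_cons]
    rw [List.map_cons, List.mem_cons, not_or] at h
    refine Nat.Coprime.mul_right (Nat.Coprime.pow_right _ ?_) (ih (fun y hy => hp y (List.mem_cons_of_mem _ hy)) h.2)
    exact (Nat.coprime_primes hq (hp x List.mem_cons_self)).2 h.1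

theorem gcd_pr {l : List (ℕ × ℕ)} (hp : ∀ x ∈ l, x.1.Prime) (hnd : (l.map Prod.fst).Nodup) {m : ℕ}
    (hf : ∀ x ∈ l, x.1 ∣ m → x.1 ^ x.2 ∣ m) :
    Nat.gcd m (pr l) = pr (l.filter fun x => decide (x.1 ∣ m)) := by
  induction l with
  | nil => rw [pr_nil, Nat.gcd_one_right]; rfl
  | cons x l ih =>
    rw [List.map_cons, List.nodup_cons] at hnd
    have hx := hp x List.mem_cons_self
    have hc : Nat.Coprime (x.1 ^ x.2) (pr l) :=
      Nat.Coprime.pow_left _ (coprime_pr (fun y hy => hp y (List.mem_cons_of_mem _ hy)) hx hnd.1)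
    have ih' := ih (fun y hy => hp y (List.mem_cons_of_mem _ hy)) hnd.2
      (fun y hy => hf y (List.mem_cons_of_mem _ hy))
    rw [pr_cons, Nat.Coprime.gcd_mul m hc, ih']
    by_cases h : x.1 ∣ m
    · rw [List.filter_cons_of_pos (by simpa using h), pr_cons,
        Nat.gcd_eq_right (hf x List.mem_cons_self h)]
    · rw [List.filter_cons_of_neg (by simpa using h)]
      have h1 : Nat.gcd m (x.1 ^ x.2) = 1 :=
        (Nat.Coprime.pow_left _ ((Nat.Prime.coprime_iff_not_dvd hx).2 h)).symm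
      rw [h1, one_mul]

theorem eq_pr_filter {l : List (ℕ × ℕ)} (hp : ∀ x ∈ l, x.1.Prime) (hnd : (l.map Prod.fst).Nodup) {m : ℕ}
    (hm : m ∣ pr l) (hf : ∀ x ∈ l, x.1 ∣ m → x.1 ^ x.2 ∣ m) :
    m = pr (l.filter fun x => decide (x.1 ∣ m)) := by
  rw [← gcd_pr hp hnd hf, Nat.gcd_eq_left hm]

/-- one set of primes -/
def leaf (n : ℕ) (E : List (ℕ × ℕ)) (S : List (ℕ × ℕ)) (m : ℕ) : Bool :=
  [3, 4, 12].all fun kk => E.contains (m, kk) || (m % 3 == 0 && kk != 4) || n % (m * kk) != 0 ||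
    (S.any fun x => (n / (m * kk)) % (x.1 ^ x.2) != 1 % (x.1 ^ x.2)) ||
    (S.any fun x => x.2 == 1 && Nat.gcd (x.1 - 1) (m * (if kk = 12 then 3 else kk)) == 1)

/-- all sets of primes -/
def chk (n : ℕ) (E : List (ℕ × ℕ)) : List (ℕ × ℕ) → List (ℕ × ℕ) → ℕ → Bool
  | [], S, m => m == 1 || leaf n E S m
  | x :: l, S, m => chk n E l S m && chk n E l (x :: S) (x.1 ^ x.2 * m)

theorem chk_sound {n : ℕ} {E : List (ℕ × ℕ)} (q : ℕ × ℕ → Bool) : ∀ (l S : List (ℕ × ℕ)) (m : ℕ),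
    chk n E l S m = true → ∃ T : List (ℕ × ℕ), (∀ x, x ∈ T ↔ x ∈ S ∨ (x ∈ l ∧ q x = true)) ∧
      (pr (l.filter q) * m = 1 ∨ leaf n E T (pr (l.filter q) * m) = true) := by
  intro l
  induction l with
  | nil =>
    intro S m h
    refine ⟨S, fun x => by simp, ?_⟩
    simp only [List.filter_nil, pr_nil, one_mul]
    unfold chk at h
    rw [Bool.or_eq_true, beq_iff_eq] at h
    exact h
  | cons x l ih =>
    intro S m h
    unfold chk at h
    rw [Bool.and_eq_true] at h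
    by_cases hq : q x = true
    · obtain ⟨T, hT, h1⟩ := ih _ _ h.2
      refine ⟨T, fun y => ?_, ?_⟩
      · rw [hT, List.mem_cons, List.mem_cons]
        constructor
        · rintro ((rfl | h2) | ⟨h2, h3⟩)
          · exact Or.inr ⟨Or.inl rfl, hq⟩
          · exact Or.inl h2
          · exact Or.inr ⟨Or.inr h2, h3⟩
        · rintro (h2 | ⟨rfl | h2, h3⟩)
          · exact Or.inl (Or.inr h2)
          · exact Or.inl (Or.inl rfl)
          · exact Or.inr ⟨h2, h3⟩
      · rw [List.filter_cons_of_pos hq, pr_cons]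
        have e : x.1 ^ x.2 * pr (l.filter q) * m = pr (l.filter q) * (x.1 ^ x.2 * m) := by ring
        rw [e]
        exact h1
    · obtain ⟨T, hT, h1⟩ := ih _ _ h.1
      refine ⟨T, fun y => ?_, ?_⟩
      · rw [hT, List.mem_cons]
        constructor
        · rintro (h2 | ⟨h2, h3⟩)
          · exact Or.inl h2
          · exact Or.inr ⟨Or.inr h2, h3⟩
        · rintro (h2 | ⟨rfl | h2, h3⟩)
          · exact Or.inl h2
          · exact absurd h3 hq
          · exact Or.inr ⟨h2, h3⟩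
      · rw [List.filter_cons_of_neg hq]
        exact h1

/-! ### The index of `D` in its normalizer -/

section

variable {G : Type*} [Group G] [Finite G] {k : ℕ} {D : Subgroup G}

/-- `D` contains a Sylow `r`-subgroup of `G` for every prime `r` dividing `|D|` -/
def Full (D : Subgroup G) : Prop := ∀ r : ℕ, r.Prime → r ∣ Nat.card D → ∃ P : Sylow r G, (P : Subgroup G) ≤ D

theorem full_of (h : OddTI k D) (h9 : ¬ ∀ P : Sylow 3 G, Nat.card P = 9 ∧ ∀ x ∈ (P : Subgroup G), x ^ 3 = 1) :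
    Full D := by
  intro r hr hd
  rcases (show r = 2 ∨ r = 3 ∨ r = 4 ∨ 5 ≤ r by have := hr.two_le; omega) with rfl | rfl | rfl | h5
  · have h4 := h.odd
    rw [← Nat.not_even_iff_odd, even_iff_two_dvd] at h4
    exact absurd hd h4
  · exact (h.three hd).resolve_right h9
  · exact absurd hr (by norm_num)
  · exact h.exists_sylow_le hr h5 hd

theorem full_of_bad3 (h : OddTI k D) (hb : Bad3 G) : Full D := by
  intro r hr hd
  rcases (show r = 2 ∨ r = 3 ∨ r = 4 ∨ 5 ≤ r by have := hr.two_le; omega) with rfl | rfl | rfl | h5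
  · have h4 := h.odd
    rw [← Nat.not_even_iff_odd, even_iff_two_dvd] at h4
    exact absurd hd h4
  · exact absurd hd (h.not_three_dvd hb)
  · exact absurd hr (by norm_num)
  · exact h.exists_sylow_le hr h5 hd

/-- elements of `N(D)` of order prime to `|N(D):D|` are in `D` -/
theorem mem_of_coprime_idx {y : G} (hy : y ∈ normalizer (D : Set G))
    (hc : Nat.Coprime (D.relIndex (normalizer (D : Set G))) (orderOf y)) : y ∈ D := by
  have : (D.subgroupOf (normalizer (D : Set G))).Normal := normal_in_normalizer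
  have h7 : (⟨y, hy⟩ : normalizer (D : Set G)) ^ (D.subgroupOf (normalizer (D : Set G))).index ∈
      D.subgroupOf (normalizer (D : Set G)) := pow_index_mem _ _
  rw [mem_subgroupOf] at h7
  exact pow_mem_of_coprime h7 (pow_orderOf_eq_one y) hc

theorem strong (h : OddTI k D) (hN : normalizer (D : Set G) ≠ ⊤) {r : ℕ} [hr : Fact r.Prime]
    (hd : r ∣ Nat.card D) (hi : ¬ r ∣ D.relIndex (normalizer (D : Set G))) :
    IsStronglyPEmbedded r (normalizer (D : Set G)) := by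
  refine of_normIn (hd.trans (card_dvd_of_le le_normalizer)) hN ?_
  intro Q hQ hQN hQ1
  refine h.norm Q ?_ hQ1
  intro y hy
  refine mem_of_coprime_idx (hQN hy) ?_
  obtain ⟨n, hn⟩ := (IsPGroup.iff_orderOf.1 hQ) ⟨y, hy⟩
  rw [Subgroup.orderOf_mk] at hn
  rw [hn]
  exact Nat.Coprime.pow_right n ((Nat.Prime.coprime_iff_not_dvd hr.out).2 hi).symm

theorem not_dvd_relIndex (hF : Full D) {r : ℕ} (hr : r.Prime) (hd : r ∣ Nat.card D) :
    ¬ r ∣ D.relIndex (normalizer (D : Set G)) := by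
  intro h
  have := Fact.mk hr
  obtain ⟨P, hP⟩ := hF r hr hd
  have h1 : D.relIndex (normalizer (D : Set G)) ∣ D.index := Dvd.intro _ (relIndex_mul_index le_normalizer)
  have h2 : D.index ∣ (P : Subgroup G).index := index_dvd_of_le hP
  exact P.not_dvd_index ((h.trans h1).trans h2)

theorem sylow_ne_bot' {r : ℕ} [Fact r.Prime] (P : Sylow r G) (h : r ∣ Nat.card G) : (P : Subgroup G) ≠ ⊥ :=
  sylow_ne_bot h P

theorem exists_prime (h : OddTI k D) : ∃ r : ℕ, r.Prime ∧ r ∣ Nat.card D := by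
  apply Nat.exists_prime_and_dvd
  intro h1
  exact h.ne (Subgroup.eq_bot_of_card_eq D h1)

theorem relIndex_cases (h : OddTI k D) (hF : Full D) :
    (k = 3 ∧ D.relIndex (normalizer (D : Set G)) = 3) ∨
      (k = 4 ∧ (D.relIndex (normalizer (D : Set G)) = 4 ∨ D.relIndex (normalizer (D : Set G)) = 12)) := by
  obtain ⟨r, hr, hd⟩ := exists_prime h
  have := Fact.mk hr
  obtain ⟨P, hP⟩ := hF r hr hd
  have ht := h.tran r P hr hP (sylow_ne_bot' P (hd.trans (card_subgroup_dvd_card D)))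
  rcases h.hk with rfl | rfl
  · left
    refine ⟨rfl, ?_⟩
    exact Nat.dvd_antisymm (h.idx3 rfl) ht
  · right
    refine ⟨rfl, ?_⟩
    obtain ⟨c, hc⟩ := ht
    have h1 := h.idx
    rw [hc] at h1 ⊢
    have h2 : c ∣ 3 := by
      have : 4 * c ∣ 4 * 3 := h1
      exact Nat.dvd_of_mul_dvd_mul_left (by norm_num) this
    rcases (Nat.dvd_prime Nat.prime_three).1 h2 with rfl | rfl
    · left; rfl
    · right; rfl

theorem normalizer_ne_top (h : OddTI k D) [IsSimpleGroup G] (h2 : 2 ∣ Nat.card G) :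
    normalizer (D : Set G) ≠ ⊤ := by
  intro ht
  have hn : D.Normal := normalizer_eq_top_iff.1 ht
  rcases hn.eq_bot_or_eq_top with h1 | h1
  · exact h.ne h1
  · have h4 := h.odd
    rw [h1, Subgroup.card_top, ← Nat.not_even_iff_odd, even_iff_two_dvd] at h4
    exact h4 h2

/-! ### The group `A₄` -/

theorem alt_of_card {H : Subgroup (Equiv.Perm (Fin 4))} (h : Nat.card H = 12) : H = alternatingGroup (Fin 4) := by
  apply Equiv.Perm.eq_alternatingGroup_of_index_eq_two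
  have h1 := H.card_mul_index
  rw [h, Nat.card_perm, Nat.card_fin] at h1
  have h2 : Nat.factorial 4 = 24 := rfl
  omega

/-- a homomorphism into a group of order prime to `3` is trivial if its kernel contains the kernel of a
homomorphism onto `A₄` -/
theorem eq_one_of_alt {N A : Type*} [Group N] [Group A] (f : N →* Equiv.Perm (Fin 4))
    (hf : Nat.card f.range = 12) (ψ : N →* A) (hk : f.ker ≤ ψ.ker) (hA : ∀ a : A, a ^ 3 = 1 → a = 1) (y : N) :
    ψ y = 1 := by
  have h1 : alternatingGroup (Fin 4) ≤ ψ.ker.map f := by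
    rw [← Equiv.Perm.closure_three_cycles_eq_alternating, closure_le]
    intro c hc
    have hc1 : c ∈ f.range := by
      rw [alt_of_card hf, ← Equiv.Perm.closure_three_cycles_eq_alternating]
      exact subset_closure hc
    obtain ⟨y, rfl⟩ := hc1
    have h3 : (f y) ^ 3 = 1 := by
      have := Equiv.Perm.IsThreeCycle.orderOf hc
      rw [← this, pow_orderOf_eq_one]
    have h4 : y ^ 3 ∈ ψ.ker := hk (by rw [MonoidHom.mem_ker, map_pow, h3])
    rw [MonoidHom.mem_ker, map_pow] at h4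
    exact ⟨y, hA _ h4, rfl⟩
  have h2 : f y ∈ ψ.ker.map f := by
    apply h1
    rw [← alt_of_card hf]
    exact ⟨y, rfl⟩
  obtain ⟨z, hz, hzy⟩ := h2
  have h5 : y * z⁻¹ ∈ ψ.ker := hk (by rw [MonoidHom.mem_ker, map_mul, map_inv, hzy, mul_inv_cancel])
  have h6 : ψ (y * z⁻¹) = 1 := h5
  have h7 : ψ z = 1 := hz
  rw [map_mul, map_inv, h7, inv_one, mul_one] at h6
  exact h6

/-- **Burnside**: `gcd(r - 1, |D| k'') ≠ 1` -/
theorem gcd_ne_one (h : OddTI k D) (hF : Full D) [IsSimpleGroup G] (hna : ¬ ∀ a b : G, a * b = b * a)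
    {r : ℕ} (hr : r.Prime) (hd : r ∣ Nat.card D) (hr2 : ¬ r ^ 2 ∣ Nat.card G)
    (hgcd : Nat.Coprime (r - 1) (Nat.card D * (if D.relIndex (normalizer (D : Set G)) = 12 then 3
      else D.relIndex (normalizer (D : Set G))))) : False := by
  have := Fact.mk hr
  obtain ⟨P, hP⟩ := hF r hr hd
  have hdG : r ∣ Nat.card G := hd.trans (card_subgroup_dvd_card D)
  have hPr : Nat.card (P : Subgroup G) = r := by
    have h1 := P.card_eq_multiplicity
    rw [H904.SylOne.factorization_eq_one Nat.card_pos.ne' hdG hr2, pow_one] at h1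
    exact h1
  have hP1 : (P : Subgroup G) ≠ ⊥ := sylow_ne_bot' P hdG
  have hNP : normalizer ((P : Subgroup G) : Set G) ≤ normalizer (D : Set G) := h.norm _ hP hP1
  refine H940.Eng.centralizer_ne_normalizer hna hr hPr hr2 ?_
  let ψ := (P : Subgroup G).normalizerMonoidHom
  have hcyc : IsCyclic (P : Subgroup G) := isCyclic_of_prime_card hPr
  have hfin : Finite (MulAut (P : Subgroup G)) :=
    Finite.of_injective (fun f : MulAut (P : Subgroup G) => ⇑f) DFunLike.coe_injective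
  have hA : Nat.card (MulAut (P : Subgroup G)) = r - 1 := by
    rw [IsCyclic.card_mulAut, hPr, Nat.totient_prime hr]
  suffices hψ : ∀ y : normalizer ((P : Subgroup G) : Set G), ψ y = 1 by
    intro y hy
    have h1 : (⟨y, hy⟩ : normalizer ((P : Subgroup G) : Set G)) ∈ ψ.ker := hψ _
    rw [Subgroup.normalizerMonoidHom_ker, mem_subgroupOf] at h1
    exact h1
  have key : ∀ (a : MulAut (P : Subgroup G)) (m : ℕ), Nat.Coprime (r - 1) m → a ^ m = 1 → a = 1 := by
    intro a m hm ha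
    have h1 : orderOf a ∣ m := orderOf_dvd_of_pow_eq_one ha
    have h2 : orderOf a ∣ r - 1 := by rw [← hA]; exact orderOf_dvd_natCard a
    rw [← orderOf_eq_one_iff]
    exact Nat.eq_one_of_dvd_coprimes hm h2 h1
  have hD := Nat.Coprime.coprime_mul_right_right hgcd
  have hk := Nat.Coprime.coprime_mul_left_right hgcd
  by_cases h12 : D.relIndex (normalizer (D : Set G)) = 12
  · rw [if_pos h12] at hk
    obtain ⟨f, hf⟩ := h.hom
    let f' : normalizer ((P : Subgroup G) : Set G) →* Equiv.Perm (Fin 4) := f.comp (inclusion hNP)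
    have hker : ∀ y, f' y = 1 ↔ (y : G) ∈ D := fun y => hf (inclusion hNP y)
    have hDcop : Nat.Coprime 12 (Nat.card D) := by
      have h3 : ¬ 3 ∣ Nat.card D := by
        intro h3
        exact not_dvd_relIndex hF Nat.prime_three h3 (by rw [h12]; norm_num)
      have e : 12 = 4 * 3 := rfl
      rw [e]
      refine Nat.Coprime.mul_left ?_ ((Nat.Prime.coprime_iff_not_dvd Nat.prime_three).2 h3)
      have := Nat.Coprime.pow_left 2 (Nat.coprime_two_left.2 h.odd)
      simpa using this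
    have hrange : Nat.card f'.range = 12 := by
      have h1 : Nat.card (normalizer ((P : Subgroup G) : Set G)) = Nat.card f'.range * Nat.card f'.ker := by
        rw [Nat.card_congr (QuotientGroup.quotientKerEquivRange f').toEquiv.symm]
        exact Subgroup.card_eq_card_quotient_mul_card_subgroup _
      have h2 : Nat.card f'.ker ∣ Nat.card D := by
        have h3 : f'.ker.map (normalizer ((P : Subgroup G) : Set G)).subtype ≤ D := by
          rintro _ ⟨y, hy, rfl⟩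
          exact (hker y).1 hy
        have h4 := card_dvd_of_le h3
        rwa [Subgroup.card_map_of_injective (subtype_injective _)] at h4
      have h3 := h.relIndex_dvd hr hP
      rw [h12, h1] at h3
      have h4 : 12 ∣ Nat.card f'.range :=
        (Nat.Coprime.coprime_dvd_right h2 hDcop).dvd_of_dvd_mul_right h3
      have h5 : Nat.card f'.range ∣ 12 := by
        have h6 : Nat.card f.range = 12 := by
          have h7 : Nat.card (normalizer (D : Set G)) = Nat.card f.range * Nat.card f.ker := by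
            rw [Nat.card_congr (QuotientGroup.quotientKerEquivRange f).toEquiv.symm]
            exact Subgroup.card_eq_card_quotient_mul_card_subgroup _
          have h8 : Nat.card f.ker = Nat.card D := by
            have h9 : f.ker = D.subgroupOf (normalizer (D : Set G)) := by
              ext y
              rw [MonoidHom.mem_ker, hf, mem_subgroupOf]
            rw [h9]
            exact Nat.card_congr (subgroupOfEquivOfLe le_normalizer).toEquiv
          rw [h8, card_normalizer_eq, h12, mul_comm] at h7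
          exact (Nat.eq_of_mul_eq_mul_right Nat.card_pos h7).symm
        rw [← h6]
        refine card_dvd_of_le ?_
        rintro _ ⟨y, rfl⟩
        exact ⟨_, rfl⟩
      exact Nat.dvd_antisymm h5 h4
    refine eq_one_of_alt f' hrange ψ ?_ (fun a ha => key a 3 hk ha)
    intro y hy
    have hyD : (y : G) ∈ D := (hker y).1 hy
    have h0 : (y : G) ^ Nat.card D = 1 := by
      have : (⟨(y : G), hyD⟩ : D) ^ Nat.card D = 1 := pow_card_eq_one'
      exact congrArg Subtype.val this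
    have h1 : y ^ Nat.card D = 1 := Subtype.ext h0
    refine key _ (Nat.card D) hD ?_
    rw [← map_pow, h1, map_one]
  · rw [if_neg h12] at hk
    intro y
    have h1 : (y : G) ^ Nat.card (normalizer (D : Set G)) = 1 := by
      have : (⟨(y : G), hNP y.2⟩ : normalizer (D : Set G)) ^ Nat.card (normalizer (D : Set G)) = 1 :=
        pow_card_eq_one'
      exact congrArg Subtype.val this
    refine key _ (Nat.card (normalizer (D : Set G))) ?_ ?_
    · rw [card_normalizer_eq]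
      exact Nat.Coprime.mul_right hD hk
    · rw [← map_pow]
      have : y ^ Nat.card (normalizer (D : Set G)) = 1 := Subtype.ext h1
      rw [this, map_one]

/-- **The numerical engine.** -/
theorem cases (h : OddTI k D) (hF : Full D) [IsSimpleGroup G] (hna : ¬ ∀ a b : G, a * b = b * a)
    (h2 : 2 ∣ Nat.card G) {l lo E : List (ℕ × ℕ)}
    (hp : ∀ x ∈ l, x.1.Prime) (hnd : (l.map Prod.fst).Nodup) (hn : Nat.card G = pr l) {n : ℕ} (hn' : Nat.card G = n)
    (hlo : lo = l.filter fun x => x.1 != 2) (hc : chk n E lo [] 1 = true) :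
    (Nat.card D, D.relIndex (normalizer (D : Set G))) ∈ E := by
  have hdvd : ∀ x ∈ l, x.1 ^ x.2 ∣ Nat.card G := by
    intro x hx
    rw [hn]
    exact List.dvd_prod (List.mem_map.2 ⟨x, hx, rfl⟩)
  have hsyl : ∀ x ∈ l, x.1 ∣ Nat.card D → ∃ P : Sylow x.1 G, (P : Subgroup G) ≤ D ∧ x.1 ^ x.2 ∣ Nat.card P := by
    intro x hx hd
    have := Fact.mk (hp x hx)
    obtain ⟨P, hP⟩ := hF _ (hp x hx) hd
    exact ⟨P, hP, P.pow_dvd_card_of_pow_dvd_card (hdvd x hx)⟩
  have hlol : ∀ x ∈ lo, x ∈ l := fun x hx => by rw [hlo] at hx; exact (List.mem_filter.1 hx).1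
  have hodd : ¬ 2 ∣ Nat.card D := by
    have h4 := h.odd
    rwa [← Nat.not_even_iff_odd, even_iff_two_dvd] at h4
  have hD : Nat.card D = pr (lo.filter fun x => decide (x.1 ∣ Nat.card D)) := by
    have h1 := eq_pr_filter hp hnd (m := Nat.card D) (by rw [← hn]; exact card_subgroup_dvd_card D) (fun x hx hd => by
      obtain ⟨P, hP, h3⟩ := hsyl x hx hd
      exact h3.trans (card_dvd_of_le hP))
    rw [hlo, List.filter_filter]
    have h3 : (l.filter fun x => decide (x.1 ∣ Nat.card D)) =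
        l.filter fun x => (decide (x.1 ∣ Nat.card D) && x.1 != 2) := by
      apply List.filter_congr
      intro x hx
      by_cases hx2 : x.1 = 2
      · rw [hx2]
        simp [hodd]
      · simp [hx2]
    rw [← h3]
    exact h1
  obtain ⟨T, hT, h3⟩ := chk_sound (fun x => decide (x.1 ∣ Nat.card D)) lo [] 1 hc
  rw [mul_one, ← hD] at h3
  rcases h3 with h3 | h3
  · exact absurd (Subgroup.eq_bot_of_card_eq D h3) h.ne
  have hTl : ∀ x ∈ T, x ∈ l ∧ x.1 ∣ Nat.card D := by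
    intro x hx
    rcases (hT x).1 hx with h4 | ⟨h4, h5⟩
    · exact absurd h4 List.not_mem_nil
    · exact ⟨hlol x h4, by simpa using h5⟩
  have hNt := normalizer_ne_top h h2
  have hcard : n = Nat.card D * D.relIndex (normalizer (D : Set G)) * (normalizer (D : Set G)).index := by
    rw [← card_normalizer_eq, card_mul_index, hn']
  have hkk : D.relIndex (normalizer (D : Set G)) ∈ [3, 4, 12] := by
    rcases relIndex_cases h hF with ⟨-, h4⟩ | ⟨-, h4 | h4⟩ <;> rw [h4] <;> decide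
  have hidx0 : 0 < Nat.card D * D.relIndex (normalizer (D : Set G)) := by
    rw [← card_normalizer_eq]
    exact Nat.card_pos
  unfold leaf at h3
  rw [List.all_eq_true] at h3
  have h4 := h3 _ hkk
  simp only [Bool.or_eq_true, Bool.and_eq_true, bne_iff_ne, beq_iff_eq, List.any_eq_true, List.contains_iff_mem] at h4
  rcases h4 with (((h4 | h4) | h4) | h4) | h4
  · exact h4
  · exfalso
    have h5 : 3 ∣ Nat.card D := Nat.dvd_of_mod_eq_zero h4.1
    have h6 := not_dvd_relIndex hF Nat.prime_three h5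
    rcases relIndex_cases h hF with ⟨-, h7⟩ | ⟨-, h7 | h7⟩
    · rw [h7] at h6; exact h6 (by norm_num)
    · exact h4.2 h7
    · rw [h7] at h6; exact h6 (by norm_num)
  · exfalso
    apply h4
    rw [hcard]
    exact Nat.mul_mod_right _ _
  · exfalso
    obtain ⟨x, hx, h5⟩ := h4
    obtain ⟨hxl, hxd⟩ := hTl x hx
    obtain ⟨P, hP, hPd⟩ := hsyl x hxl hxd
    have := Fact.mk (hp x hxl)
    obtain ⟨c, hc⟩ := H998.StrP.index_mod (strong h hNt hxd (not_dvd_relIndex hF (hp x hxl) hxd)) P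
    apply h5
    have h6 : n / (Nat.card D * D.relIndex (normalizer (D : Set G))) = (normalizer (D : Set G)).index := by
      rw [hcard]
      exact Nat.mul_div_cancel_left _ hidx0
    rw [h6, hc]
    obtain ⟨a, ha⟩ := hPd
    have hPc : Nat.card (P : Subgroup G) = x.1 ^ x.2 * a := ha
    rw [hPc]
    have h7 : 1 + c * (x.1 ^ x.2 * a) = 1 + x.1 ^ x.2 * (c * a) := by ring
    rw [h7, Nat.add_mul_mod_self_left]
  · exfalso
    obtain ⟨x, hx, hx1, h5⟩ := h4
    obtain ⟨hxl, hxd⟩ := hTl x hx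
    refine gcd_ne_one h hF hna (hp x hxl) hxd ?_ h5
    -- `x.1 ^ 2` does not divide `|G|`
    intro hsq
    obtain ⟨l₁, l₂, hl⟩ := List.append_of_mem hxl
    have hmap : l.map Prod.fst = l₁.map Prod.fst ++ x.1 :: l₂.map Prod.fst := by
      rw [hl, List.map_append, List.map_cons]
    rw [hmap, List.nodup_append, List.nodup_cons] at hnd
    obtain ⟨-, ⟨hn2, -⟩, hn3⟩ := hnd
    have hc1 : Nat.Coprime x.1 (pr l₁) := coprime_pr (fun y hy => hp y (by rw [hl]; simp [hy])) (hp x hxl)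
      (fun hm => hn3 _ hm _ List.mem_cons_self rfl)
    have hc2 : Nat.Coprime x.1 (pr l₂) := coprime_pr (fun y hy => hp y (by rw [hl]; simp [hy])) (hp x hxl) hn2
    have hpr : pr l = x.1 * (pr l₁ * pr l₂) := by
      rw [hl]
      unfold pr
      rw [List.map_append, List.prod_append, List.map_cons, List.prod_cons, hx1, pow_one]
      ring
    rw [hn, hpr, pow_two] at hsq
    have h6 := Nat.dvd_of_mul_dvd_mul_left (hp x hxl).pos hsq
    have h7 := (hc1.mul_right hc2)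
    rw [Nat.Prime.coprime_iff_not_dvd (hp x hxl)] at h7
    exact h7 h6

end

end Cfsg.Agent.H315.FxNum
end

-- part: H315/FxRow
section
/-!
# Fixity 3 and 4: the row theorem from the numerical engine (helper315)
-/

set_option autoImplicit false
set_option linter.unusedSectionVars false

namespace Cfsg.Agent.H315.FxNum

open Subgroup Cfsg Cfsg.Agent.H254.Fx

/-- the computation -/
def okc (l : List (ℕ × ℕ)) (n : ℕ) (E : List (ℕ × ℕ)) : Bool :=
  (l.all fun x => OrdDiv.isPrimeB x.1) && decide ((l.map Prod.fst).Nodup) && pr l == n && n % 4 == 0 &&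
    chk n E (l.filter fun x => x.1 != 2) [] 1

/-- the numbers of an exceptional case are impossible in `K` -/
def NoExc (K : Type*) [Group K] (m i : ℕ) : Prop :=
  ∀ (k : ℕ) (D : Subgroup K), OddTI k D → Full D → Nat.card D = m → D.relIndex (normalizer (D : Set K)) = i → False

theorem not_comm {K : Type*} [Group K] [Finite K] (hs : IsSimpleGroup K) (h4 : 4 ∣ Nat.card K) :
    ¬ ∀ a b : K, a * b = b * a := by
  intro h
  let _ : CommGroup K := { (inferInstance : Group K) with mul_comm := h }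
  have h1 : (Nat.card K).Prime := IsSimpleGroup.prime_card
  rcases (Nat.dvd_prime h1).1 ((by norm_num : 2 ∣ 4).trans h4) with h2 | h2
  · omega
  · rw [← h2] at h4
    omega

/-- **The row theorem.** -/
theorem no34_of_chk {K : Type*} [Group K] {l : List (ℕ × ℕ)} {n : ℕ} {E : List (ℕ × ℕ)} (hs : IsSimpleGroup K)
    (hc : Nat.card K = n) (hv : okc l n E = true) (h3 : n % 27 = 0 ∨ n % 9 ≠ 0 ∨ Bad3 K)
    (hE : ∀ x ∈ E, NoExc K x.1 x.2) : No34 K := by
  unfold okc at hv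
  simp only [Bool.and_eq_true, List.all_eq_true, decide_eq_true_eq, beq_iff_eq] at hv
  obtain ⟨⟨⟨⟨h1, h2⟩, h4⟩, h5⟩, h6⟩ := hv
  have hp : ∀ x ∈ l, x.1.Prime := fun x hx => OrdDiv.prime_of (h1 x hx)
  have hpos : 0 < pr l := by
    unfold pr
    apply List.prod_pos
    intro a ha
    obtain ⟨x, hx, rfl⟩ := List.mem_map.1 ha
    exact Nat.pow_pos (hp x hx).pos
  have hfin : Finite K := Nat.finite_of_card_ne_zero (by rw [hc, ← h4]; exact hpos.ne')
  have h4' : 4 ∣ Nat.card K := by rw [hc]; exact Nat.dvd_of_mod_eq_zero h5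
  have hna := not_comm hs h4'
  have main : ∀ (k : ℕ) (D : Subgroup K), ¬ OddTI k D := by
    intro k D h
    have hF : Full D := by
      rcases h3 with h3 | h3 | h3
      · refine full_of h fun h9 => ?_
        obtain ⟨P⟩ : Nonempty (Sylow 3 K) := inferInstance
        have : Fact (Nat.Prime 3) := ⟨Nat.prime_three⟩
        have h7 : 3 ^ 3 ∣ Nat.card P := P.pow_dvd_card_of_pow_dvd_card (by
          rw [hc]; exact Nat.dvd_of_mod_eq_zero h3)
        rw [(h9 P).1] at h7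
        omega
      · refine full_of h fun h9 => h3 ?_
        obtain ⟨P⟩ : Nonempty (Sylow 3 K) := inferInstance
        have h7 := (P : Subgroup K).card_subgroup_dvd_card
        have h8 : Nat.card (P : Subgroup K) = 9 := (h9 P).1
        rw [h8, hc] at h7
        exact Nat.mod_eq_zero_of_dvd h7
      · exact full_of_bad3 h h3
    have h7 := cases h hF hna ((by norm_num : 2 ∣ 4).trans h4') hp h2 (hc.trans h4.symm) hc rfl h6
    exact hE _ h7 k D h hF rfl rfl
  exact ⟨main 3, main 4⟩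

end Cfsg.Agent.H315.FxNum
end

private theorem dce_1f2156828374 : _root_.True := by
  try have : _root_.True := by simp only [_root_.Cfsg.Agent.H315.FxNum.chk.eq_def]
  exact _root_.True.intro
end

-- part: H315/FxExc
section
prune_inst 0x10000000000000
set_option linter.all false
open scoped Cfsg.Agent.FastGrp

/-!
# Fixity 3 and 4: tools for the exceptional pairs `(|D|, |N(D):D|)` (helper315)
-/

set_option autoImplicit false
set_option linter.unusedSectionVars false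

namespace Cfsg.Agent.H315.FxNum

open Subgroup Cfsg Cfsg.Agent.H254.Fx Cfsg.Agent.EvenType.StrongP

section

variable {G : Type*} [Group G] [Finite G] {k : ℕ} {D : Subgroup G}

/-- an involution centralizing an element of order `r` -/
theorem exists_inv (h : OddTI k D) (hF : Full D) {r : ℕ} (hr : r.Prime) (hd : r ∣ Nat.card D)
    (hr2 : ¬ r ^ 2 ∣ Nat.card G)
    (hi : D.relIndex (normalizer (D : Set G)) = 12 ∨
      (D.relIndex (normalizer (D : Set G)) = 4 ∧ ¬ 4 ∣ r - 1)) :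
    ∃ t x : G, orderOf t = 2 ∧ orderOf x = r ∧ t * x = x * t := by
  have := Fact.mk hr
  obtain ⟨P, hP⟩ := hF r hr hd
  have hdG : r ∣ Nat.card G := hd.trans (card_subgroup_dvd_card D)
  have hPr : Nat.card (P : Subgroup G) = r := by
    have h1 := P.card_eq_multiplicity
    rw [H904.SylOne.factorization_eq_one Nat.card_pos.ne' hdG hr2, pow_one] at h1
    exact h1
  have hP1 : (P : Subgroup G) ≠ ⊥ := sylow_ne_bot' P hdG
  have hNP : normalizer ((P : Subgroup G) : Set G) ≤ normalizer (D : Set G) := h.norm _ hP hP1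
  obtain ⟨x, hx⟩ := exists_prime_orderOf_dvd_card' (G := (P : Subgroup G)) r (by rw [hPr])
  have hx' : orderOf (x : G) = r := by rw [Subgroup.orderOf_coe]; exact hx
  by_contra hcon
  push Not at hcon
  let ψ := (P : Subgroup G).normalizerMonoidHom
  have hcyc : IsCyclic (P : Subgroup G) := isCyclic_of_prime_card hPr
  have hfin : Finite (MulAut (P : Subgroup G)) :=
    Finite.of_injective (fun f : MulAut (P : Subgroup G) => ⇑f) DFunLike.coe_injective
  have hA : Nat.card (MulAut (P : Subgroup G)) = r - 1 := by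
    rw [IsCyclic.card_mulAut, hPr, Nat.totient_prime hr]
  have hAc : IsCyclic (MulAut (P : Subgroup G)) := by
    have hz : Nonempty ((P : Subgroup G) ≃* Multiplicative (ZMod r)) := by
      refine ⟨mulEquivOfCyclicCardEq ?_⟩
      rw [hPr]
      simp
    obtain ⟨e⟩ := hz
    have e1 : MulAut (P : Subgroup G) ≃* MulAut (Multiplicative (ZMod r)) := MulAut.congr e
    have e2 : MulAut (Multiplicative (ZMod r)) ≃* (ZMod r)ˣ := by
      exact (IsCyclic.mulAutMulEquiv (Multiplicative (ZMod r))).trans (by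
        refine Units.mapEquiv (RingEquiv.toMulEquiv (ZMod.ringEquivCongr ?_))
        simp)
    exact isCyclic_of_surjective (e1.trans e2).symm.toMonoidHom (e1.trans e2).symm.surjective
  have h4 : 4 ∣ Nat.card (normalizer ((P : Subgroup G) : Set G)) := by
    refine dvd_trans ?_ (h.relIndex_dvd hr hP)
    rcases hi with h1 | ⟨h1, -⟩ <;> rw [h1] <;> norm_num
  obtain ⟨Q, hQ⟩ := Sylow.exists_subgroup_card_pow_prime (G := normalizer ((P : Subgroup G) : Set G)) 2 (n := 2)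
    (by simpa using h4)
  have hQ4 : Nat.card Q = 4 := by rw [hQ]; norm_num
  have hinj : Function.Injective (ψ.comp Q.subtype) := by
    rw [injective_iff_map_eq_one]
    intro y hy
    by_contra hy1
    have hy2 : (y : normalizer ((P : Subgroup G) : Set G)) ∈ ψ.ker := hy
    rw [Subgroup.normalizerMonoidHom_ker, mem_subgroupOf] at hy2
    -- a power of `y` is an involution
    have h5 : orderOf y ∣ 4 := by rw [← hQ4]; exact orderOf_dvd_natCard y
    have h6 : orderOf y ≠ 1 := by rw [Ne, orderOf_eq_one_iff]; exact hy1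
    have h7 : 2 ∣ orderOf y := by
      have h8 : orderOf y ∈ Nat.divisors 4 := Nat.mem_divisors.2 ⟨h5, by norm_num⟩
      have h9 : Nat.divisors 4 = {1, 2, 4} := by decide
      rw [h9] at h8
      simp only [Finset.mem_insert, Finset.mem_singleton] at h8
      rcases h8 with h8 | h8 | h8
      · exact absurd h8 h6
      · rw [h8]
      · rw [h8]; norm_num
    obtain ⟨c, hc⟩ := h7
    have h8 : orderOf (y ^ c) = 2 := by
      have hc0 : 0 < c := by
        have h1 := orderOf_pos y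
        rw [hc] at h1
        omega
      rw [orderOf_pow' y hc0.ne', hc, Nat.gcd_mul_left_left]
      exact Nat.mul_div_cancel _ hc0
    have h9 : orderOf (((y ^ c : Q) : normalizer ((P : Subgroup G) : Set G)) : G) = 2 := by
      rw [Subgroup.orderOf_coe, Subgroup.orderOf_coe]; exact h8
    refine hcon _ _ h9 hx' ?_
    have h10 : (((y ^ c : Q) : normalizer ((P : Subgroup G) : Set G)) : G) ∈ centralizer ((P : Subgroup G) : Set G) := by
      push_cast
      exact pow_mem hy2 c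
    rw [mem_centralizer_iff] at h10
    exact (h10 x x.2).symm
  have hQc : IsCyclic Q := isCyclic_of_injective _ hinj
  obtain ⟨y, hy⟩ := hQc.exists_generator
  have hy4 : orderOf y = 4 := by rw [orderOf_eq_card_of_forall_mem_zpowers hy, hQ4]
  rcases hi with h12 | ⟨-, h12⟩
  · have hyN : ((y : normalizer ((P : Subgroup G) : Set G)) : G) ∈ normalizer (D : Set G) := hNP (y : normalizer ((P : Subgroup G) : Set G)).2
    have ho : orderOf ((y : normalizer ((P : Subgroup G) : Set G)) : G) = 4 := by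
      rw [Subgroup.orderOf_coe, Subgroup.orderOf_coe]; exact hy4
    have h13 := h.four _ hyN (fun hmem => by
      have h14 : orderOf ((((y : normalizer ((P : Subgroup G) : Set G)) : G)) ^ 2) = 2 := by
        rw [orderOf_pow' _ (by norm_num), ho]
        norm_num
      have h15 := orderOf_dvd_card_of_mem hmem
      rw [h14] at h15
      have h4 := h.odd
      rw [← Nat.not_even_iff_odd, even_iff_two_dvd] at h4
      exact h4 h15) (by
      have : (((y : normalizer ((P : Subgroup G) : Set G)) : G)) ^ 4 = 1 := by rw [← ho]; exact pow_orderOf_eq_one _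
      rw [this]; exact one_mem _)
    rw [h12] at h13
    norm_num at h13
  · apply h12
    rw [← hA]
    have h16 : orderOf ((ψ.comp Q.subtype) y) = 4 := by rw [orderOf_injective _ hinj]; exact hy4
    rw [← h16]
    exact orderOf_dvd_natCard _

theorem dvd_centralizer {t x : G} {r : ℕ} (hx : orderOf x = r) (htx : t * x = x * t) :
    r ∣ Nat.card (centralizer ({t} : Set G)) := by
  rw [← hx]
  refine orderOf_dvd_card_of_mem ?_
  rw [mem_centralizer_singleton_iff]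
  exact htx.symm

/-- no strongly `r`-embedded subgroup -/
theorem false_of_noSP (h : OddTI k D) (hF : Full D) [IsSimpleGroup G] (h2 : 2 ∣ Nat.card G) {r : ℕ}
    [hr : Fact r.Prime] (hd : r ∣ Nat.card D) (hno : ∀ H : Subgroup G, ¬ IsStronglyPEmbedded r H) :
    False :=
  hno _ (strong h (normalizer_ne_top h h2) hd (not_dvd_relIndex hF hr.out hd))

/-- two Sylow subgroups have normalizers of the same order -/
theorem card_normalizer_of_card {r m : ℕ} [hr : Fact r.Prime] {A B : Subgroup G} (hA : Nat.card A = r ^ m)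
    (hB : Nat.card B = r ^ m) (hm : ¬ r ^ (m + 1) ∣ Nat.card G) :
    Nat.card (normalizer (A : Set G)) = Nat.card (normalizer (B : Set G)) := by
  have key : ∀ C : Subgroup G, Nat.card C = r ^ m → ∃ P : Sylow r G, (P : Subgroup G) = C := by
    intro C hC
    obtain ⟨P, hP⟩ := (IsPGroup.of_card hC).exists_le_sylow
    refine ⟨P, (Subgroup.eq_of_le_of_card_ge hP ?_).symm⟩
    obtain ⟨j, hj⟩ := (IsPGroup.iff_card (p := r)).1 P.isPGroup'
    have hj' : Nat.card (P : Subgroup G) = r ^ j := hj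
    rw [hj', hC]
    apply Nat.pow_le_pow_right hr.out.pos
    by_contra hlt
    exact hm ((pow_dvd_pow r (by omega : m + 1 ≤ j)).trans (hj' ▸ card_subgroup_dvd_card _))
  obtain ⟨P, rfl⟩ := key A hA
  obtain ⟨Q, rfl⟩ := key B hB
  obtain ⟨g, hg⟩ := MulAction.exists_smul_eq G P Q
  have h2 : (Q : Subgroup G) = (P : Subgroup G).map (MulAut.conj g).toMonoidHom := by
    rw [← hg, Sylow.coe_subgroup_smul]; rfl
  rw [h2, normalizer_map_eq, card_map_eq]

/-- Sylow's theorem in the centralizer of an involution -/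
theorem sylow_five_contra {t : G} (ht : orderOf t = 2) {n : ℕ} (hn : Nat.card (centralizer ({t} : Set G)) = n)
    (h25 : ¬ 5 ^ 2 ∣ Nat.card G) (h5 : 5 ∣ n) (hD : Nat.card D = 5)
    (hN : Nat.card (normalizer (D : Set G)) = 20) (h10 : n / 10 % 5 ≠ 1) (h20 : n / 20 % 5 ≠ 1) : False := by
  have : Fact (Nat.Prime 5) := ⟨Nat.prime_five⟩
  obtain ⟨C, hC⟩ : ∃ C : Subgroup G, C = centralizer ({t} : Set G) := ⟨_, rfl⟩
  rw [← hC] at hn
  obtain ⟨S⟩ : Nonempty (Sylow 5 C) := inferInstance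
  have hS5 : Nat.card (S : Subgroup C) = 5 := by
    have h1 := S.card_eq_multiplicity
    have h2 : ¬ 5 ^ 2 ∣ Nat.card C := fun h3 => h25 (h3.trans (card_subgroup_dvd_card C))
    rw [H904.SylOne.factorization_eq_one Nat.card_pos.ne' (by rw [hn]; exact h5) h2, pow_one] at h1
    exact h1
  have hmap : Nat.card ((S : Subgroup C).map C.subtype) = 5 := by
    rw [Subgroup.card_map_of_injective C.subtype_injective, hS5]
  have hN1 : Nat.card (normalizer (((S : Subgroup C).map C.subtype : Subgroup G) : Set G)) = 20 := by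
    rw [← hN]
    exact card_normalizer_of_card (r := 5) (m := 1) (by rw [hmap, pow_one]) (by rw [hD, pow_one]) h25
  obtain ⟨N, hNdef⟩ : ∃ N : Subgroup C, N = normalizer ((S : Subgroup C) : Set C) := ⟨_, rfl⟩
  have hle : N.map C.subtype ≤ normalizer (((S : Subgroup C).map C.subtype : Subgroup G) : Set G) := by
    rintro _ ⟨y, hy, rfl⟩
    replace hy : y ∈ normalizer ((S : Subgroup C) : Set C) := hNdef ▸ hy
    rw [mem_normalizer_iff] at hy ⊢
    intro z
    constructor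
    · rintro ⟨w, hw, rfl⟩
      exact ⟨y * w * y⁻¹, (hy w).1 hw, rfl⟩
    · rintro ⟨w, hw, hwz⟩
      refine ⟨y⁻¹ * w * y, ?_, ?_⟩
      · refine (hy _).2 ?_
        have : y * (y⁻¹ * w * y) * y⁻¹ = w := by group
        rw [this]; exact hw
      · have h3 : (w : G) = y * z * (y : G)⁻¹ := hwz
        show ((y : G))⁻¹ * (w : G) * (y : G) = z
        rw [h3]; group
  have h20' : Nat.card N ∣ 20 := by
    rw [← hN1, ← Subgroup.card_map_of_injective (K := N) C.subtype_injective]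
    exact card_dvd_of_le hle
  have htC : t ∈ C := by rw [hC, mem_centralizer_singleton_iff]
  have h2N : 2 ∣ Nat.card N := by
    have h3 : (⟨t, htC⟩ : C) ∈ N := by
      rw [hNdef]
      apply centralizer_le_normalizer
      rw [mem_centralizer_iff]
      intro y hy
      apply Subtype.ext
      have h4 : (y : G) ∈ centralizer ({t} : Set G) := hC ▸ y.2
      rw [mem_centralizer_singleton_iff] at h4
      exact h4
    have h4 := orderOf_dvd_card_of_mem h3
    rwa [Subgroup.orderOf_mk, ht] at h4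
  have h5N : 5 ∣ Nat.card N := by
    have h6 : Nat.card (S : Subgroup C) ∣ Nat.card N := hNdef ▸ card_dvd_of_le le_normalizer
    rwa [hS5] at h6
  have h10N : 10 ∣ Nat.card N := (by norm_num : Nat.Coprime 2 5).mul_dvd_of_dvd_of_dvd h2N h5N
  have hidx : N.index % 5 = 1 := by
    have h6 := card_sylow_modEq_one 5 C
    rw [Sylow.card_eq_index_normalizer S] at h6
    rw [hNdef]
    exact h6
  have h7 : Nat.card N * N.index = n := by rw [card_mul_index, hn]
  have h8 : Nat.card N = 10 ∨ Nat.card N = 20 := by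
    obtain ⟨c, hc⟩ := h10N
    rw [hc] at h20' ⊢
    have h9 : c ∣ 2 := Nat.dvd_of_mul_dvd_mul_left (by norm_num : 0 < 10) (by simpa using h20')
    rcases (Nat.dvd_prime Nat.prime_two).1 h9 with rfl | rfl
    · left; rfl
    · right; rfl
  rcases h8 with h8 | h8
  · rw [h8] at h7
    apply h10
    rw [← h7, Nat.mul_div_cancel_left _ (by norm_num)]
    exact hidx
  · rw [h8] at h7
    apply h20
    rw [← h7, Nat.mul_div_cancel_left _ (by norm_num)]
    exact hidx

end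

end Cfsg.Agent.H315.FxNum
end

-- part: H517/Fx/Alt_mg
section
prune_inst 0x8540264440e2020000000002000000201000000000000000002000000008002009002800000010000028000000000008110000000040000004000000000100208002040011000008040089000000000000000000000000000000000000010004000000000
set_option linter.all false
open scoped Cfsg.Agent.FastGrp

-- part: H517/Fx/Alt
section
/-!
# The alternating row of S3002 and S2993 (helper517)
-/

set_option autoImplicit false

namespace Cfsg.Agent.H517.FxAlt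

open Subgroup Equiv Equiv.Perm Cfsg.Agent.H254.Fx

theorem sign_via {α : Type*} [Fintype α] [DecidableEq α] {n : ℕ} (ι : α ↪ Fin n) (g : Perm α) :
    sign (viaEmbedding g ι) = sign g := by
  classical
  unfold viaEmbedding
  convert sign_extendDomain g (ofInjective ι.1 ι.2)

/-- the embedding of alternating groups -/
noncomputable def emb {α : Type*} [Fintype α] [DecidableEq α] {n : ℕ} (ι : α ↪ Fin n) :
    alternatingGroup α →* alternatingGroup (Fin n) :=
  ((viaEmbeddingHom ι).comp (alternatingGroup α).subtype).codRestrict (alternatingGroup (Fin n)) (by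
    intro g
    rw [mem_alternatingGroup]
    change sign (viaEmbedding (g : Perm α) ι) = 1
    rw [sign_via]
    exact g.2)

theorem emb_injective {α : Type*} [Fintype α] [DecidableEq α] {n : ℕ} (ι : α ↪ Fin n) :
    Function.Injective (emb ι) := by
  intro a b hab
  have h := congrArg Subtype.val hab
  exact Subtype.ext (viaEmbeddingHom_injective ι h)

theorem orderOf_emb {α : Type*} [Fintype α] [DecidableEq α] {n : ℕ} (ι : α ↪ Fin n) (x : alternatingGroup α) :
    orderOf (emb ι x) = orderOf x := orderOf_injective _ (emb_injective ι) x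

/-! ### primes at least 11 -/

section Big

variable {r : ℕ} [Fact r.Prime]

/-- the `r`-cycle -/
def cyc (r : ℕ) [Fact r.Prime] : Perm (ZMod r) := Equiv.addRight 1

theorem cyc_pow (k : ℕ) : cyc r ^ k = Equiv.addRight (k : ZMod r) := by
  induction k with
  | zero => ext z; simp
  | succ k ih =>
    rw [pow_succ, ih]
    ext z
    simp only [Perm.mul_apply, cyc, Equiv.coe_addRight]
    push_cast
    ring

theorem sign_eq_one_of_pow {α : Type*} [Fintype α] [DecidableEq α] {x : Perm α} {k : ℕ} (hk : Odd k) (h : x ^ k = 1) :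
    sign x = 1 := by
  have h1 : sign x ^ k = 1 := by rw [← map_pow, h, map_one]
  rcases Int.units_eq_one_or (sign x) with h2 | h2
  · exact h2
  · rw [h2, hk.neg_one_pow] at h1
    exact absurd h1 (by decide)

theorem kill_big {n : ℕ} (hn : r ≤ n) (hr : 11 ≤ r) : KillAll r (alternatingGroup (Fin n)) := by
  have hp : r.Prime := Fact.out
  have : NeZero r := ⟨hp.ne_zero⟩
  obtain ⟨g, hg⟩ := IsCyclic.exists_ofOrder_eq_natCard (α := (ZMod r)ˣ)
  have hcard : Nat.card (ZMod r)ˣ = r - 1 := by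
    rw [Nat.card_eq_fintype_card, ZMod.card_units_eq_totient, Nat.totient_prime hp]
  have hx1 : sign (cyc r) = 1 := by
    refine sign_eq_one_of_pow (k := r) (hp.odd_of_ne_two (by omega)) ?_
    rw [cyc_pow, ZMod.natCast_self]
    ext z
    simp
  let v : Perm (ZMod r) := Units.mulLeft g
  have hv : ∀ z, v z = g * z := fun z => rfl
  let u : Perm (ZMod r) := v * v
  have hu1 : sign u = 1 := by
    rw [map_mul]
    rcases Int.units_eq_one_or (sign v) with h2 | h2 <;> rw [h2] <;> decide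
  let j : ℕ := ((g : ZMod r) * g).val
  have hj : (j : ZMod r) = (g : ZMod r) * g := ZMod.natCast_zmod_val _
  have hc : u * cyc r = cyc r ^ j * u := by
    rw [cyc_pow, hj]
    ext z
    simp only [Perm.mul_apply, cyc, Equiv.coe_addRight, u, hv]
    ring
  have hc' : u * cyc r * u⁻¹ = cyc r ^ j := by
    rw [hc, mul_assoc, mul_inv_cancel, mul_one]
  let e : ZMod r ≃ Fin r := (ZMod.finEquiv r).symm.toEquiv
  let ι : ZMod r ↪ Fin n := e.toEmbedding.trans (Fin.castLEEmb hn)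
  let X : alternatingGroup (ZMod r) := ⟨cyc r, hx1⟩
  let U : alternatingGroup (ZMod r) := ⟨u, hu1⟩
  have hX : orderOf X = r := by
    rw [orderOf_eq_prime_iff]
    constructor
    · refine Subtype.ext ?_
      change cyc r ^ r = 1
      rw [cyc_pow, ZMod.natCast_self]
      ext z
      simp
    · intro h
      have h1 : cyc r = 1 := congrArg Subtype.val h
      have h2 : cyc r 0 = 0 := by rw [h1]; rfl
      simp [cyc] at h2
  have hU : U * X * U⁻¹ = X ^ j := Subtype.ext hc'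
  refine killAll_of_order (x := emb ι X) (u := emb ι U) (j := j) (by rw [orderOf_emb, hX]) ?_ ?_
  · rw [← map_pow, ← hU]
    simp only [_root_.map_mul, _root_.map_inv]
  · rw [hj, ← Units.val_mul, orderOf_units, ← pow_two, orderOf_pow, hg, hcard]
    have h2 : Nat.gcd (r - 1) 2 ≤ 2 := Nat.gcd_le_right _ (by norm_num)
    have h3 : 0 < Nat.gcd (r - 1) 2 := Nat.gcd_pos_of_pos_right _ (by norm_num)
    rw [Nat.le_div_iff_mul_le h3]
    calc 5 * Nat.gcd (r - 1) 2 ≤ 5 * 2 := by gcongr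
      _ ≤ r - 1 := by omega

end Big

/-! ### small primes, inside `A_9` -/

section Small

/-- the embedding of `A_9` -/
def io {n : ℕ} (hn : 9 ≤ n) : Fin 9 ↪ Fin n := Fin.castLEEmb hn

def x3 : alternatingGroup (Fin 9) := ⟨c[0, 1, 2], mem_alternatingGroup.2 (by decide)⟩
def x5 : alternatingGroup (Fin 9) := ⟨c[0, 1, 2, 3, 4], mem_alternatingGroup.2 (by decide)⟩
def u5 : alternatingGroup (Fin 9) := ⟨c[1, 2, 4, 3] * c[5, 6], mem_alternatingGroup.2 (by decide)⟩
def t5 : alternatingGroup (Fin 9) := ⟨c[5, 6] * c[7, 8], mem_alternatingGroup.2 (by decide)⟩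
def x7 : alternatingGroup (Fin 9) := ⟨c[0, 1, 2, 3, 4, 5, 6], mem_alternatingGroup.2 (by decide)⟩
def u7 : alternatingGroup (Fin 9) := ⟨c[1, 3, 2, 6, 4, 5] * c[7, 8], mem_alternatingGroup.2 (by decide)⟩

theorem orderOf_of {x : alternatingGroup (Fin 9)} {r : ℕ} (hr : r.Prime) (h1 : x ^ r = 1) (h2 : x ≠ 1) :
    orderOf x = r := by
  have : Fact r.Prime := ⟨hr⟩
  exact orderOf_eq_prime h1 h2

theorem kill_five {n : ℕ} (hn : 9 ≤ n) : KillAll 5 (alternatingGroup (Fin n)) := by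
  have hx : orderOf x5 = 5 := orderOf_of (by norm_num) (by decide +kernel) (by decide +kernel)
  have ht : orderOf t5 = 2 := orderOf_of (by norm_num) (by decide +kernel) (by decide +kernel)
  have hu : u5 * x5 * u5⁻¹ = x5 ^ 2 := by decide +kernel
  have htx : t5 * x5 = x5 * t5 := by decide +kernel
  refine killAll_of_bad (x := emb (io hn) x5) (by rw [orderOf_emb, hx]) ?_
  refine bad_of_four (r := 5) (u := emb (io hn) u5) (t := emb (io hn) t5) (j := 2) (by norm_num)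
    (by rw [orderOf_emb, hx]) ?_ ?_ (by rw [orderOf_emb, ht]) ?_
  · rw [← map_pow, ← hu]
    simp only [_root_.map_mul, _root_.map_inv]
  · have : orderOf ((2 : ℕ) : ZMod 5) = 2 ^ 2 := by
      refine orderOf_eq_prime_pow (p := 2) (n := 1) ?_ ?_ <;> decide
    rw [this]
    norm_num
  · rw [← map_mul, htx, map_mul]

theorem kill_seven {n : ℕ} (hn : 9 ≤ n) : KillAll 7 (alternatingGroup (Fin n)) := by
  have hx : orderOf x7 = 7 := orderOf_of (by norm_num) (by decide +kernel) (by decide +kernel)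
  have hu : u7 * x7 * u7⁻¹ = x7 ^ 3 := by decide +kernel
  refine killAll_of_conj (x := emb (io hn) x7) (u := emb (io hn) u7) (j := 3) (by rw [orderOf_emb, hx]) ?_
    (by decide) (by decide)
  rw [← map_pow, ← hu]
  simp only [_root_.map_mul, _root_.map_inv]

/-- `A_6` on the last six points -/
def i6 : Fin 6 ↪ Fin 9 := ⟨fun i => ⟨i.1 + 3, by omega⟩, fun a b h => by
  have := congrArg Fin.val h
  exact Fin.ext (by simpa using this)⟩

theorem x3_comm (g : alternatingGroup (Fin 6)) : emb i6 g * x3 = x3 * emb i6 g := by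
  refine Subtype.ext ?_
  change viaEmbedding (g : Perm (Fin 6)) i6 * c[0, 1, 2] = c[0, 1, 2] * viaEmbedding (g : Perm (Fin 6)) i6
  have hd : Perm.Disjoint (viaEmbedding (g : Perm (Fin 6)) i6) (c[0, 1, 2] : Perm (Fin 9)) := by
    intro i
    by_cases hi : i.1 < 3
    · left
      refine viaEmbedding_apply_of_notMem _ _ _ ?_
      rintro ⟨j, rfl⟩
      change j.1 + 3 < 3 at hi
      omega
    · right
      revert i
      decide
  exact hd.commute

theorem bad3 {n : ℕ} (hn : 9 ≤ n) : Bad3 (alternatingGroup (Fin n)) := by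
  have hx : orderOf x3 = 3 := orderOf_of (by norm_num) (by decide +kernel) (by decide +kernel)
  refine bad3_of_card (x := emb (io hn) x3) (by rw [orderOf_emb, hx]) ?_ (Or.inl ?_)
  · refine bad_of_hom_eight (emb (io hn)) (x := x3) (Y := (emb i6).range) ?_ ?_ ?_
    · rintro _ ⟨g, rfl⟩
      exact x3_comm g
    · intro y _ hy
      exact emb_injective (io hn) (by rw [hy, map_one])
    · rw [← Nat.card_congr (MonoidHom.ofInjective (emb_injective i6)).toEquiv, nat_card_alternatingGroup]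
      simp
      decide
  · have h1 : Nat.card (alternatingGroup (Fin 9)) ∣ Nat.card (alternatingGroup (Fin n)) :=
      Subgroup.card_dvd_of_injective _ (emb_injective (io hn))
    refine dvd_trans ?_ h1
    rw [nat_card_alternatingGroup]
    simp only [_root_.Nat.card_eq_fintype_card, _root_.Fintype.card_fin]
    decide

end Small

/-- **the alternating row** -/
theorem no34_alt {n : ℕ} (hn : 9 ≤ n) : No34 (alternatingGroup (Fin n)) := by
  refine no34_of (fun _ => bad3 hn) fun r hr h5 hd => Or.inl ?_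
  have : Fact r.Prime := ⟨hr⟩
  have hrn : r ≤ n := by
    have h1 : r ∣ Nat.factorial n := by
      refine hd.trans ?_
      have h2 := Subgroup.card_subgroup_dvd_card (alternatingGroup (Fin n))
      rwa [Nat.card_perm, Nat.card_fin] at h2
    exact (hr.dvd_factorial).1 h1
  rcases Nat.lt_or_ge r 11 with h11 | h11
  · have h12 : r = 5 ∨ r = 7 := by
      interval_cases r
      · exact Or.inl rfl
      · exact absurd hr (by norm_num)
      · exact Or.inr rfl
      · exact absurd hr (by norm_num)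
      · exact absurd hr (by norm_num)
      · exact absurd hr (by norm_num)
    rcases h12 with rfl | rfl
    · exact kill_five hn
    · exact kill_seven hn
  · exact kill_big hrn h11

end Cfsg.Agent.H517.FxAlt
end

-- part: H397/FxOrthD
section
/-!
# `KillAll r (PΩ(Q))` for all primes `r ≥ 5` different from the characteristic (helper397)
-/

set_option autoImplicit false
set_option linter.unusedSectionVars false
set_option linter.style.haveILetI false

open Matrix QuadraticMap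

namespace Cfsg.Agent.H397.FxOrth

open Cfsg.Agent.H193 Cfsg.Agent.H104.AtomIsom Cfsg.Agent.H104.AtomQuad
  Cfsg.Agent.H104.OmegaTools
  Cfsg.Agent.ClassicalGeometry.Reflection Cfsg.Agent.ClassicalGeometry.SpinorSign
  Cfsg.Agent.ClassicalGeometry.OmegaIndex
  Cfsg.Agent.ClassicalGeometry.OrthDickson Cfsg.Agent.H175.OmegaAdjust Cfsg.Agent.H104.IrrOmega
  Cfsg.Agent.LieClassical Cfsg.Agent.H254.Fx Cfsg.Agent.H104

section group

variable {G : Type*} [Group G] [Finite G]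

/-- an involution commuting with `x` and `u`, where `u` acts with order three on `⟨x⟩` -/
theorem killAll_three {x t u : G} {r j : ℕ} (hr : r.Prime) (hx : orderOf x = r)
    (hu : u * x * u⁻¹ = x ^ j) (hj : orderOf (j : ZMod r) = 3) (ht : orderOf t = 2) (htx : t * x = x * t)
    (htu : t * u = u * t) : KillAll r G := by
  obtain ⟨k, l, hl, hkl⟩ := Nat.exists_eq_two_pow_mul_odd (n := orderOf u) (orderOf_pos u).ne'
  obtain ⟨w, hw⟩ : ∃ w, w = u ^ 2 ^ k := ⟨_, rfl⟩
  have hwl : w ^ l = 1 := by rw [hw, ← pow_mul, ← hkl, pow_orderOf_eq_one]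
  have hwx : w * x * w⁻¹ = x ^ (j ^ 2 ^ k) := by rw [hw]; exact pow_conj_iter hu _
  have htw : Commute t w := by rw [hw]; exact Commute.pow_right htu _
  have ht2 : t ^ 2 = 1 := by rw [← ht]; exact pow_orderOf_eq_one t
  have ht1 : t ≠ 1 := by
    rintro rfl
    rw [orderOf_one] at ht
    omega
  obtain ⟨v, hv⟩ : ∃ v, v = t * w := ⟨_, rfl⟩
  have hvx : v * x * v⁻¹ = x ^ (j ^ 2 ^ k) := by
    rw [hv, ← hwx]
    calc t * w * x * (t * w)⁻¹ = t * (w * x * w⁻¹) * t⁻¹ := by group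
      _ = (w * x * w⁻¹) * t * t⁻¹ := by
        rw [hwx, (Commute.pow_right (show Commute t x from htx) _).eq]
      _ = _ := by group
  have h3 : v ^ 3 = t * w ^ 3 := by
    rw [hv, htw.mul_pow, pow_succ t 2, ht2, one_mul]
  have h4 : v ^ 4 = w ^ 4 := by
    rw [hv, htw.mul_pow, show (4 : ℕ) = 2 * 2 from rfl, pow_mul t, ht2, one_pow, one_mul]
  refine ⟨x, hx, Or.inr (Or.inl ⟨v, mem_normalizer_of_conj hvx, Or.inl ?_, Or.inr (Or.inr ?_)⟩)⟩
  · rw [h3]
    by_contra hodd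
    have hN : Odd (orderOf (t * w ^ 3)) := by
      rw [← Nat.not_even_iff_odd, even_iff_two_dvd]; exact hodd
    have h5 := pow_orderOf_eq_one (t * w ^ 3)
    rw [(htw.pow_right 3).mul_pow] at h5
    have h6 : (t ^ orderOf (t * w ^ 3)) ^ l = 1 := by
      have h7 : t ^ orderOf (t * w ^ 3) = ((w ^ 3) ^ orderOf (t * w ^ 3))⁻¹ := eq_inv_of_mul_eq_one_left h5
      have h8 : ((w ^ 3) ^ orderOf (t * w ^ 3)) ^ l = 1 := by
        rw [← pow_mul, ← pow_mul, show 3 * (orderOf (t * w ^ 3) * l) = l * (3 * orderOf (t * w ^ 3)) by ring, pow_mul,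
          hwl, one_pow]
      rw [h7, inv_pow, h8, inv_one]
    rw [← pow_mul] at h6
    have h8 := orderOf_dvd_of_pow_eq_one h6
    rw [ht] at h8
    have h9 : Odd (orderOf (t * w ^ 3) * l) := hN.mul hl
    rw [← Nat.not_even_iff_odd, even_iff_two_dvd] at h9
    exact h9 h8
  · rw [h4]
    intro hc
    have h5 := pow_conj_iter hwx 4
    rw [hc, mul_assoc, mul_inv_cancel, mul_one] at h5
    have h6 : x ^ 1 = x ^ ((j ^ 2 ^ k) ^ 4) := by rw [pow_one]; exact h5
    rw [pow_eq_pow_iff_modEq, hx] at h6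
    have h7 := (ZMod.natCast_eq_natCast_iff _ _ _).2 h6
    rw [← pow_mul, Nat.cast_pow, Nat.cast_one] at h7
    have h8 := orderOf_dvd_of_pow_eq_one h7.symm
    rw [hj] at h8
    have h9 : (2 ^ k * 4 : ℕ) = 2 ^ (k + 2) := by ring
    rw [h9] at h8
    have := Nat.prime_three.dvd_of_dvd_pow h8
    omega

end group

variable {F : Type} [Field F] {ι : Type} [Fintype ι] [DecidableEq ι] {Q : QuadraticForm F (ι → F)}

theorem fix_pow {M : GL ι F} {v : ι → F} (h : (M : Matrix ι ι F) *ᵥ v = v) (n : ℕ) :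
    ((M ^ n : GL ι F) : Matrix ι ι F) *ᵥ v = v := by
  induction n with
  | zero => rw [pow_zero, Units.val_one, Matrix.one_mulVec]
  | succ n ih => rw [pow_succ, Units.val_mul, ← Matrix.mulVec_mulVec, h, ih]

/-- the negative of an isometry -/
def ng (g : Cfsg.isometryGroup F ⇑Q) : Cfsg.isometryGroup F ⇑Q :=
  ⟨-(g : GL ι F), OrthConj.mem_isometryGroup.2 fun v => by
    rw [Units.val_neg, Matrix.neg_mulVec, QuadraticMap.map_neg]
    exact OrthConj.mem_isometryGroup.1 g.2 v⟩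

theorem ng_apply (g : Cfsg.isometryGroup F ⇑Q) (v : ι → F) :
    ((ng g : GL ι F) : Matrix ι ι F) *ᵥ v = -(((g : GL ι F) : Matrix ι ι F) *ᵥ v) := by
  show (((-(g : GL ι F) : GL ι F)) : Matrix ι ι F) *ᵥ v = _
  rw [Units.val_neg, Matrix.neg_mulVec]

theorem ng_comm {g h : Cfsg.isometryGroup F ⇑Q} (hc : g * h = h * g) : ng g * h = h * ng g := by
  apply isometryGroup_ext
  intro x
  rw [coe_mul_mulVec, coe_mul_mulVec, ng_apply, ng_apply, Matrix.mulVec_neg, ← coe_mul_mulVec, ← coe_mul_mulVec, hc]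

variable [Fintype F] (hQ : (polarBilin Q).Nondegenerate) (hn : 5 ≤ Fintype.card ι)
  (hs : ∃ u : ι → F, u ≠ 0 ∧ Q u = 0)

include hQ hn hs

theorem exists_moved {y : Cfsg.Omega F ⇑Q} (hy : y ≠ 1) :
    ∃ z : ι → F, z ≠ 0 ∧ ∀ v ∈ fixS (toLE (oGL Q y)), polar ⇑Q v z = 0 := by
  obtain ⟨z0, hz0⟩ : ∃ z0 : ι → F, (oGL Q y : Matrix ι ι F) *ᵥ z0 ≠ z0 := by
    by_contra hcon
    push Not at hcon
    apply hy
    apply oGL_injective Q
    rw [map_one]
    exact GL_ext fun v => by rw [hcon v, Units.val_one, Matrix.one_mulVec]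
  refine ⟨(oGL Q y : Matrix ι ι F) *ᵥ z0 - z0, sub_ne_zero.2 hz0, fun v hv => ?_⟩
  have h4 := polar_pres (y : Cfsg.isometryGroup F ⇑Q) v z0
  have h5 : (((y : Cfsg.isometryGroup F ⇑Q) : GL ι F) : Matrix ι ι F) *ᵥ v = v := mem_fix_iff.1 hv
  rw [h5] at h4
  rw [polar_sub_right, sub_eq_zero]
  exact h4

/-- the fixed space has dimension one -/
theorem kill_one {r W j : ℕ} {y : Cfsg.Omega F ⇑Q} (h : Atom Q r W j y) (hr : r.Prime) (hr2 : r ≠ 2)
    (hrF : (r : F) ≠ 0) (h2 : (2 : F) ≠ 0) (hW : Fintype.card ι = W + 1) (h6 : 6 ≤ W) :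
    KillAll r (Cfsg.POmega F ⇑Q) := by
  haveI : Finite (Cfsg.POmega F ⇑Q) := Quotient.finite _
  have hy1 : y ≠ 1 := by
    rintro rfl
    have := h.ord
    rw [orderOf_one] at this
    exact hr.one_lt.ne this
  have hx := orderOf_pj hQ hn hs hr hr2 h.ord
  have hfin : Module.finrank F (fixS (toLE (oGL Q y))) = 1 := by
    have := h.fix
    omega
  have hnd := h.nd hQ hn hrF
  have hb : fixS (toLE (oGL Q y)) ≠ ⊥ := by
    intro hb
    rw [hb, finrank_bot] at hfin
    omega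
  obtain ⟨v, hvX, hv⟩ := exists_nonsing Q _ hb hnd
  have hv0 : v ≠ 0 := by
    rintro rfl
    exact hv (map_zero Q)
  have hspan : ∀ w ∈ fixS (toLE (oGL Q y)), ∃ c : F, c • v = w := by
    intro w hw
    have h1 := (finrank_eq_one_iff_of_nonzero' (⟨v, hvX⟩ : fixS (toLE (oGL Q y)))
      (fun h => hv0 (congrArg Subtype.val h))).1 hfin ⟨w, hw⟩
    obtain ⟨c, hc⟩ := h1
    exact ⟨c, congrArg Subtype.val hc⟩
  obtain ⟨z, hz0, hz⟩ := exists_moved hQ hn hs hy1
  obtain ⟨S, hS⟩ : ∃ S, S = reflIso Q v hv := ⟨_, rfl⟩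
  have hSy : S * (y : Cfsg.isometryGroup F ⇑Q) = y * S := by
    rw [hS]
    exact Subgroup.mem_centralizer_singleton_iff.1 (refl_comm hQ hn (x := (y : Cfsg.isometryGroup F ⇑Q)) hv hvX)
  have hty := ng_comm hSy
  have hSv : ((S : GL ι F) : Matrix ι ι F) *ᵥ v = -v := by
    rw [hS, coe_reflIso, reflectionMatrix_mulVec_self Q v hv]
  have hSz : ((S : GL ι F) : Matrix ι ι F) *ᵥ z = z := by
    rw [hS, refl_apply hv (hz v hvX)]
  have hdet : ((ng S : GL ι F) : Matrix ι ι F).det = 1 := by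
    show (((-(S : GL ι F) : GL ι F)) : Matrix ι ι F).det = 1
    rw [Units.val_neg, Matrix.det_neg, hS, det_reflIso, hW]
    have h3 := h.even.add_one
    rw [h3.neg_one_pow]
    ring
  obtain ⟨g, hg⟩ := h.conj
  rcases Int.units_eq_one_or (spinorSign ⇑Q (1 : F) (ng S)) with hsp | hsp
  · -- the involution lies in `Ω`
    have hTΩ : ng S ∈ Cfsg.Omega F ⇑Q := by
      rw [mem_Omega_iff h2 Q hQ (by omega) one_ne_zero]
      exact ⟨hdet, hsp⟩
    have hSS : S * S = 1 := by rw [hS]; exact reflIso_mul_self _ _ _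
    have hTT : ng S * ng S = 1 := by
      apply isometryGroup_ext
      intro x
      rw [coe_mul_mulVec, ng_apply, ng_apply, Matrix.mulVec_neg, neg_neg, ← coe_mul_mulVec, hSS]
    -- `g` fixes the line
    have hgv : ((g : GL ι F) : Matrix ι ι F) *ᵥ v ∈ fixS (toLE (oGL Q y)) := by
      rw [mem_fix_iff]
      have h1 : ((((y : Cfsg.isometryGroup F ⇑Q) ^ j : Cfsg.isometryGroup F ⇑Q) : GL ι F) : Matrix ι ι F) *ᵥ
          (((g : GL ι F) : Matrix ι ι F) *ᵥ v) = ((g : GL ι F) : Matrix ι ι F) *ᵥ v := by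
        rw [← hg, ← coe_mul_mulVec, inv_mul_cancel_right, coe_mul_mulVec]
        congr 1
        exact mem_fix_iff.1 hvX
      have h3 : (oGL Q y) = ((((y : Cfsg.isometryGroup F ⇑Q) ^ j : Cfsg.isometryGroup F ⇑Q) : GL ι F)) ^ (j ^ (W - 1)) := by
        have h4 : oGL Q y = oGL Q ((y ^ j) ^ (j ^ (W - 1))) := by
          congr 1
          rw [← pow_mul, ← pow_succ', show W - 1 + 1 = W by have := h.two_le; omega]
          conv_lhs => rw [← pow_one y]
          rw [pow_eq_pow_iff_modEq, h.ord, ← ZMod.natCast_eq_natCast_iff, Nat.cast_pow, Nat.cast_one, ← h.jord,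
            pow_orderOf_eq_one]
        rw [h4, map_pow]
        rfl
      rw [h3]
      exact fix_pow h1 _
    obtain ⟨c, hc⟩ := hspan _ hgv
    have hgS : S * g = g * S := by
      have h4 : Q (((g : GL ι F) : Matrix ι ι F) *ᵥ v) ≠ 0 := by
        rw [OrthConj.mem_isometryGroup.1 g.2 v]; exact hv
      have h5 := conj_reflIso Q v hv g h4
      have h6 : reflIso Q (((g : GL ι F) : Matrix ι ι F) *ᵥ v) h4 = reflIso Q v hv := by
        have h7 : Q (c • v) ≠ 0 := by rw [hc]; exact h4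
        rw [← reflIso_smul Q hv h7]
        exact reflIso_congr Q _ _ hc.symm
      rw [h6, ← hS] at h5
      conv_lhs => rw [← h5]
      group
    have hgT := ng_comm hgS
    -- the square of `g`
    have hggΩ := sq_mem hQ hn g
    have hggy : (⟨g * g, hggΩ⟩ : Cfsg.Omega F ⇑Q) * y * (⟨g * g, hggΩ⟩ : Cfsg.Omega F ⇑Q)⁻¹ = y ^ (j ^ 2) := by
      apply Subtype.ext
      show g * g * (y : Cfsg.isometryGroup F ⇑Q) * (g * g)⁻¹ = (y : Cfsg.isometryGroup F ⇑Q) ^ (j ^ 2)
      have := pow_conj_iter hg 2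
      rwa [pow_two g] at this
    have hord : orderOf ((j ^ 2 : ℕ) : ZMod r) = W / 2 := by
      rw [Nat.cast_pow, orderOf_pow_of_dvd (by norm_num) (by rw [h.jord]; exact h.even.two_dvd), h.jord]
    have hπ : pj Q ⟨g * g, hggΩ⟩ * pj Q y * (pj Q ⟨g * g, hggΩ⟩)⁻¹ = pj Q y ^ (j ^ 2) := by
      simp only [← map_mul, ← map_inv, ← map_mul, hggy, map_pow]
    have hT2 : orderOf (pj Q ⟨ng S, hTΩ⟩) = 2 := by
      refine orderOf_eq_prime ?_ ?_
      · rw [← map_pow, pow_two]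
        have : (⟨ng S, hTΩ⟩ : Cfsg.Omega F ⇑Q) * ⟨ng S, hTΩ⟩ = 1 := Subtype.ext hTT
        rw [this, map_one]
      · intro h1
        rw [QuotientGroup.mk'_apply, QuotientGroup.eq_one_iff,
          OmegaCenter.mem_center_omega_iff Q hQ (by omega) hs] at h1
        have hap : ∀ x, OmegaCenter.omegaMat (⟨ng S, hTΩ⟩ : Cfsg.Omega F ⇑Q) *ᵥ x =
          -(((S : GL ι F) : Matrix ι ι F) *ᵥ x) := fun x => ng_apply S x
        have e1 := hap v
        have e2 := hap z
        rw [hSv, neg_neg] at e1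
        rw [hSz] at e2
        have two : ∀ x : ι → F, x = -x → x = 0 := by
          intro x hx
          have h7 : (2 : F) • x = 0 := by
            rw [two_smul]
            nth_rewrite 2 [hx]
            exact add_neg_cancel x
          exact (smul_eq_zero.1 h7).resolve_left h2
        rcases h1 with h1 | h1
        · rw [h1, Matrix.one_mulVec] at e2
          exact hz0 (two z e2)
        · rw [h1, Matrix.neg_mulVec, Matrix.one_mulVec] at e1
          exact hv0 (two v e1.symm)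
    have hTy : pj Q ⟨ng S, hTΩ⟩ * pj Q y = pj Q y * pj Q ⟨ng S, hTΩ⟩ := by
      rw [← map_mul, ← map_mul]
      congr 1
      exact Subtype.ext hty
    have hTg : pj Q ⟨ng S, hTΩ⟩ * pj Q ⟨g * g, hggΩ⟩ = pj Q ⟨g * g, hggΩ⟩ * pj Q ⟨ng S, hTΩ⟩ := by
      rw [← map_mul, ← map_mul]
      congr 1
      apply Subtype.ext
      show ng S * (g * g) = g * g * ng S
      rw [← mul_assoc, hgT, mul_assoc, hgT, mul_assoc]
    obtain ⟨k, hk⟩ := h.even
    have hk' : W / 2 = k := by omega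
    rw [hk'] at hord
    rcases Nat.lt_or_ge k 5 with hlt | hge
    · have h34 : k = 3 ∨ k = 4 := by omega
      rcases h34 with h34 | h34
      · rw [h34] at hord
        exact killAll_three hr hx hπ hord hT2 hTy hTg
      · refine killAll_of_bad hx (bad_of_four hr hx hπ ?_ hT2 hTy)
        rw [hord, h34]
    · exact killAll_of_order hx hπ (by omega)
  · -- the centralizer covers `O / Ω`
    obtain ⟨s, hs', hgs⟩ := adjust_odd Q h2 hQ (by omega) (Subgroup.centralizer {(y : Cfsg.isometryGroup F ⇑Q)}) S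
      (ng S) (Subgroup.mem_centralizer_singleton_iff.2 hSy) (Subgroup.mem_centralizer_singleton_iff.2 hty)
      (by rw [hS]; exact det_reflIso Q v hv) hdet hsp g
    have hsy := Subgroup.mem_centralizer_singleton_iff.1 hs'
    have hconj : (⟨g * s, hgs⟩ : Cfsg.Omega F ⇑Q) * y * (⟨g * s, hgs⟩ : Cfsg.Omega F ⇑Q)⁻¹ = y ^ j := by
      apply Subtype.ext
      show g * s * (y : Cfsg.isometryGroup F ⇑Q) * (g * s)⁻¹ = (y : Cfsg.isometryGroup F ⇑Q) ^ j
      rw [← hg, mul_assoc g s, hsy]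
      group
    refine killAll_of_order hx (u := pj Q ⟨g * s, hgs⟩) (j := j) ?_ (by rw [h.jord]; omega)
    simp only [← map_mul, ← map_inv, ← map_mul, hconj, map_pow]

/-- **Killing an atom.** -/
theorem Atom.kill {r W j : ℕ} {y : Cfsg.Omega F ⇑Q} (h : Atom Q r W j y) (hr : r.Prime) (hr2 : r ≠ 2)
    (hrF : (r : F) ≠ 0) (h7 : ((2 : F) ≠ 0 ∧ 7 ≤ Fintype.card ι) ∨ (8 ≤ Fintype.card ι ∧ Even (Fintype.card ι)))
    (h8 : ¬ (W = 8 ∧ Fintype.card ι = 8)) : KillAll r (Cfsg.POmega F ⇑Q) := by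
  haveI : Finite (Cfsg.POmega F ⇑Q) := Quotient.finite _
  have hy1 : y ≠ 1 := by
    rintro rfl
    have := h.ord
    rw [orderOf_one] at this
    exact hr.one_lt.ne this
  have hx := orderOf_pj hQ hn hs hr hr2 h.ord
  have hfix := h.fix
  have h2W := h.two_le
  obtain ⟨k, hk⟩ := h.even
  have hnd := h.nd hQ hn hrF
  by_cases hW : W + 2 ≤ Fintype.card ι
  · obtain ⟨u, hu⟩ := h.conj_omega hQ hn hrF hW
    have hπ : pj Q u * pj Q y * (pj Q u)⁻¹ = pj Q y ^ j := by
      simp only [← map_mul (pj Q) u y, ← map_inv (pj Q) u, ← map_mul (pj Q) (u * y) (u⁻¹), hu, map_pow (pj Q) y j]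
    rcases Nat.lt_or_ge W 5 with hlt | hge
    · have hW24 : W = 2 ∨ W = 4 := by omega
      rcases hW24 with hW2 | hW4
      · refine killAll_of_bad hx (bad_of_two hr hx hπ (by rw [h.jord, hW2]) (four_dvd_cent hQ hn hs hy1 hnd ?_))
        rcases h7 with h7 | h7
        · exact Or.inl ⟨h7.1, by omega⟩
        · exact Or.inr (by omega)
      · obtain ⟨t, ht, hty⟩ := exists_invol hQ hn hs hy1 hnd (by
          rcases h7 with h7 | h7
          · exact Or.inl ⟨h7.1, by omega⟩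
          · exact Or.inr (by omega))
        exact killAll_of_bad hx (bad_of_four hr hx hπ (by rw [h.jord, hW4]) ht hty)
    · exact killAll_of_order hx hπ (by rw [h.jord]; exact hge)
  · by_cases hW1 : Fintype.card ι = W + 1
    · refine kill_one hQ hn hs h hr hr2 hrF ?_ hW1 (by rcases h7 with h7 | h7 <;> omega)
      rcases h7 with h7 | h7
      · exact h7.1
      · obtain ⟨l, hl⟩ := h7.2
        omega
    · have hW0 : Fintype.card ι = W := by omega
      obtain ⟨g, hg⟩ := h.conj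
      have hggΩ := sq_mem hQ hn g
      have hggy : (⟨g * g, hggΩ⟩ : Cfsg.Omega F ⇑Q) * y * (⟨g * g, hggΩ⟩ : Cfsg.Omega F ⇑Q)⁻¹ = y ^ (j ^ 2) := by
        apply Subtype.ext
        show g * g * (y : Cfsg.isometryGroup F ⇑Q) * (g * g)⁻¹ = (y : Cfsg.isometryGroup F ⇑Q) ^ (j ^ 2)
        have := pow_conj_iter hg 2
        rwa [pow_two g] at this
      have hord : orderOf ((j ^ 2 : ℕ) : ZMod r) = W / 2 := by
        rw [Nat.cast_pow, orderOf_pow_of_dvd (by norm_num) (by rw [h.jord]; exact h.even.two_dvd), h.jord]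
      refine killAll_of_order hx (u := pj Q ⟨g * g, hggΩ⟩) (j := j ^ 2) ?_ ?_
      · simp only [← map_mul (pj Q) (⟨g * g, hggΩ⟩) y, ← map_inv (pj Q) (⟨g * g, hggΩ⟩), ← map_mul (pj Q) (⟨g * g, hggΩ⟩ * y) (⟨g * g, hggΩ⟩⁻¹), hggy, map_pow (pj Q) y (j ^ 2)]
      · rw [hord]
        have : W ≠ 8 := fun h => h8 ⟨h, by (clear * - hfix hk hW0 h; omega)⟩
        rcases h7 with h7 | h7 <;> (clear * - hk hW0 this h7; omega)

end Cfsg.Agent.H397.FxOrth
end

-- part: H397/FxOrthE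
section
/-!
# The prime three, the defining characteristic, and the main criterion for `PΩ(Q)` (helper397)
-/

set_option autoImplicit false
set_option linter.unusedSectionVars false
set_option linter.style.haveILetI false

open Matrix QuadraticMap

namespace Cfsg.Agent.H397.FxOrth

open Cfsg.Agent.H193 Cfsg.Agent.H104.AtomIsom Cfsg.Agent.H104.AtomQuad
  Cfsg.Agent.H104.OmegaTools
  Cfsg.Agent.ClassicalGeometry.Reflection Cfsg.Agent.ClassicalGeometry.SpinorSign
  Cfsg.Agent.ClassicalGeometry.OmegaIndex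
  Cfsg.Agent.ClassicalGeometry.OrthDickson Cfsg.Agent.H175.OmegaAdjust Cfsg.Agent.H104.IrrOmega
  Cfsg.Agent.LieClassical Cfsg.Agent.H254.Fx Cfsg.Agent.H104

section cross

variable {F : Type} [Field F] {ι : Type} [Fintype ι] [DecidableEq ι] {Q : QuadraticForm F (ι → F)}

theorem card_dvd (Q : QuadraticForm F (ι → F)) {r : ℕ} (h : r ∣ Nat.card (Cfsg.POmega F ⇑Q)) :
    r ∣ Nat.card (Cfsg.isometryGroup F ⇑Q) :=
  (h.trans (Subgroup.card_quotient_dvd_card _)).trans (Subgroup.card_subgroup_dvd_card _)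

variable [Fintype F] (hQ : (polarBilin Q).Nondegenerate) (hs : ∃ u : ι → F, u ≠ 0 ∧ Q u = 0)
  (h7 : ((2 : F) ≠ 0 ∧ 7 ≤ Fintype.card ι) ∨ (8 ≤ Fintype.card ι ∧ Even (Fintype.card ι)))

include hQ hs h7

/-- **All primes `r ≥ 5` different from the characteristic.** -/
theorem killAll_cross {r : ℕ} (hr : r.Prime) (hr2 : r ≠ 2) (hrF : (r : F) ≠ 0)
    (hd : r ∣ Nat.card (Cfsg.POmega F ⇑Q))
    (h8 : ¬ (orderOf ((Fintype.card F : ℕ) : ZMod r) = 8 ∧ Fintype.card ι = 8)) :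
    KillAll r (Cfsg.POmega F ⇑Q) := by
  have hn : 5 ≤ Fintype.card ι := by rcases h7 with h | h <;> omega
  obtain ⟨W, j, y, h, hW⟩ := exists_atom hQ hn hr hr2 hrF (card_dvd Q hd)
  refine h.kill hQ hn hs hr hr2 hrF h7 ?_
  rintro ⟨h1, h2⟩
  apply h8
  refine ⟨?_, h2⟩
  rw [h1] at hW
  by_cases ho : Odd (orderOf ((Fintype.card F : ℕ) : ZMod r))
  · rw [if_pos ho] at hW
    obtain ⟨k, hk⟩ := ho
    omega
  · rw [if_neg ho] at hW
    exact hW.symm

/-- **The prime three**, characteristic different from three. -/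
theorem bad3_cross (h3 : (3 : F) ≠ 0) (hd : 27 ∣ Nat.card (Cfsg.POmega F ⇑Q)) : Bad3 (Cfsg.POmega F ⇑Q) := by
  haveI : Finite (Cfsg.POmega F ⇑Q) := Quotient.finite _
  have hn : 5 ≤ Fintype.card ι := by rcases h7 with h | h <;> omega
  have h3d : 3 ∣ Nat.card (Cfsg.POmega F ⇑Q) := dvd_trans (by norm_num) hd
  obtain ⟨W, j, y, h, -⟩ := exists_atom hQ hn Nat.prime_three (by norm_num) (by exact_mod_cast h3) (card_dvd Q h3d)
  have hx := orderOf_pj hQ hn hs Nat.prime_three (by norm_num) h.ord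
  have hy1 : y ≠ 1 := by
    rintro rfl
    have := h.ord
    rw [orderOf_one] at this
    omega
  have hW2 : W = 2 := by
    have h1 : ∀ a : ZMod 3, orderOf a ≤ 2 := by
      intro a
      by_cases ha : a = 0
      · rw [ha, orderOf_zero]; norm_num
      · refine Nat.le_of_dvd (by norm_num) (orderOf_dvd_of_pow_eq_one ?_)
        revert a
        decide
    have h2 := h1 (j : ZMod 3)
    rw [h.jord] at h2
    have := h.two_le
    omega
  subst hW2
  obtain ⟨u, hu⟩ := h.conj_omega hQ hn (by exact_mod_cast h3) (by omega)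
  have hπ : pj Q u * pj Q y * (pj Q u)⁻¹ = pj Q y ^ j := by
    simp only [← map_mul, ← map_inv, ← map_mul, hu, map_pow]
  have hfix := h.fix
  refine bad3_of_card hx (bad_of_two Nat.prime_three hx hπ (by rw [h.jord]) (four_dvd_cent hQ hn hs hy1
    (h.nd hQ hn (by exact_mod_cast h3)) ?_)) (Or.inl hd)
  rcases h7 with h7 | h7
  · exact Or.inl ⟨h7.1, by omega⟩
  · exact Or.inr (by omega)

end cross

/-! ### blocks -/

section block

variable {F : Type} [Field F] {κ κ' : Type} [Fintype κ] [DecidableEq κ] [Fintype κ'] [DecidableEq κ']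

/-- block diagonal isometries -/
noncomputable def blk2 (Q₁ : (κ → F) → F) (Q₂ : (κ' → F) → F) :
    Cfsg.isometryGroup F Q₁ × Cfsg.isometryGroup F Q₂ →*
      Cfsg.isometryGroup F (fun v : κ ⊕ κ' → F => Q₁ (v ∘ Sum.inl) + Q₂ (v ∘ Sum.inr)) :=
  let M : Matrix κ κ F × Matrix κ' κ' F →* Matrix (κ ⊕ κ') (κ ⊕ κ') F :=
    { toFun := fun p => fromBlocks p.1 0 0 p.2
      map_one' := fromBlocks_one
      map_mul' := fun a b => by rw [fromBlocks_multiply]; simp }
  MonoidHom.codRestrict (((Units.map M).comp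
    (MulEquiv.prodUnits (M := Matrix κ κ F) (N := Matrix κ' κ' F)).symm.toMonoidHom).comp
      (MonoidHom.prodMap (Cfsg.isometryGroup F Q₁).subtype (Cfsg.isometryGroup F Q₂).subtype)) _ (by
    rintro ⟨g, g'⟩ u v
    change Q₁ (((fromBlocks ((g : GL κ F) : Matrix κ κ F) 0 0 ((g' : GL κ' F) : Matrix κ' κ' F) :
        Matrix (κ ⊕ κ') (κ ⊕ κ') F) *ᵥ u) ∘ Sum.inl) +
      Q₂ (((fromBlocks ((g : GL κ F) : Matrix κ κ F) 0 0 ((g' : GL κ' F) : Matrix κ' κ' F) :
        Matrix (κ ⊕ κ') (κ ⊕ κ') F) *ᵥ u) ∘ Sum.inr) =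
      Q₁ (u ∘ Sum.inl) + Q₂ (u ∘ Sum.inr)
    rw [fromBlocks_mulVec]
    have h1 : Q₁ (((g : GL κ F) : Matrix κ κ F) *ᵥ (u ∘ Sum.inl)) = Q₁ (u ∘ Sum.inl) :=
      g.2 (u ∘ Sum.inl) (u ∘ Sum.inl)
    have h2 : Q₂ (((g' : GL κ' F) : Matrix κ' κ' F) *ᵥ (u ∘ Sum.inr)) = Q₂ (u ∘ Sum.inr) :=
      g'.2 (u ∘ Sum.inr) (u ∘ Sum.inr)
    simp only [Matrix.zero_mulVec, add_zero, zero_add, Sum.elim_comp_inl, Sum.elim_comp_inr]
    rw [h1, h2])

theorem blk2_coe (Q₁ : (κ → F) → F) (Q₂ : (κ' → F) → F) (g : Cfsg.isometryGroup F Q₁) (g' : Cfsg.isometryGroup F Q₂) :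
    (((blk2 Q₁ Q₂ (g, g') : Cfsg.isometryGroup F (fun v : κ ⊕ κ' → F => Q₁ (v ∘ Sum.inl) + Q₂ (v ∘ Sum.inr))) :
      GL (κ ⊕ κ') F) : Matrix (κ ⊕ κ') (κ ⊕ κ') F) =
      fromBlocks ((g : GL κ F) : Matrix κ κ F) 0 0 ((g' : GL κ' F) : Matrix κ' κ' F) := rfl

theorem blk2_injective (Q₁ : (κ → F) → F) (Q₂ : (κ' → F) → F) : Function.Injective (blk2 Q₁ Q₂) := by
  rintro ⟨g, g'⟩ ⟨h, h'⟩ hgh
  have h1 := congrArg (fun z : Cfsg.isometryGroup F (fun v : κ ⊕ κ' → F => Q₁ (v ∘ Sum.inl) + Q₂ (v ∘ Sum.inr)) =>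
    ((z : GL (κ ⊕ κ') F) : Matrix (κ ⊕ κ') (κ ⊕ κ') F)) hgh
  simp only [blk2_coe] at h1
  have h2 := fromBlocks_inj.1 h1
  exact Prod.ext (Subtype.ext (Units.ext h2.1)) (Subtype.ext (Units.ext h2.2.2.2))

variable {ι : Type} [Fintype ι] [DecidableEq ι]

/-- **Blocks.** -/
theorem exists_bad_block [Finite F] [Nonempty κ] (e : κ ⊕ κ' ≃ ι) (Q₁ : (κ → F) → F) (Q₂ : (κ' → F) → F)
    (Q : QuadraticForm F (ι → F)) (h : ∀ v, Q v = Q₁ (v ∘ e ∘ Sum.inl) + Q₂ (v ∘ e ∘ Sum.inr))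
    (hQ : (polarBilin Q).Nondegenerate) (hn : 5 ≤ Fintype.card ι) (hs : ∃ u : ι → F, u ≠ 0 ∧ Q u = 0)
    {r : ℕ} (hr : r.Prime) (hr2 : r ≠ 2) (hd : r ∣ Nat.card (Cfsg.isometryGroup F Q₁))
    (h32 : 32 ∣ Nat.card (Cfsg.isometryGroup F Q₂)) (hi : (Cfsg.Omega F ⇑Q).index ∣ 4) :
    ∃ x : Cfsg.POmega F ⇑Q, orderOf x = r ∧ Bad x := by
  haveI : Fact r.Prime := ⟨hr⟩
  haveI : Finite (Cfsg.POmega F ⇑Q) := Quotient.finite _
  obtain ⟨R, hR⟩ : ∃ R, R = OmegaReindex.isometryGroupReindex e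
    (fun v : κ ⊕ κ' → F => Q₁ (v ∘ Sum.inl) + Q₂ (v ∘ Sum.inr)) ⇑Q (fun v => h v) := ⟨_, rfl⟩
  have hRc : ∀ g, ((R g : GL ι F) : Matrix ι ι F) = ((g : GL (κ ⊕ κ') F) : Matrix (κ ⊕ κ') (κ ⊕ κ') F).submatrix
      e.symm e.symm := fun g => by
    rw [hR]; exact OmegaReindex.coe_isometryGroupReindex _ _ _ _ g
  obtain ⟨f, hf⟩ : ∃ f : Cfsg.isometryGroup F Q₁ × Cfsg.isometryGroup F Q₂ →* Cfsg.isometryGroup F ⇑Q,
    f = R.toMonoidHom.comp (blk2 Q₁ Q₂) := ⟨_, rfl⟩
  have hfi : Function.Injective f := by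
    rw [hf]; exact R.injective.comp (blk2_injective Q₁ Q₂)
  obtain ⟨x1, hx1⟩ := exists_prime_orderOf_dvd_card' r hd
  have hxr : (f (x1, 1)) ^ r = 1 := by
    rw [← map_pow, Prod.pow_mk, one_pow, ← hx1, pow_orderOf_eq_one]
    exact map_one f
  have hxΩ : f (x1, 1) ∈ Cfsg.Omega F ⇑Q := mem_of_odd hQ hn (hr.odd_of_ne_two hr2) hxr
  have hxo : orderOf (⟨f (x1, 1), hxΩ⟩ : Cfsg.Omega F ⇑Q) = r := by
    refine orderOf_eq_prime (Subtype.ext hxr) ?_
    intro h1
    have h2 : f (x1, 1) = 1 := congrArg Subtype.val h1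
    have h3 : (x1, (1 : Cfsg.isometryGroup F Q₂)) = 1 := hfi (by rw [h2, map_one])
    have h4 : x1 = 1 := congrArg Prod.fst h3
    rw [h4, orderOf_one] at hx1
    exact hr.one_lt.ne hx1
  -- the commuting subgroup
  obtain ⟨f2, hf2⟩ : ∃ f2, f2 = f.comp (MonoidHom.inr (Cfsg.isometryGroup F Q₁) (Cfsg.isometryGroup F Q₂)) := ⟨_, rfl⟩
  have hf2i : Function.Injective f2 := by
    rw [hf2]
    intro a b hab
    have := hfi hab
    exact congrArg Prod.snd this
  have hcard : Nat.card f2.range = Nat.card (Cfsg.isometryGroup F Q₂) :=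
    (Nat.card_congr (MonoidHom.ofInjective hf2i).toEquiv).symm
  obtain ⟨Y, hY⟩ : ∃ Y : Subgroup (Cfsg.Omega F ⇑Q), Y = f2.range.subgroupOf (Cfsg.Omega F ⇑Q) := ⟨_, rfl⟩
  haveI hnorm : (Cfsg.Omega F ⇑Q).Normal := inferInstanceAs (commutator _).Normal
  have hYc : 8 ∣ Nat.card Y := by
    have h1 : Nat.card Y = Nat.card ↥(f2.range ⊓ Cfsg.Omega F ⇑Q) := by
      rw [hY, ← Subgroup.inf_subgroupOf_right]
      exact Nat.card_congr (Subgroup.subgroupOfEquivOfLe inf_le_right).toEquiv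
    have h2 : Nat.card ↥(f2.range ⊓ Cfsg.Omega F ⇑Q) * (Cfsg.Omega F ⇑Q).relIndex f2.range = Nat.card f2.range := by
      rw [Subgroup.relIndex, ← Subgroup.card_mul_index ((Cfsg.Omega F ⇑Q).subgroupOf f2.range)]
      congr 1
      rw [inf_comm, ← Subgroup.inf_subgroupOf_right]
      exact (Nat.card_congr (Subgroup.subgroupOfEquivOfLe inf_le_right).toEquiv).symm
    have h3 : (Cfsg.Omega F ⇑Q).relIndex f2.range ∣ 4 := (Subgroup.relIndex_dvd_index_of_normal _ _).trans hi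
    rw [h1]
    have h4 : 32 ∣ Nat.card ↥(f2.range ⊓ Cfsg.Omega F ⇑Q) * (Cfsg.Omega F ⇑Q).relIndex f2.range := by
      rw [h2, hcard]; exact h32
    have h5 : 8 * 4 ∣ Nat.card ↥(f2.range ⊓ Cfsg.Omega F ⇑Q) * 4 :=
      (by norm_num : 8 * 4 ∣ 32).trans (h4.trans (mul_dvd_mul_left _ h3))
    exact Nat.dvd_of_mul_dvd_mul_right (by norm_num) h5
  refine ⟨pj Q ⟨f (x1, 1), hxΩ⟩, orderOf_pj hQ hn hs hr hr2 hxo, bad_of_hom_eight (pj Q) (Y := Y) ?_ ?_ hYc⟩
  · intro y hy
    rw [hY, Subgroup.mem_subgroupOf] at hy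
    obtain ⟨b, hb⟩ := hy
    apply Subtype.ext
    show (y : Cfsg.isometryGroup F ⇑Q) * f (x1, 1) = f (x1, 1) * y
    rw [← hb, hf2]
    show f (1, b) * f (x1, 1) = f (x1, 1) * f (1, b)
    rw [← map_mul, ← map_mul]
    congr 1
    rw [Prod.mk_mul_mk, Prod.mk_mul_mk, one_mul, mul_one, one_mul, mul_one]
  · intro y hy hy1
    rw [hY, Subgroup.mem_subgroupOf] at hy
    obtain ⟨b, hb⟩ := hy
    rw [QuotientGroup.mk'_apply, QuotientGroup.eq_one_iff, OmegaCenter.mem_center_omega_iff Q hQ (by omega) hs] at hy1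
    rcases hy1 with hy1 | hy1
    · apply OmegaCenter.omega_ext
      rw [hy1]
      rfl
    · obtain ⟨i⟩ := ‹Nonempty κ›
      have h1 : OmegaCenter.omegaMat y (e (Sum.inl i)) (e (Sum.inl i)) = 1 := by
        show (((y : Cfsg.isometryGroup F ⇑Q) : GL ι F) : Matrix ι ι F) _ _ = 1
        rw [← hb, hf2]
        show ((f (1, b) : GL ι F) : Matrix ι ι F) _ _ = 1
        rw [hf]
        show ((R (blk2 Q₁ Q₂ (1, b)) : GL ι F) : Matrix ι ι F) _ _ = 1
        rw [hRc, Matrix.submatrix_apply, Equiv.symm_apply_apply, blk2_coe, Matrix.fromBlocks_apply₁₁]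
        exact Matrix.one_apply_eq i
      rw [hy1, Matrix.neg_apply, Matrix.one_apply_eq] at h1
      apply OmegaCenter.omega_ext
      rw [hy1]
      show (-1 : Matrix ι ι F) = 1
      ext a c
      rw [Matrix.neg_apply, Matrix.one_apply]
      split_ifs
      · exact h1
      · exact neg_zero

end block

end Cfsg.Agent.H397.FxOrth
end

-- part: H397/FxOrthRows
section
/-!
# The orthogonal rows of `No34` (S3002, S2993) (helper397)
-/

set_option autoImplicit false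
set_option linter.unusedSectionVars false
set_option linter.style.haveILetI false

open Matrix QuadraticMap

namespace Cfsg.Agent.H397.FxOrth

open Cfsg.Agent.LieClassical Cfsg.Agent.H254.Fx Cfsg.Agent.H104

theorem nt27 {q e k : ℕ} (he : 3 ≤ e) (hk : 3 ≤ k) :
    27 ∣ q ^ e * ∏ i ∈ Finset.range k, (q ^ (2 * (i + 1)) - 1) := by
  by_cases h3 : 3 ∣ q
  · refine Dvd.dvd.mul_right ?_ _
    have h1 : 3 ^ 3 ∣ q ^ 3 := pow_dvd_pow_of_dvd h3 3
    exact (by norm_num : 27 ∣ 3 ^ 3).trans (h1.trans (pow_dvd_pow q he))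
  · refine Dvd.dvd.mul_left ?_ _
    have h1 : ∏ i ∈ Finset.range 3, (q ^ (2 * (i + 1)) - 1) ∣ ∏ i ∈ Finset.range k, (q ^ (2 * (i + 1)) - 1) :=
      Finset.prod_dvd_prod_of_subset _ _ _ (Finset.range_subset_range.2 hk)
    refine dvd_trans ?_ h1
    have h2 : ∀ i ∈ Finset.range 3, 3 ∣ q ^ (2 * (i + 1)) - 1 := by
      intro i _
      have h4 : q ^ 2 % 3 = 1 := by
        have : q % 3 = 1 ∨ q % 3 = 2 := by omega
        rcases this with h | h <;> simp [Nat.pow_mod, h]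
      have h5 : q ^ (2 * (i + 1)) % 3 = 1 := by
        rw [pow_mul, Nat.pow_mod, h4]
        simp
      omega
    have h6 := Finset.prod_dvd_prod_of_dvd (fun _ => 3) _ h2
    rw [Finset.prod_const, Finset.card_range] at h6
    exact (by norm_num : 27 ∣ 3 ^ 3).trans h6

theorem nt32 {q : ℕ} (hq : Odd q) :
    32 ∣ 2 * q ^ (2 * (2 - 1)) * (q ^ 2 - 1) * ∏ i ∈ Finset.range (2 - 1), (q ^ (2 * (i + 1)) - 1) := by
  have h8 : 8 ∣ q ^ 2 - 1 := Nat.eight_dvd_sq_sub_one_of_odd hq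
  have h1 : ∏ i ∈ Finset.range (2 - 1), (q ^ (2 * (i + 1)) - 1) = q ^ 2 - 1 := by
    rw [show 2 - 1 = 1 from rfl, Finset.prod_range_one]
  rw [h1]
  have h2 : 2 * 8 * 8 ∣ 2 * q ^ (2 * (2 - 1)) * (q ^ 2 - 1) * (q ^ 2 - 1) :=
    mul_dvd_mul (mul_dvd_mul (dvd_mul_right _ _) h8) h8
  exact (by norm_num : 32 ∣ 2 * 8 * 8).trans h2

variable {F : Type} [Field F] [Fintype F]

theorem dvd_card_of_cast {r : ℕ} (hr : r.Prime) (h : (r : F) = 0) : r ∣ Fintype.card F := by
  obtain ⟨p, hp⟩ := CharP.exists F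
  obtain ⟨m, hp', hm⟩ := FiniteField.card F p
  have h1 : p ∣ r := (CharP.cast_eq_zero_iff F p r).1 h
  have h2 : p = r := (Nat.prime_dvd_prime_iff_eq hp' hr).1 h1
  rw [hm, ← h2]
  exact dvd_pow_self p m.pos.ne'

theorem odd_of_two (h2 : (2 : F) ≠ 0) : Odd (Fintype.card F) := by
  have := FiniteField.odd_card_of_char_ne_two (F := F) (fun h => h2 (by
    have := ringChar.Nat.cast_ringChar (R := F)
    rw [h] at this
    exact_mod_cast this))
  exact Nat.odd_iff.2 this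

theorem two_ne_of_odd (h : Odd (Fintype.card F)) : (2 : F) ≠ 0 := by
  intro h0
  have h1 := dvd_card_of_cast (F := F) Nat.prime_two (by exact_mod_cast h0)
  rw [← Nat.not_even_iff_odd, even_iff_two_dvd] at h
  exact h h1

/-- the general row -/
theorem no34_of_form {ι : Type} [Fintype ι] [DecidableEq ι] (Q : QuadraticForm F (ι → F))
    (hQ : (polarBilin Q).Nondegenerate) (hs : ∃ u : ι → F, u ≠ 0 ∧ Q u = 0)
    (h7 : ((2 : F) ≠ 0 ∧ 7 ≤ Fintype.card ι) ∨ (8 ≤ Fintype.card ι ∧ Even (Fintype.card ι)))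
    (h27 : 27 ∣ Nat.card (Cfsg.POmega F ⇑Q))
    (h8 : ∀ r : ℕ, r.Prime → 5 ≤ r → (r : F) ≠ 0 → r ∣ Nat.card (Cfsg.POmega F ⇑Q) →
      ¬ (orderOf ((Fintype.card F : ℕ) : ZMod r) = 8 ∧ Fintype.card ι = 8))
    (hp : (2 : F) ≠ 0 → ∀ r : ℕ, r.Prime → r ≠ 2 → r ∣ Fintype.card F → ∃ x : Cfsg.POmega F ⇑Q, orderOf x = r ∧ Bad x) :
    No34 (Cfsg.POmega F ⇑Q) := by
  haveI : Finite (Cfsg.POmega F ⇑Q) := Quotient.finite _
  have h2of : ∀ r : ℕ, r.Prime → r ≠ 2 → (r : F) = 0 → (2 : F) ≠ 0 := by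
    intro r hr hr2 hr0 h2
    obtain ⟨p, hp⟩ := CharP.exists F
    have hpp : p.Prime := (CharP.char_is_prime_or_zero F p).resolve_right (CharP.char_ne_zero_of_finite F p)
    have h1 : p ∣ r := (CharP.cast_eq_zero_iff F p r).1 hr0
    have h3 : p ∣ 2 := (CharP.cast_eq_zero_iff F p 2).1 (by exact_mod_cast h2)
    exact hr2 (((Nat.prime_dvd_prime_iff_eq hpp hr).1 h1).symm.trans
      ((Nat.prime_dvd_prime_iff_eq hpp Nat.prime_two).1 h3))
  refine no34_of (fun _ => ?_) fun r hr h5 hd => Or.inl ?_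
  · by_cases h3 : (3 : F) = 0
    · obtain ⟨x, hx, hb⟩ := hp (h2of 3 Nat.prime_three (by norm_num) (by exact_mod_cast h3)) 3 Nat.prime_three
        (by norm_num) (dvd_card_of_cast Nat.prime_three (by exact_mod_cast h3))
      exact bad3_of_card hx hb (Or.inl h27)
    · exact bad3_cross hQ hs h7 h3 h27
  · by_cases hrF : (r : F) = 0
    · obtain ⟨x, hx, hb⟩ := hp (h2of r hr (by omega) hrF) r hr (by omega) (dvd_card_of_cast hr hrF)
      exact killAll_of_bad hx hb
    · exact killAll_cross hQ hs h7 hr (by omega) hrF hd (h8 r hr h5 hrF hd)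

/-- relabelling the coordinates of a hyperbolic form -/
def eqPlus (r : ℕ) : (Fin r ⊕ Fin r) ⊕ (Fin 2 ⊕ Fin 2) ≃ Fin (r + 2) ⊕ Fin (r + 2) :=
  (Equiv.sumSumSumComm (Fin r) (Fin r) (Fin 2) (Fin 2)).trans (Equiv.sumCongr finSumFinEquiv finSumFinEquiv)

/-- **The row `PΩ_{2m+1}(q)`** -/
theorem no34_pomega_odd {m : ℕ} (hm : 3 ≤ m) (F : Type) [Field F] [Fintype F] (hF : Odd (Fintype.card F)) :
    No34 (Cfsg.POmega F (Cfsg.quadFormOdd m F)) := by
  have h2 := two_ne_of_odd hF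
  obtain ⟨s, rfl⟩ : ∃ s, m = s + 2 := ⟨m - 2, by omega⟩
  have key := no34_of_form (OmegaReindex.quadOdd (s + 2) F) (OmegaReindex.quadOdd_nondegenerate h2)
    (OmegaReindex.quadOdd_isotropic (by omega)) (Or.inl ⟨h2, by simp; omega⟩)
  rw [OmegaReindex.coe_quadOdd] at key
  refine key ?_ ?_ ?_
  · have h1 := Cfsg.Agent.S0292.result (F := F) rfl hF (s + 2) hm
    have h3 := nt27 (q := Fintype.card F) (e := (s + 2) ^ 2) (k := s + 2) (by nlinarith only [hm]) hm
    rw [← h1] at h3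
    exact Nat.Coprime.dvd_of_dvd_mul_left (by norm_num) h3
  · rintro r - - - - ⟨-, h⟩
    simp at h
    omega
  · intro _ r hr hr2 hrq
    have h1 := exists_bad_block (F := F) (κ := Unit ⊕ (Fin s ⊕ Fin s)) (κ' := Fin 2 ⊕ Fin 2)
      ((Equiv.sumAssoc _ _ _).trans (Equiv.sumCongr (Equiv.refl Unit) (eqPlus s))) (Cfsg.quadFormOdd s F)
      (Cfsg.quadFormPlus 2 F) (OmegaReindex.quadOdd (s + 2) F) (fun v => by
        rw [OmegaReindex.coe_quadOdd, Cfsg.quadFormOdd, Cfsg.quadFormOdd, Cfsg.quadFormPlus, Fin.sum_univ_add]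
        exact (add_assoc _ _ _).symm) (OmegaReindex.quadOdd_nondegenerate h2) (by simp; omega)
      (OmegaReindex.quadOdd_isotropic (by omega)) hr hr2 (by
        rw [Cfsg.Agent.S0286.result rfl hF s]
        refine Dvd.dvd.mul_right (Dvd.dvd.mul_left ?_ _) _
        exact dvd_pow hrq (by
          have : 1 ≤ s := by omega
          positivity)) (by
        rw [Cfsg.Agent.S0287.result rfl 2 (by norm_num)]
        exact nt32 hF) (by
        rw [Cfsg.Agent.ClassicalGeometry.OmegaIndex.index_Omega h2 (by simp; omega) _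
          (OmegaReindex.quadOdd_nondegenerate h2)])
    rw [OmegaReindex.coe_quadOdd] at h1
    exact h1

theorem gcd_coprime (x : ℕ) : Nat.Coprime 27 (Nat.gcd 4 x) :=
  Nat.Coprime.coprime_dvd_right (Nat.gcd_dvd_left 4 x) (by norm_num)

/-- relabelling the coordinates of a form of minus type -/
def eqMinus (r : ℕ) : ((Fin r ⊕ Fin r) ⊕ Fin 2) ⊕ (Fin 2 ⊕ Fin 2) ≃ (Fin (r + 2) ⊕ Fin (r + 2)) ⊕ Fin 2 :=
  (Equiv.sumAssoc _ _ _).trans ((Equiv.sumCongr (Equiv.refl _) (Equiv.sumComm _ _)).trans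
    ((Equiv.sumAssoc _ _ _).symm.trans (Equiv.sumCongr (eqPlus r) (Equiv.refl _))))

end Cfsg.Agent.H397.FxOrth
end

-- part: H99/FxTwF4Tor
section
/-!
# Normalizers of cyclic subgroups of the tori of `²F₄(q)` (helper99)
-/

set_option autoImplicit false
set_option linter.unusedSectionVars false

namespace Cfsg.Agent.H99.FxTwF4

open CoxeterSystem Cfsg Cfsg.Lie Cfsg.Lie.ChevalleyDatum
open Cfsg.Agent.ChevalleyStructure Cfsg.Agent.ChevalleyStructure.Elts Cfsg.Agent.ChevalleyStructure.CoxeterGeom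
  Cfsg.Agent.ChevalleyStructure.CoxeterGeomTypes Cfsg.Agent.ChevalleyStructure.NPerm
  Cfsg.Agent.ChevalleyStructure.RootVec
open Cfsg.Agent.Tits.Roots Cfsg.Agent.Tits.Core Cfsg.Agent.Nodes Cfsg.Agent.Nodes.Reps Cfsg.Agent.Nodes.BNOf
  Cfsg.Agent.Nodes.RGDChev
open Cfsg.Agent.KFacts.RgdField Cfsg.Agent.KFacts.RgdChevCoord Cfsg.Agent.BpExc.TorCent Cfsg.Agent.BpExc.TorChev
open Cfsg.Agent.GpExc.Field Cfsg.Agent.BpExc.Tow Cfsg.Agent.BpExc.TowChev
  Cfsg.Agent.BpExc.LangFr Cfsg.Agent.BpExc Cfsg.Agent.H129.TorusChar Cfsg.Agent.H129.TorusUntw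
open Cfsg.Agent.H493.F4End Cfsg.Agent.H493.F4Tor Cfsg.Agent.H129.WData
open Cfsg.Agent.H630.NH Cfsg.Agent.H630.Exc
open Cfsg.Agent.H759.TwF

universe u v

theorem am_tab : ∀ i n : Fin 4, H493.PGF4T.Am i (rv n) * (eN (rv n) : ℤ) = (eN i : ℤ) * H493.PGF4T.Am (rv i) n := by
  decide +kernel

section

variable {W : Type*} [Group W] (cs : CoxeterSystem CoxeterMatrix.F₄ W)

theorem simple_Tt (b : ℤ) (i : Fin 4) (x : Fin 4 → ℤ) :
    rep cs hp.isCartan (cs.simple i) (Tt b x) = Tt b (rep cs hp.isCartan (cs.simple (rv i)) x) := by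
  refine hom_ext ((wh cs (cs.simple i)).comp (Tt b)) ((Tt b).comp (wh cs (cs.simple (rv i)))) (fun n => ?_) x
  show rep cs hp.isCartan (cs.simple i) (Tt b (sr n)) = Tt b (rep cs hp.isCartan (cs.simple (rv i)) (sr n))
  have hA : ∀ i j, pairing (cartanOf chevF4 4) i (sr j) = H493.PGF4T.Am i j := by
    intro i j
    rw [H493.PGF4T.hA, sr]
    rw [pairing_single, mul_one]
  rw [Tt_sr', map_zsmul, rep_simple_eq, rep_simple_eq, hA, hA, map_sub, Tt_sr', map_zsmul, Tt_sr', rv_rv, smul_sub]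
  congr 1
  rw [smul_smul, smul_smul]
  congr 1
  have := am_tab i n
  linear_combination b * this

theorem wordProd_Tt (b : ℤ) (L : List (Fin 4)) (x : Fin 4 → ℤ) :
    rep cs hp.isCartan (cs.wordProd L) (Tt b x) = Tt b (rep cs hp.isCartan (cs.wordProd (L.map rv)) x) := by
  induction L generalizing x with
  | nil => rw [List.map_nil, wordProd_nil, map_one, Module.End.one_apply, Module.End.one_apply]
  | cons i L ih =>
    rw [List.map_cons, wordProd_cons, wordProd_cons, rep_mul_apply, rep_mul_apply, ih, simple_Tt]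

theorem map_rv_rv (L : List (Fin 4)) : (L.map rv).map rv = L := by
  rw [List.map_map]
  conv_rhs => rw [← List.map_id L]
  exact List.map_congr_left fun i _ => rv_rv i

variable {k : Type u} [Field k] [IsAlgClosed k] [CharP k 2]

theorem cX_sq {m : ℕ} {L : List (Fin 4)} {t : ↥(chevF4.group k)} (ht : t ∈ TT chevF4 k)
    (hI : H759.TwF.InT cs m (cs.wordProd L) t) (x : Fin 4 → ℤ) :
    cX hp t (rep cs hp.isCartan (cs.wordProd L * cs.wordProd (L.map rv)) x) = cX hp t x ^ 2 ^ (2 * m + 1) := by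
  rw [rep_mul_apply, hI, ← wordProd_Tt, hI, Tt_Tt, (isMC_cX hp ht).zsmul]
  have h9 : (2 * (2 ^ m) ^ 2 : ℤ) = ((2 ^ (2 * m + 1) : ℕ) : ℤ) := by push_cast; rw [← pow_mul]; ring
  rw [h9, zpow_natCast]

end

section Fin

variable {K : Type u} [Field K] [Fintype K] {m : ℕ} (hK : Fintype.card K = 2 ^ (2 * m + 1))

include hK

/-- **An element of order `r` conjugate to its `q`-th power.** -/
theorem exists_conj_pow {d : TD} (hd : OkT d) (hd3 : Ok3 d) (hpos : 0 < pe (2 ^ m) d.N) {r : ℕ} (hr : r.Prime)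
    (hr2 : r ≠ 2) (h3 : d.me = 0 ∨ r ≠ 3) (hrN : (r : ℤ) ∣ pe (2 ^ m) d.N) :
    ∃ x u : ↥(twistedF4 K (2 ^ m)), orderOf x = r ∧ u * x * u⁻¹ = x ^ 2 ^ (2 * m + 1) := by
  classical
  have : Fact (Nat.Prime 2) := ⟨Nat.prime_two⟩
  have : Fact r.Prime := ⟨hr⟩
  have hc2 : CharP K 2 := F4Fixed.charP_two hK
  obtain ⟨p, e, hpF, hpc, hpk, he, hpe, hk⟩ := exists_closure hK
  have hp2 : p = 2 := CharP.eq K hpc hc2
  subst hp2
  let k := AlgebraicClosure K
  let f : K →+* k := algebraMap K k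
  let cs := CoxeterMatrix.F₄.toCoxeterSystem
  have hW : Finite CoxeterMatrix.F₄.Group := H493.PGF4.finW
  have hN : NSys CoxeterMatrix.F₄ (TT chevF4 k) (nc hp k) := nsys_of_locFin hp cs hk 2
  obtain ⟨n, hn⟩ := exists_rp cs hN (TD.w cs d)
  obtain ⟨z, hz⟩ := H493.F4Lang.lang_ste m n
  obtain ⟨N, hNe⟩ := Int.eq_ofNat_of_zero_le hpos.le
  have hN0 : 0 < N := by
    have : (0 : ℤ) < (N : ℤ) := by rw [hNe] at hpos; exact hpos
    exact_mod_cast this
  set L := d.C.map Prod.fst with hL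
  have hw : TD.w cs d = cs.wordProd L := rfl
  have h1 : ∀ x, rep cs hp.isCartan (TD.w cs d * cs.wordProd (L.map rv)) (Tt (2 ^ m) x) =
      Tt (2 ^ m) (rep cs hp.isCartan (cs.wordProd (L.map rv) * TD.w cs d) x) := by
    intro x
    rw [hw, rep_mul_apply, wordProd_Tt, map_rv_rv, wordProd_Tt, rep_mul_apply]
  have h2 : TD.w cs d * cs.wordProd (L.map rv) * TD.w cs d = TD.w cs d * (cs.wordProd (L.map rv) * TD.w cs d) :=
    mul_assoc _ _ _
  obtain ⟨y, hy, hyF⟩ := exists_norm hk cs hn (m := m) (Y := Mh (2 ^ m) d.Y) (N := N) hN0 (fun x => by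
    rw [Yw cs hd.1 hd3, hNe]; exact natCast_zsmul _ _) h1 h2
  obtain ⟨u, hu⟩ := exists_of_tau hK f hz hyF
  obtain ⟨t, ht, htr, hI, ht1⟩ := hroot (k := k) cs hd.1 hd.2.1 hd.2.2.2 hr hr2 h3 hrN (sr 0)
    (isRoot_sr cs hp.isCartan 0)
  obtain ⟨x, hx⟩ := exists_of_tau hK f hz ((tau_iff cs hk hn ht).2 hI)
  have hy' : y⁻¹ * t * y ∈ TT chevF4 k := by
    have := (Subgroup.mem_normalizer_iff.1 hy.inv.mem_normalizer t).1 ht
    rwa [inv_inv] at this
  have key : y⁻¹ * t * y = t ^ 2 ^ (2 * m + 1) := by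
    refine cX_inj hp hy' (pow_mem ht _) fun i => ?_
    have e1 := cX_rp hp cs hk 2 hy hy' (sr i)
    have e2 := cX_sq cs (L := L) ht hI (sr i)
    have e3 : y * (y⁻¹ * t * y) * y⁻¹ = t := by group
    rw [e3] at e1
    exact (e1.symm.trans e2).trans (cX_pow hp ht _ _).symm
  refine ⟨x, u⁻¹, ?_, ?_⟩
  · refine orderOf_eq_prime ?_ ?_
    · apply eF_injective f
      rw [map_pow, map_one]
      have h1 : eF m f x = z * t * z⁻¹ := by rw [← hx]; group
      rw [h1, conj_pow, htr]; group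
    · intro h
      rw [h, map_one, mul_one, inv_mul_cancel] at hx
      rw [← hx, cX_one] at ht1
      exact ht1 rfl
  · apply eF_injective f
    have h3 : eF m f x = z * t * z⁻¹ := by rw [← hx]; group
    have h4 : eF m f u = z * y * z⁻¹ := by rw [← hu]; group
    rw [inv_inv, map_mul, map_mul, map_inv, map_pow, h3, h4, conj_pow, ← key]
    group

end Fin

end Cfsg.Agent.H99.FxTwF4
end

-- part: H99/FxTwF4
section
/-!
# `No34` for `²F₄(q)`, `q ≥ 8` (helper99, for helper254: S3002, S2993)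

* `no34_2f4`
-/

set_option autoImplicit false
set_option linter.unusedSectionVars false

namespace Cfsg.Agent.H99.FxTwF4

open Subgroup Cfsg Cfsg.Lie
open Cfsg.Agent.KFacts.TwF4 Cfsg.Agent.KFacts.TwF4.Inst Cfsg.Agent.KFacts.TwF4.Irr
open Cfsg.Agent.CpAutTwF.Cent (M4 map_L4 L4_comm_M4)
open Cfsg.Agent.ChevalleyStructure.SL2Hom
open Cfsg.Agent.H254.Fx
open Cfsg.Agent.H759.TwF (NN NN_pos pe okT_D okT_Ep okT_Em tdD tdEp tdEm tdA tdB tdCp tdCm P)

theorem ok3_D : H759.TwF.Ok3 tdD := by decide +kernel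

theorem ok3_Ep : H759.TwF.Ok3 tdEp := by decide +kernel

theorem ok3_Em : H759.TwF.Ok3 tdEm := by decide +kernel

section

variable {F : Type} [Field F] [Fintype F] {m : ℕ} (hm : 1 ≤ m) (hK : Fintype.card F = 2 ^ (2 * m + 1))

include hm hK in
theorem eight_dvd : 8 ∣ Fintype.card F := by
  rw [hK, show (8 : ℕ) = 2 ^ 3 by norm_num]
  exact pow_dvd_pow 2 (by omega)

include hm hK in
theorem exists_unit : ∃ c : Fˣ, c ≠ 1 := by
  have h1 : 1 < Nat.card Fˣ := by
    rw [Nat.card_units, Nat.card_eq_fintype_card, hK]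
    have : 2 ^ 3 ≤ 2 ^ (2 * m + 1) := Nat.pow_le_pow_right (by norm_num) (by omega)
    omega
  have h2 : Nontrivial Fˣ := Finite.one_lt_card_iff_nontrivial.1 h1
  exact exists_ne 1

include hm hK in
/-- primes dividing `(q - 1)(q² + 1)` -/
theorem exists_bad_L4 {r : ℕ} (hr : r.Prime)
    (h : r ∣ (Fintype.card F - 1) * (Fintype.card F * Fintype.card F + 1)) :
    ∃ x : ↥(twistedF4 F (2 ^ m)), orderOf x = r ∧ Bad x := by
  have : CharP F 2 := Cfsg.Agent.ChevalleyStructure.F4Fixed.charP_two hK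
  have hfin : Finite ↥(twistedF4 F (2 ^ m)) := inferInstance
  have hfr : Fact r.Prime := ⟨hr⟩
  obtain ⟨φ, hφ⟩ := Cfsg.Agent.ChevalleyStructure.TwF4.TwistedFix.exists_rln hK
  have hF := exists_unit hm hK
  obtain ⟨S, hS⟩ : ∃ S : Full φ ↥(twistedF4 F (2 ^ m)), S = full hK hφ := ⟨_, rfl⟩
  have hL := H496.TwFRad.Levi.card_L4 S hF
  have hM : Nat.card (M4 S) = Nat.card (L4 S) := by
    rw [← map_L4 S]
    exact Subgroup.card_map_of_injective (S.ck 2).injective
  rw [Nat.card_eq_fintype_card (α := F)] at hL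
  have hrL : r ∣ Nat.card (L4 S) := by
    rw [hL, mul_assoc]
    exact h.mul_left _
  obtain ⟨x, hx⟩ := exists_prime_orderOf_dvd_card' r hrL
  refine ⟨x, by rw [Subgroup.orderOf_coe]; exact hx, ?_⟩
  refine bad_of_comm_eight (Y := M4 S) (fun y hy => (L4_comm_M4 S x.2 hy).symm) ?_
  rw [hM, hL, mul_assoc, mul_assoc]
  exact (eight_dvd hm hK).mul_right _

include hm hK in
/-- primes dividing `q + 1` -/
theorem exists_bad_sl {r : ℕ} (hr : r.Prime) (h : r ∣ Fintype.card F ^ 2 - 1) :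
    ∃ x : ↥(twistedF4 F (2 ^ m)), orderOf x = r ∧ Bad x := by
  classical
  have : CharP F 2 := Cfsg.Agent.ChevalleyStructure.F4Fixed.charP_two hK
  have hfin : Finite ↥(twistedF4 F (2 ^ m)) := inferInstance
  have hfr : Fact r.Prime := ⟨hr⟩
  have he : 2 ^ m ≠ 0 := pow_ne_zero m two_ne_zero
  have hcard : 4 ≤ Nat.card F := by
    rw [Nat.card_eq_fintype_card, hK]
    calc 4 ≤ 2 ^ 3 := by norm_num
      _ ≤ _ := Nat.pow_le_pow_right (by norm_num) (by omega)
  obtain ⟨ψ, ψ', hcomm, hne, c, hψ'⟩ := H128.TwF4Ab.exists_pair (ChevalleyStructure.F4Fixed.theta hK) he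
    (ChevalleyStructure.F4Fixed.theta_apply hK)
  have hinj : Function.Injective ψ := by
    rw [← MonoidHom.ker_eq_bot_iff]
    rcases Lib.ComponentSolvable.quasisimple_normal_cases (SignalizersComponents.SLQuasisimple.isQuasisimple_two hcard)
      (N := ψ.ker) inferInstance with h | h
    · exfalso
      apply hne
      have : up (1 : F) ∈ ψ.ker := by rw [h]; trivial
      exact this
    · rw [H128.TwF4Ab.center_sl_two] at h
      exact le_bot_iff.1 h
  have hinj' : Function.Injective ψ' := by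
    intro x y h
    rw [hψ', hψ'] at h
    exact hinj (mul_left_cancel (mul_right_cancel h))
  have hS : Nat.card (Matrix.SpecialLinearGroup (Fin 2) F) = Fintype.card F * (Fintype.card F ^ 2 - 1) :=
    Cfsg.Agent.ClassicalGeometry.PSL2Basic.card_SL2 F
  obtain ⟨x, hx⟩ := exists_prime_orderOf_dvd_card' (G := Matrix.SpecialLinearGroup (Fin 2) F) r (by
    rw [hS]; exact h.mul_left _)
  refine ⟨ψ x, by rw [orderOf_injective _ hinj]; exact hx, ?_⟩
  refine bad_of_comm_eight (Y := ψ'.range) ?_ ?_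
  · rintro _ ⟨y, rfl⟩
    exact (hcomm x y).eq.symm
  · have h1 : Nat.card ψ'.range = Nat.card (Matrix.SpecialLinearGroup (Fin 2) F) :=
      (Nat.card_congr (MonoidHom.ofInjective hinj').toEquiv).symm
    rw [h1, hS]
    exact (eight_dvd hm hK).mul_right _

include hK in
theorem mod_three : (Fintype.card F : ℤ) % 3 = 2 := by
  rw [hK]
  push_cast
  clear hK
  induction m with
  | zero => norm_num
  | succ m ih =>
    have : (2 : ℤ) ^ (2 * (m + 1) + 1) = 4 * 2 ^ (2 * m + 1) := by ring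
    omega

include hm hK in
theorem killAll {r : ℕ} (hr : r.Prime) (h5 : 5 ≤ r) (hd : r ∣ Nat.card ↥(twistedF4 F (2 ^ m))) :
    KillAll r ↥(twistedF4 F (2 ^ m)) := by
  have hfin : Finite ↥(twistedF4 F (2 ^ m)) := inferInstance
  have hr' : Prime (r : ℤ) := Nat.prime_iff_prime_int.1 hr
  obtain ⟨a, ha⟩ := H759.TwF.exists_type hK hr (by omega) hd
  have hq : 1 ≤ Fintype.card F := Fintype.card_pos
  have hqb : (Fintype.card F : ℤ) = 2 * (2 ^ m) ^ 2 := by
    rw [hK]; push_cast; rw [← pow_mul]; ring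
  have h2 : ¬ (r : ℤ) ∣ 2 := by
    intro h
    have h1 : r ∣ 2 := by exact_mod_cast h
    have := Nat.le_of_dvd (by norm_num) h1
    omega
  have h3 : ¬ (r : ℤ) ∣ 3 := by
    intro h
    have h1 : r ∣ 3 := by exact_mod_cast h
    have := Nat.le_of_dvd (by norm_num) h1
    omega
  have key : ∀ j : ℕ, ((Fintype.card F : ℤ) ^ j ≡ 1 [ZMOD r]) ∨ ¬ (2 ^ (2 * m + 1)) ^ j ≡ 1 [MOD r] := by
    intro j
    by_cases h : (2 ^ (2 * m + 1)) ^ j ≡ 1 [MOD r]
    · left
      have h1 := Int.natCast_modEq_iff.2 h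
      rw [hK]
      exact_mod_cast h1
    · exact Or.inr h
  have hmod : ∀ {u : ℤ}, u ≡ 1 [ZMOD r] → (r : ℤ) ∣ u - 1 := fun h => h.symm.dvd
  have hL4 : (r : ℤ) ∣ ((Fintype.card F : ℤ) - 1) * ((Fintype.card F : ℤ) * Fintype.card F + 1) →
      KillAll r ↥(twistedF4 F (2 ^ m)) := by
    intro h
    obtain ⟨x, hx, hb⟩ := exists_bad_L4 hm hK hr (by
      rw [← Int.natCast_dvd_natCast]
      push_cast [Nat.cast_sub hq]
      exact h)
    exact killAll_of_bad hx hb
  have hcyc : ∀ {d : H759.TwF.TD}, H759.TwF.OkT d → H759.TwF.Ok3 d → (r : ℤ) ∣ pe (2 ^ m) d.N →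
      0 < pe (2 ^ m) d.N →
      ((r : ℤ) ∣ (Fintype.card F : ℤ) ^ 2 - Fintype.card F + 1 ∨
        (r : ℤ) ∣ (Fintype.card F : ℤ) ^ 4 - (Fintype.card F : ℤ) ^ 2 + 1) → KillAll r ↥(twistedF4 F (2 ^ m)) := by
    intro d h1 h4 h6 h7 h8
    obtain ⟨x, u, hx, hu⟩ := exists_conj_pow hK h1 h4 h7 hr (by omega) (Or.inr (by omega)) h6
    refine killAll_of_conj hx hu ?_ ?_
    · rcases key 3 with h | h
      · exfalso
        have h9 := hmod h
        generalize (Fintype.card F : ℤ) = q at *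
        rcases h8 with h8 | h8
        · apply h2
          have e : (2 : ℤ) = (q + 1) * (q ^ 2 - q + 1) - (q ^ 3 - 1) := by ring
          rw [e]
          exact dvd_sub (h8.mul_left _) h9
        · apply h2
          have e : (2 : ℤ) = (q ^ 2 + 1) * (q ^ 4 - q ^ 2 + 1) - (q ^ 3 + 1) * (q ^ 3 - 1) := by ring
          rw [e]
          exact dvd_sub (h8.mul_left _) (h9.mul_left _)
      · exact h
    · rcases key 4 with h | h
      · exfalso
        have h9 := hmod h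
        generalize (Fintype.card F : ℤ) = q at *
        rcases h8 with h8 | h8
        · have e1 : q + 1 = q * ((q + 1) * (q ^ 2 - q + 1)) - (q ^ 4 - 1) := by ring
          have h10 : (r : ℤ) ∣ q + 1 := by
            rw [e1]
            exact dvd_sub ((h8.mul_left _).mul_left _) h9
          apply h3
          have e : (3 : ℤ) = (q ^ 2 - q + 1) - (q - 2) * (q + 1) := by ring
          rw [e]
          exact dvd_sub h8 (h10.mul_left _)
        · have h10 : (r : ℤ) ∣ q ^ 2 - 2 := by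
            have e1 : q ^ 2 - 2 = (q ^ 4 - 1) - (q ^ 4 - q ^ 2 + 1) := by ring
            rw [e1]
            exact dvd_sub h9 h8
          apply h3
          have e : (3 : ℤ) = (q ^ 4 - 1) - (q ^ 2 + 2) * (q ^ 2 - 2) := by ring
          rw [e]
          exact dvd_sub h9 (h10.mul_left _)
      · exact h
  have hpos := NN_pos m a
  have hcases : a = 0 ∨ a = 1 ∨ a = 2 ∨ a = 3 ∨ a = 4 ∨ a = 5 ∨ a = 6 := by
    clear * -
    revert a
    decide
  rcases hcases with rfl | rfl | rfl | rfl | rfl | rfl | rfl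
  · apply hL4
    rw [hqb]
    refine Dvd.dvd.mul_right ?_ _
    have e : pe (2 ^ m) (NN 0) = 2 * (2 ^ m) ^ 2 - 1 := by
      simp [NN, tdA, pe]; ring
    rwa [e] at ha
  · have e : pe (2 ^ m) (NN 1) = 2 * (2 ^ m) ^ 2 + 1 := by
      simp [NN, tdB, pe]; ring
    rw [e, ← hqb] at ha
    obtain ⟨x, hx, hb⟩ := exists_bad_sl hm hK hr (by
      rw [← Int.natCast_dvd_natCast]
      push_cast [Nat.cast_sub (Nat.one_le_pow 2 _ (by omega) : 1 ≤ Fintype.card F ^ 2)]
      have e1 : (Fintype.card F : ℤ) ^ 2 - 1 = (Fintype.card F + 1) * (Fintype.card F - 1) := by ring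
      rw [e1]
      exact ha.mul_right _)
    exact killAll_of_bad hx hb
  · apply hL4
    rw [hqb]
    refine Dvd.dvd.mul_left ?_ _
    have e : 2 * (2 ^ m : ℤ) ^ 2 * (2 * (2 ^ m) ^ 2) + 1 = pe (2 ^ m) (NN 2) * (1 - 2 * 2 ^ m + 2 * (2 ^ m) ^ 2) := by
      simp [NN, tdCp, pe]; ring
    rw [e]
    exact ha.mul_right _
  · apply hL4
    rw [hqb]
    refine Dvd.dvd.mul_left ?_ _
    have e : 2 * (2 ^ m : ℤ) ^ 2 * (2 * (2 ^ m) ^ 2) + 1 = pe (2 ^ m) (NN 3) * (1 + 2 * 2 ^ m + 2 * (2 ^ m) ^ 2) := by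
      simp [NN, tdCm, pe]; ring
    rw [e]
    exact ha.mul_right _
  · refine hcyc okT_D ok3_D ha hpos (Or.inl ?_)
    rw [hqb]
    have e : pe (2 ^ m) (NN 4) = (2 * (2 ^ m) ^ 2) ^ 2 - 2 * (2 ^ m) ^ 2 + 1 := by
      simp only [NN, tdD, pe, _root_.Cfsg.Agent.H759.TwF.NN, _root_.Cfsg.Agent.H759.TwF.tdD, _root_.Fin.isValue, _root_.Int.reduceNeg, _root_.Matrix.cons_val, _root_.Cfsg.Agent.H759.TwF.pe, _root_.MulZeroClass.mul_zero, _root_.add_zero, _root_.zero_add]; ring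
    rwa [e] at ha
  · refine hcyc okT_Ep ok3_Ep ha hpos (Or.inr ?_)
    rw [hqb]
    have e : (2 * (2 ^ m : ℤ) ^ 2) ^ 4 - (2 * (2 ^ m) ^ 2) ^ 2 + 1 =
        pe (2 ^ m) (NN 5) * (1 - 2 * 2 ^ m + 2 * (2 ^ m) ^ 2 - 4 * (2 ^ m) ^ 3 + 4 * (2 ^ m) ^ 4) := by
      simp only [NN, tdEp, pe, _root_.Cfsg.Agent.H759.TwF.NN, _root_.Cfsg.Agent.H759.TwF.tdEp, _root_.Fin.isValue, _root_.Int.reduceNeg, _root_.Matrix.cons_val, _root_.Cfsg.Agent.H759.TwF.pe, _root_.MulZeroClass.mul_zero, _root_.add_zero]; ring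
    rw [e]
    exact ha.mul_right _
  · refine hcyc okT_Em ok3_Em ha hpos (Or.inr ?_)
    rw [hqb]
    have e : (2 * (2 ^ m : ℤ) ^ 2) ^ 4 - (2 * (2 ^ m) ^ 2) ^ 2 + 1 =
        pe (2 ^ m) (NN 6) * (1 + 2 * 2 ^ m + 2 * (2 ^ m) ^ 2 + 4 * (2 ^ m) ^ 3 + 4 * (2 ^ m) ^ 4) := by
      simp [NN, tdEm, pe]; ring
    rw [e]
    exact ha.mul_right _

include hm hK in
theorem bad3 : Bad3 ↥(twistedF4 F (2 ^ m)) := by
  have hfin : Finite ↥(twistedF4 F (2 ^ m)) := inferInstance
  have hmod := mod_three hK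
  have hq : 1 ≤ Fintype.card F := Fintype.card_pos
  obtain ⟨t, ht⟩ : ∃ t : ℕ, Fintype.card F = 3 * t + 2 := ⟨Fintype.card F / 3, by omega⟩
  obtain ⟨x, hx, hb⟩ := exists_bad_sl hm hK Nat.prime_three (by
    rw [ht]
    refine ⟨(3 * t + 1) * (t + 1), ?_⟩
    apply Nat.sub_eq_of_eq_add
    ring)
  refine bad3_of_card hx hb (Or.inl ?_)
  rw [Cfsg.Agent.S1068.result hK, ← hK, ht]
  have e3 : (3 * t + 2) ^ 3 + 1 = 9 * ((t + 1) * (3 * t ^ 2 + 3 * t + 1)) := by ring
  have e4 : (3 * t + 2) ^ 4 - 1 = 3 * ((t + 1) * (3 * t + 1) * ((3 * t + 2) ^ 2 + 1)) := by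
    apply Nat.sub_eq_of_eq_add
    ring
  rw [e3, e4]
  refine Dvd.dvd.mul_right ?_ _
  refine ⟨(3 * t + 2) ^ 12 * (3 * t + 2 - 1) * ((t + 1) * (3 * t ^ 2 + 3 * t + 1)) *
    ((t + 1) * (3 * t + 1) * ((3 * t + 2) ^ 2 + 1)), ?_⟩
  ring

end

/-- **The row `²F₄(q)`, `q ≥ 8`.** -/
theorem no34_2f4 {G : Type*} [Group G] (h : Cfsg.Lie.Iso2F4 G) : No34 G := by
  obtain ⟨F, hF1, hF2, m, hm, hK, ⟨e⟩⟩ := h
  have hfin : Finite ↥(twistedF4 F (2 ^ m)) := inferInstance
  exact (no34_of (fun _ => bad3 hm hK) fun r hr h5 hd => Or.inl (killAll hm hK hr h5 hd)).congr e.symm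

end Cfsg.Agent.H99.FxTwF4
end

-- part: H99/FxTits
section
/-!
# Fixity 3 and 4: the Tits group (task 1414)

* elements of order 3: one class, real, `|C| = 108`;
* elements of order 5: `|C| = 50` and `u x u⁻¹ = x²`;
* elements of order 13: real, and `t x t⁻¹ = x³`.
-/

set_option autoImplicit false

namespace Cfsg.Agent.H99.FxTits

open Cfsg Subgroup Cfsg.Agent.H254.Fx

section

open Cfsg.Agent.Omega.TwoF.Tits Cfsg.Agent.Omega.TwoF.Scalar Cfsg.Agent.Omega.TwoF.Orb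
  Cfsg.Agent.ChevalleyStructure.Tits.Main

theorem five_C : ∃ a t : C, orderOf a = 5 ∧ t * a * t⁻¹ = a ^ 2 := by
  have ha : a ≠ 1 := by
    intro h1
    have h2 := (two.eq_iff 1 0 0 0).1 (by rw [h1]; simp)
    simp at h2
  refine ⟨a, t, orderOf_eq_prime (hp := ⟨by norm_num⟩) a5 ha, ?_⟩
  have h := CpAutTits.Fus.conj_t 1
  rwa [pow_one, pow_one] at h

end

theorem five_aux (K : Subgroup (Matrix.GeneralLinearGroup Cfsg.Agent.ChevalleyStructure.Tits.Mat.I52 (ZMod 2)))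
    (hK : K = Cfsg.Agent.ChevalleyStructure.Tits.Order.H0) :
    ∃ a t : ↥(_root_.commutator K), orderOf a = 5 ∧ t * a * t⁻¹ = a ^ 2 := by
  subst hK
  exact five_C

theorem five : ∃ a t : Cfsg.Lie.TitsGroup, orderOf a = 5 ∧ t * a * t⁻¹ = a ^ 2 :=
  five_aux (Cfsg.Lie.twistedF4 (ZMod 2) 1) Cfsg.Agent.ChevalleyStructure.Tits.Main.T0_eq_H0

theorem ord23 : orderOf ((2 : ℕ) : ZMod 3) = 2 := by
  have : Fact (Nat.Prime 2) := ⟨Nat.prime_two⟩
  exact orderOf_eq_prime (by decide +revert) (by decide +revert)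

theorem ord25 : orderOf ((2 : ℕ) : ZMod 5) = 4 := by
  have : Fact (Nat.Prime 2) := ⟨Nat.prime_two⟩
  exact orderOf_eq_prime_pow (p := 2) (n := 1) (by decide +revert) (by decide +revert)

/-- all subgroups of order `p` are conjugate, so all elements of order `p` are real if one is -/
theorem real_of_real {G : Type*} [Group G] [Finite G] {p : ℕ} [hp : Fact p.Prime] (hpp : ¬ p ^ 2 ∣ Nat.card G)
    {x y v : G} (hx : orderOf x = p) (hy : orderOf y = p) (hv : v * y * v⁻¹ = y⁻¹) : ∃ w : G, w * x * w⁻¹ = x⁻¹ := by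
  have hsyl : ∀ z : G, orderOf z = p → ∃ P : Sylow p G, (P : Subgroup G) = zpowers z := by
    intro z hz
    have h1 : IsPGroup p ↥(zpowers z) := IsPGroup.of_card (n := 1) (by rw [Nat.card_zpowers, hz, pow_one])
    obtain ⟨P, hP⟩ := h1.exists_le_sylow
    refine ⟨P, (Subgroup.eq_of_le_of_card_ge hP ?_).symm⟩
    obtain ⟨k, hk⟩ := IsPGroup.iff_card.1 P.isPGroup'
    rw [Nat.card_zpowers, hz, hk]
    have h2 : k ≤ 1 := by
      by_contra hcon
      apply hpp
      refine (pow_dvd_pow p (by omega : 2 ≤ k)).trans ?_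
      rw [← hk]
      exact Subgroup.card_subgroup_dvd_card _
    calc p ^ k ≤ p ^ 1 := Nat.pow_le_pow_right hp.out.pos h2
      _ = p := pow_one p
  obtain ⟨P, hP⟩ := hsyl x hx
  obtain ⟨Q, hQ⟩ := hsyl y hy
  obtain ⟨g, hg⟩ := MulAction.exists_smul_eq G Q P
  have h1 : g⁻¹ * x * g ∈ zpowers y := by
    rw [← hQ]
    have h2 : x ∈ (P : Subgroup G) := by rw [hP]; exact mem_zpowers x
    rw [← hg, Sylow.coe_subgroup_smul] at h2
    obtain ⟨z, hz, hzx⟩ := h2
    have h3 : g * z * g⁻¹ = x := hzx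
    rw [← h3]
    have h4 : g⁻¹ * (g * z * g⁻¹) * g = z := by group
    rw [h4]
    exact hz
  obtain ⟨i, hi⟩ := mem_zpowers_iff.1 h1
  refine ⟨g * v * g⁻¹, ?_⟩
  have h2 : v * y ^ i * v⁻¹ = (y ^ i)⁻¹ := by
    rw [← conj_zpow, hv, inv_zpow]
  have h3 : x = g * y ^ i * g⁻¹ := by rw [hi]; group
  calc g * v * g⁻¹ * x * (g * v * g⁻¹)⁻¹ = g * (v * y ^ i * v⁻¹) * g⁻¹ := by rw [h3]; group
    _ = x⁻¹ := by rw [h2, h3]; group

/-- the abstract argument -/
theorem no34_abs {G : Type*} [Group G] [Finite G] (D : H87.TitsAbs.Dat G) (O : CpAutTits.Row.Out G)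
    (h5 : ∃ a t : G, orderOf a = 5 ∧ t * a * t⁻¹ = a ^ 2) (h13 : ∃ x v : G, orderOf x = 13 ∧ v * x * v⁻¹ = x⁻¹) :
    No34 G := by
  have hc := O.card
  have : Fact (Nat.Prime 3) := ⟨by norm_num⟩
  have : Fact (Nat.Prime 13) := ⟨by norm_num⟩
  refine no34_of (fun _ => ?_) ?_
  · -- order 3
    obtain ⟨c, hc'⟩ := isConj_iff.1 (D.conj 2 (by norm_num) 0 (by norm_num) 0 (by norm_num) (Or.inl (by norm_num)))
    rw [pow_zero, pow_zero, mul_one, mul_one] at hc'
    have h3 : orderOf D.t = 3 := orderOf_eq_prime D.t3 D.t1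
    have hu : c⁻¹ * D.t * c⁻¹⁻¹ = D.t ^ 2 := by
      calc c⁻¹ * D.t * c⁻¹⁻¹ = c⁻¹ * (c * D.t ^ 2 * c⁻¹) * c⁻¹⁻¹ := by rw [hc']
        _ = D.t ^ 2 := by group
    refine bad3_of_card h3 (bad_of_two (by norm_num) h3 hu ?_ ?_) (Or.inl ?_)
    · rw [ord23]
    · rw [H745.RvTits.card_cent_t D O]
      norm_num
    · rw [hc]
      norm_num
  · intro r hr hr5 hd
    rw [hc] at hd
    left
    have hr' : r = 5 ∨ r = 13 := by
      rcases (Nat.Prime.dvd_mul hr).1 hd with h | h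
      · rcases (Nat.Prime.dvd_mul hr).1 h with h | h
        · rcases (Nat.Prime.dvd_mul hr).1 h with h | h
          · have := Nat.le_of_dvd (by norm_num) (hr.dvd_of_dvd_pow h); omega
          · have := Nat.le_of_dvd (by norm_num) (hr.dvd_of_dvd_pow h); omega
        · exact Or.inl ((Nat.prime_dvd_prime_iff_eq hr (by norm_num)).1 (hr.dvd_of_dvd_pow h))
      · exact Or.inr ((Nat.prime_dvd_prime_iff_eq hr (by norm_num)).1 h)
    rcases hr' with rfl | rfl
    · obtain ⟨a, t, ha, hta⟩ := h5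
      refine killAll_of_bad ha (bad_of_eight ?_)
      have h1 := card_normalizer_dvd (by norm_num) ha hta
      rw [O.cent a ha] at h1
      refine dvd_trans ?_ h1
      rw [ord25]
      norm_num
    · -- order 13
      obtain ⟨y, v, hy, hv⟩ := h13
      have hx : orderOf D.x = 13 := orderOf_eq_prime D.x13 D.x1
      obtain ⟨w, hw⟩ : ∃ w : G, w * D.x * w⁻¹ = D.x⁻¹ := real_of_real (by rw [hc]; norm_num) hx hy hv
      refine killAll_of_conj hx (u := D.t * w) (j := 10) ?_ (by decide) (by decide)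
      have h1 : D.t * w * D.x * (D.t * w)⁻¹ = D.t * (w * D.x * w⁻¹) * D.t⁻¹ := by group
      rw [h1, hw]
      have h2 : D.t * D.x⁻¹ * D.t⁻¹ = (D.t * D.x * D.t⁻¹)⁻¹ := by group
      rw [h2, D.txt, inv_eq_iff_mul_eq_one, ← pow_add]
      exact D.x13

theorem no34_aux {G T : Type*} [Group G] [Group T] (e : G ≃* T) (D : Nonempty (H87.TitsAbs.Dat T))
    (O : CpAutTits.Row.Out T) (h5 : ∃ a t : T, orderOf a = 5 ∧ t * a * t⁻¹ = a ^ 2)
    (h13 : Cfsg.Agent.H722.RealP.HasReal 13 T) : No34 G := by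
  obtain ⟨D⟩ := D
  have hfin : Finite T := Nat.finite_of_card_ne_zero (by rw [O.card]; norm_num)
  obtain ⟨x, v, hx, -, hv⟩ := h13
  exact No34.congr e.symm (no34_abs D O h5 ⟨x, v, hx, hv⟩)

/-- **The Tits group.** -/
theorem no34_tits {G : Type*} [Group G] (h : Cfsg.Lie.IsoTits G) : No34 G := by
  obtain ⟨e⟩ := h
  have h1 : CpAutTits.Row.Out Cfsg.Lie.TitsGroup := CpAutTits.Row.out ⟨MulEquiv.refl _⟩
  have h2 : Cfsg.Agent.H722.RealP.HasReal 13 Cfsg.Lie.TitsGroup :=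
    Cfsg.Agent.H661.Spor.hasReal_tits ⟨MulEquiv.refl _⟩
  have h3 := H87.TitsData.dat_tits
  have h4 := five
  refine no34_aux (T := Cfsg.Lie.TitsGroup) e h3 h1 h4 h2

end Cfsg.Agent.H99.FxTits
end

-- part: H315/FxSporA
section
/-!
# `No34` for `J2, J3, McL, He, Co1, Co2, Co3, Fi22, Fi23` (helper315)
-/

set_option autoImplicit false

namespace Cfsg.Agent.H315.FxNum

open Cfsg Cfsg.Agent.H254.Fx

theorem noE {K : Type*} [Group K] : ∀ x ∈ ([] : List (ℕ × ℕ)), NoExc K x.1 x.2 :=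
  fun _ h => absurd h List.not_mem_nil

theorem no34_j2 {G : Type*} [Group G] (h : Spor.IsoJ2 G) : No34 G := by
  obtain ⟨e⟩ := h
  exact No34.congr e.symm (no34_of_chk (l := [(2, 7), (3, 3), (5, 2), (7, 1)]) S1620.result.1 S1619.result.2.2.2
    (by decide +kernel) (Or.inl rfl) noE)

theorem no34_j3 {G : Type*} [Group G] (h : Spor.IsoJ3 G) : No34 G := by
  obtain ⟨F, _, _, ω, hF, hω, ⟨e⟩⟩ := h
  exact No34.congr e.symm (no34_of_chk (l := [(2, 7), (3, 5), (5, 1), (17, 1), (19, 1)])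
    (S1625.result F hF ω hω).2.2.2 (S1625.result F hF ω hω).2.2.1 (by decide +kernel) (Or.inl rfl) noE)

theorem no34_mcl {G : Type*} [Group G] (h : Spor.IsoMcL G) : No34 G := by
  obtain ⟨e⟩ := h
  exact No34.congr e.symm (no34_of_chk (l := [(2, 7), (3, 6), (5, 3), (7, 1), (11, 1)])
    Schreier.McLaughlin.isSimple_mcl Schreier.McLaughlin.card_mcl (by decide +kernel) (Or.inl rfl) noE)

theorem no34_he {G : Type*} [Group G] (h : Spor.IsoHe G) : No34 G := by
  obtain ⟨e⟩ := h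
  exact No34.congr e.symm (no34_of_chk (n := 4030387200) (l := [(2, 10), (3, 3), (5, 2), (7, 3), (17, 1)])
    S1695.result.1 S1695.result.2 (by decide +kernel) (Or.inl rfl) noE)

theorem no34_co1 {G : Type*} [Group G] (h : Spor.IsoCo1 G) : No34 G := by
  obtain ⟨e⟩ := h
  exact No34.congr e.symm (no34_of_chk (K := Spor.Co1) (n := 4157776806543360000)
    (l := [(2, 21), (3, 9), (5, 4), (7, 2), (11, 1), (13, 1), (23, 1)])
    S0399.result.1 S0399.result.2 (by decide +kernel) (Or.inl rfl) noE)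

theorem no34_co2 {G : Type*} [Group G] (h : Spor.IsoCo2 G) : No34 G := by
  obtain ⟨e⟩ := h
  exact No34.congr e.symm (no34_of_chk (n := 42305421312000)
    (l := [(2, 18), (3, 6), (5, 3), (7, 1), (11, 1), (23, 1)])
    Schreier.CoTwoStab.isSimpleGroup Co2Type.CardCo2.card_co2 (by decide +kernel) (Or.inl rfl) noE)

theorem no34_co3 {G : Type*} [Group G] (h : Spor.IsoCo3 G) : No34 G := by
  obtain ⟨e⟩ := h
  exact No34.congr (e.trans SporRec.Co3.Model.equivCo3.symm).symm (no34_of_chk (n := 495766656000)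
    (l := [(2, 10), (3, 7), (5, 3), (7, 1), (11, 1), (23, 1)])
    SporRec.Co3.Chain.isCo3_G3.1 SporRec.Co3.Chain.isCo3_G3.2 (by decide +kernel) (Or.inl rfl) noE)

theorem no34_fi22 {G : Type*} [Group G] (h : Spor.IsoFi22 G) : No34 G := by
  obtain ⟨e⟩ := h
  exact No34.congr e.symm (no34_of_chk (n := 64561751654400)
    (l := [(2, 17), (3, 9), (5, 2), (7, 1), (11, 1), (13, 1)])
    S1696.result.1 S1696.result.2 (by decide +kernel) (Or.inl rfl) noE)

theorem no34_fi23 {G : Type*} [Group G] (h : Spor.IsoFi23 G) : No34 G := by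
  obtain ⟨e⟩ := h
  exact No34.congr e.symm (no34_of_chk (n := 4089470473293004800)
    (l := [(2, 18), (3, 13), (5, 2), (7, 1), (11, 1), (13, 1), (17, 1), (23, 1)])
    S1697.result.1 S1697.result.2 (by decide +kernel) (Or.inl rfl) noE)

end Cfsg.Agent.H315.FxNum
end

-- part: H315/FxSporD
section
/-!
# `No34` for `Fi24'`, `ON`, `J4` (helper315)
-/

set_option autoImplicit false

namespace Cfsg.Agent.H315.FxNum

open Cfsg Cfsg.Agent.H254.Fx Subgroup

theorem noexc_fi24 : NoExc Spor.Fi24' 25 12 := by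
  have hcard : Nat.card Spor.Fi24' = 1255205709190661721292800 := S1698.result.2
  have hsim : IsSimpleGroup Spor.Fi24' := S1698.result.1
  have hfin : Finite Spor.Fi24' := Nat.finite_of_card_ne_zero (by rw [hcard]; norm_num)
  intro k D h hF hD hi
  have : Fact (Nat.Prime 5) := ⟨Nat.prime_five⟩
  exact false_of_noSP h hF (by rw [hcard]; norm_num) (r := 5) (by rw [hD]; norm_num)
    (H52.StrFi24.nosp_fi24p_5 ⟨MulEquiv.refl _⟩)

theorem no34_fi24' {G : Type*} [Group G] (h : Spor.IsoFi24' G) : No34 G := by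
  obtain ⟨e⟩ := h
  refine No34.congr e.symm (no34_of_chk (n := 1255205709190661721292800) (E := [(25, 12)])
    (l := [(2, 21), (3, 16), (5, 2), (7, 3), (11, 1), (13, 1), (17, 1), (23, 1), (29, 1)])
    S1698.result.1 S1698.result.2 (by decide +kernel) (Or.inl rfl) ?_)
  intro x hx
  rw [List.mem_singleton] at hx
  subst hx
  exact noexc_fi24

theorem noexc_on : ∀ x ∈ [(5, 4), (209, 4)], NoExc Spor.ON x.1 x.2 := by
  have hcard : Nat.card Spor.ON = 460815505920 := S1699.result.2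
  have hsim : IsSimpleGroup Spor.ON := S1699.result.1
  have hfin : Finite Spor.ON := Nat.finite_of_card_ne_zero (by rw [hcard]; norm_num)
  intro x hx
  simp only [List.mem_cons, List.not_mem_nil, or_false] at hx
  rcases hx with rfl | rfl
  · intro k D h hF hD hi
    obtain ⟨t, ht⟩ := @exists_prime_orderOf_dvd_card' Spor.ON _ _ 2 ⟨Nat.prime_two⟩ (by rw [hcard]; norm_num)
    refine sylow_five_contra (D := D) ht (H690.Spor.ONRow.card_inv ht) (by rw [hcard]; norm_num) (by norm_num) hD ?_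
      (by norm_num) (by norm_num)
    replace hD : Nat.card D = 5 := hD
    replace hi : D.relIndex (normalizer (D : Set Spor.ON)) = 4 := hi
    rw [card_normalizer_eq, hD, hi]
  · intro k D h hF hD hi
    obtain ⟨t, x, ht, hx, htx⟩ := exists_inv h hF (r := 11) (by norm_num) (by rw [hD]; norm_num)
      (by rw [hcard]; norm_num) (Or.inr ⟨hi, by norm_num⟩)
    have h1 := dvd_centralizer hx htx
    rw [H690.Spor.ONRow.card_inv ht] at h1
    norm_num at h1

theorem no34_on {G : Type*} [Group G] (h : Spor.IsoON G) : No34 G := by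
  obtain ⟨e⟩ := h
  exact No34.congr e.symm (no34_of_chk (n := 460815505920) (E := [(5, 4), (209, 4)])
    (l := [(2, 9), (3, 4), (5, 1), (7, 3), (11, 1), (19, 1), (31, 1)])
    S1699.result.1 S1699.result.2 (by decide +kernel) (Or.inl rfl) noexc_on)

theorem noexc_j4 : ∀ x ∈ [(7, 3), (37, 12)], NoExc Spor.J4 x.1 x.2 := by
  have hcard : Nat.card Spor.J4 = 86775571046077562880 := S1703.result.2
  have hfin : Finite Spor.J4 := Nat.finite_of_card_ne_zero (by rw [hcard]; norm_num)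
  intro x hx
  simp only [List.mem_cons, List.not_mem_nil, or_false] at hx
  rcases hx with rfl | rfl
  · intro k D h hF hD hi
    have h1 := H859.BigCent.card_normalizer_seven hD
    rw [card_normalizer_eq, hD, hi] at h1
    norm_num at h1
  · intro k D h hF hD hi
    obtain ⟨t, x, ht, hx, htx⟩ := exists_inv h hF (r := 37) (by norm_num) (by rw [hD])
      (by rw [hcard]; norm_num) (Or.inl hi)
    have h1 := (H859.BigNum.data37 (P := zpowers x) (by rw [Nat.card_zpowers, hx])).1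
    have h2 : t ∈ centralizer (zpowers x : Set Spor.J4) := by
      rw [mem_centralizer_iff]
      rintro _ ⟨n, rfl⟩
      exact (Commute.zpow_right (show Commute t x from htx) n).eq.symm
    have h3 := orderOf_dvd_card_of_mem h2
    rw [h1, ht] at h3
    norm_num at h3

theorem no34_j4 {G : Type*} [Group G] (h : Spor.IsoJ4 G) : No34 G := by
  obtain ⟨e⟩ := h
  exact No34.congr e.symm (no34_of_chk (n := 86775571046077562880) (E := [(7, 3), (37, 12)])
    (l := [(2, 21), (3, 3), (5, 1), (7, 1), (11, 3), (23, 1), (29, 1), (31, 1), (37, 1), (43, 1)])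
    S1703.result.1 S1703.result.2 (by decide +kernel) (Or.inl rfl) noexc_j4)

end Cfsg.Agent.H315.FxNum
end

-- part: H315/FxSporE
section
/-!
# `No34` for `M23` and `HS` (helper315)

The elements of order three of `M22` are bad; a Sylow `3`-subgroup of `M22` is one of `M23` and of `HS`.
-/

set_option autoImplicit false
set_option maxRecDepth 100000

namespace Cfsg.Agent.H315.FxNum

open Cfsg Cfsg.Agent.H254.Fx Subgroup Cfsg.Agent.H45.Thin.Mathieu Cfsg.Agent.SporadicA.GolayWalk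

theorem noE' {K : Type*} [Group K] : ∀ x ∈ ([] : List (ℕ × ℕ)), NoExc K x.1 x.2 :=
  fun _ h => absurd h List.not_mem_nil

/-- The permutation of order four with a given table. -/
def mk4 (t : List ℕ) (h : ∀ p, fn t (fn t (fn t (fn t p))) = p) : Equiv.Perm GolayPt :=
  ⟨fn t, fun p => fn t (fn t (fn t p)), h, h⟩

/-- table -/
def tv : List ℕ := [0, 11, 14, 21, 15, 22, 5, 18, 9, 17, 13, 10, 12, 1, 2, 4, 6, 20, 3, 19, 8, 7, 16, 23]
/-- table -/
def tw : List ℕ := [0, 2, 1, 10, 3, 9, 16, 4, 8, 6, 7, 18, 12, 14, 15, 21, 5, 20, 11, 22, 19, 13, 17, 23]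

theorem hv : ∀ p, fn tv (fn tv (fn tv (fn tv p))) = p := by decide +kernel
theorem hw : ∀ p, fn tw (fn tw (fn tw (fn tw p))) = p := by decide +kernel

/-- element of order 4 -/
def gv : Equiv.Perm GolayPt := mk4 tv hv
/-- element of order 4 -/
def gw : Equiv.Perm GolayPt := mk4 tw hw

theorem gv_mem22 : gv ∈ Spor.M22 :=
  stab_mem (mem_M24_of_table _ tv rfl (by decide +kernel) (by decide +kernel)) (by decide +kernel) (by decide +kernel)
theorem gw_mem22 : gw ∈ Spor.M22 :=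
  stab_mem (mem_M24_of_table _ tw rfl (by decide +kernel) (by decide +kernel)) (by decide +kernel) (by decide +kernel)

/-- conjugating elements -/
def cj (i j : Fin 3) : Equiv.Perm GolayPt :=
  ![![1, gv, gv * gv * gv], ![1, gw, gw * gv], ![gv * gv, gw * gv * gv * gv, gw * gv * gv]] i j

theorem cj_mem (i j : Fin 3) : cj i j ∈ Spor.M22 := by
  have hv := gv_mem22
  have hw := gw_mem22
  fin_cases i <;> fin_cases j
  · exact one_mem _
  · exact hv
  · exact mul_mem (mul_mem hv hv) hv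
  · exact one_mem _
  · exact hw
  · exact mul_mem hw hv
  · exact mul_mem hv hv
  · exact mul_mem (mul_mem (mul_mem hw hv) hv) hv
  · exact mul_mem (mul_mem hw hv) hv

theorem cj_spec : ∀ i j : Fin 3, ¬ (i = 0 ∧ j = 0) → ∀ p : GolayPt,
    cj i j (gx p) = (gx ^ (i : ℕ) * gy ^ (j : ℕ)) (cj i j p) := by decide +kernel

theorem xy_inj : ∀ i j k l : Fin 3, gx ^ (i : ℕ) * gy ^ (j : ℕ) = gx ^ (k : ℕ) * gy ^ (l : ℕ) → i = k ∧ j = l := by
  decide +kernel

/-- element of `M22` -/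
def X : Spor.M22 := ⟨gx, gx_mem22⟩
/-- element of `M22` -/
def Y : Spor.M22 := ⟨gy, gy_mem22⟩
/-- element of `M22` -/
def T : Spor.M22 := ⟨gt, gt_mem22⟩
/-- element of `M22` -/
def T1 : Spor.M22 := Y * T * Y⁻¹
/-- element of `M22` -/
def Cj (i j : Fin 3) : Spor.M22 := ⟨cj i j, cj_mem i j⟩

theorem X3 : X ^ 3 = 1 := Subtype.ext gx3
theorem Y3 : Y ^ 3 = 1 := Subtype.ext gy3
theorem XY : X * Y = Y * X := Subtype.ext gxy
theorem TT : T * T = 1 := Subtype.ext gtt
theorem XT : X * T = T * X := Subtype.ext gxt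
theorem XT1 : X * T1 = T1 * X := by
  have h1 : Commute X Y := XY
  have h2 : Commute X T := XT
  exact ((h1.mul_right h2).mul_right h1.inv_right).eq
theorem T1T1 : T1 * T1 = 1 := by
  unfold T1
  calc Y * T * Y⁻¹ * (Y * T * Y⁻¹) = Y * (T * T) * Y⁻¹ := by group
    _ = 1 := by rw [TT]; group
theorem TT1 : T * T1 = T1 * T := Subtype.ext (Equiv.ext (by decide +kernel))
theorem T_ne : T ≠ 1 := fun h => absurd (DFunLike.congr_fun (congrArg Subtype.val h) (some 1)) (by decide +kernel)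
theorem T_ne' : T ≠ T1 := fun h => by
  have h1 : ∀ p, gt p = (gy * gt * gy⁻¹) p := fun p => DFunLike.congr_fun (congrArg Subtype.val h) p
  revert h1
  decide +kernel
theorem X_ne : X ≠ 1 := fun h => gx1 (congrArg Subtype.val h)

theorem order_two : orderOf ((2 : ℕ) : ZMod 3) = 2 := by
  have h2 : Fact (Nat.Prime 2) := ⟨Nat.prime_two⟩
  exact orderOf_eq_prime (by decide +revert) (by decide +revert)

theorem Cj_spec (i j : Fin 3) (h : ¬ (i = 0 ∧ j = 0)) : Cj i j * X * (Cj i j)⁻¹ = X ^ (i : ℕ) * Y ^ (j : ℕ) := by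
  have h1 : Cj i j * X = X ^ (i : ℕ) * Y ^ (j : ℕ) * Cj i j :=
    Subtype.ext (Equiv.ext (fun p => cj_spec i j h p))
  rw [h1, mul_inv_cancel_right]

section

variable {K : Type*} [Group K] [Finite K] (f : Spor.M22 →* K)

theorem bad_X (hf : Function.Injective f) : Bad (f X) := by
  have h3 : Fact (Nat.Prime 3) := ⟨Nat.prime_three⟩
  have hX : orderOf (f X) = 3 := by
    rw [orderOf_injective f hf]
    exact orderOf_eq_prime X3 X_ne
  have h1 : ∀ a b : Spor.M22, a * b = b * a → f a * f b = f b * f a := by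
    intro a b h
    rw [← map_mul, h, map_mul]
  have hT1 : T1 ≠ 1 := by
    intro h
    apply T_ne
    unfold T1 at h
    have h2 : T = Y⁻¹ * (Y * T * Y⁻¹) * Y := by group
    rw [h2, h]
    group
  refine bad_of_two (u := f (Cj 2 0)) (j := 2) Nat.prime_three hX ?_ ?_ ?_
  · have h4 := Cj_spec 2 0 (by decide)
    have h5 : X ^ ((2 : Fin 3) : ℕ) * Y ^ ((0 : Fin 3) : ℕ) = X ^ 2 := by
      show X ^ 2 * Y ^ 0 = X ^ 2
      rw [pow_zero, mul_one]
    rw [h5] at h4
    rw [← map_pow, ← h4, map_mul, map_mul, map_inv]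
  · rw [order_two]
  · refine SmallSimple.Order5040.four_dvd_card (u := f T) (h := f T1) ?_ ?_ ?_ ?_ ?_ ?_ ?_ (h1 _ _ TT1)
    · rw [mem_centralizer_singleton_iff]; exact (h1 _ _ XT).symm
    · rw [mem_centralizer_singleton_iff]; exact (h1 _ _ XT1).symm
    · rw [pow_two, ← map_mul, TT, map_one]
    · rw [pow_two, ← map_mul, T1T1, map_one]
    · intro h; exact T_ne (hf (by rw [h, map_one]))
    · intro h; exact hT1 (hf (by rw [h, map_one]))
    · intro h; exact T_ne' (hf h)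

theorem bad3_of_m22 (hf : Function.Injective f) (h27 : ¬ 27 ∣ Nat.card K) : Bad3 K := by
  have h3 : Fact (Nat.Prime 3) := ⟨Nat.prime_three⟩
  have ha : (f X) ^ 3 = 1 := by rw [← map_pow, X3, map_one]
  have hb : (f Y) ^ 3 = 1 := by rw [← map_pow, Y3, map_one]
  have hab : Commute (f X) (f Y) := by
    show f X * f Y = f Y * f X
    rw [← map_mul, XY, map_mul]
  let E : Subgroup K :=
    { carrier := {g | ∃ i j : ℕ, g = f X ^ i * f Y ^ j}
      one_mem' := ⟨0, 0, by simp⟩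
      mul_mem' := by
        rintro _ _ ⟨i, j, rfl⟩ ⟨k, l, rfl⟩
        refine ⟨i + k, j + l, ?_⟩
        rw [pow_add, pow_add]
        have := ((hab.pow_left k).pow_right j).eq
        calc f X ^ i * f Y ^ j * (f X ^ k * f Y ^ l) = f X ^ i * (f Y ^ j * f X ^ k) * f Y ^ l := by group
          _ = f X ^ i * (f X ^ k * f Y ^ j) * f Y ^ l := by rw [this]
          _ = f X ^ i * f X ^ k * (f Y ^ j * f Y ^ l) := by group
      inv_mem' := by
        rintro _ ⟨i, j, rfl⟩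
        refine ⟨2 * i, 2 * j, ?_⟩
        apply inv_eq_of_mul_eq_one_right
        have := ((hab.pow_left (2 * i)).pow_right j).eq
        calc f X ^ i * f Y ^ j * (f X ^ (2 * i) * f Y ^ (2 * j))
            = f X ^ i * (f Y ^ j * f X ^ (2 * i)) * f Y ^ (2 * j) := by group
          _ = f X ^ i * (f X ^ (2 * i) * f Y ^ j) * f Y ^ (2 * j) := by rw [this]
          _ = (f X ^ i * f X ^ (2 * i)) * (f Y ^ j * f Y ^ (2 * j)) := by group
          _ = (f X ^ 3) ^ i * (f Y ^ 3) ^ j := by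
            rw [← pow_add, ← pow_add, ← pow_mul, ← pow_mul]
            congr 2 <;> ring
          _ = 1 := by rw [ha, hb, one_pow, one_pow, one_mul] }
  have hmem : ∀ g, g ∈ E ↔ ∃ i j : ℕ, g = f X ^ i * f Y ^ j := fun _ => Iff.rfl
  have hE3 : IsPGroup 3 E := by
    rintro ⟨g, hg⟩
    refine ⟨1, Subtype.ext ?_⟩
    obtain ⟨i, j, rfl⟩ := (hmem _).1 hg
    show (f X ^ i * f Y ^ j) ^ (3 ^ 1) = 1
    rw [pow_one, ((hab.pow_left i).pow_right j).mul_pow, ← pow_mul, ← pow_mul, mul_comm i, mul_comm j, pow_mul, pow_mul,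
      ha, hb, one_pow, one_pow, one_mul]
  have hE9 : 9 ≤ Nat.card E := by
    let ψ : Fin 3 × Fin 3 → E := fun p => ⟨f X ^ (p.1 : ℕ) * f Y ^ (p.2 : ℕ), (hmem _).2 ⟨_, _, rfl⟩⟩
    have hψ : Function.Injective ψ := by
      rintro ⟨i, j⟩ ⟨k, l⟩ h
      have h1 : f X ^ (i : ℕ) * f Y ^ (j : ℕ) = f X ^ (k : ℕ) * f Y ^ (l : ℕ) := congrArg Subtype.val h
      rw [← map_pow, ← map_pow, ← map_pow, ← map_pow, ← map_mul, ← map_mul] at h1
      have h2 := xy_inj i j k l (congrArg Subtype.val (hf h1))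
      rw [h2.1, h2.2]
    have h4 := Nat.card_le_card_of_injective ψ hψ
    simpa only [_root_.ge_iff_le, _root_.Nat.card_eq_fintype_card, _root_.Fintype.card_prod, _root_.Fintype.card_fin, _root_.Nat.reduceMul] using h4
  obtain ⟨P, hP⟩ := hE3.exists_le_sylow
  have hPE : (P : Subgroup K) = E := by
    refine (Subgroup.eq_of_le_of_card_ge hP ?_).symm
    obtain ⟨j, hj⟩ := (IsPGroup.iff_card (p := 3)).1 P.isPGroup'
    have hj' : Nat.card (P : Subgroup K) = 3 ^ j := hj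
    rw [hj']
    refine le_trans ?_ hE9
    have h5 : j ≤ 2 := by
      by_contra hlt
      apply h27
      have h6 : 3 ^ 3 ∣ 3 ^ j := pow_dvd_pow 3 (by omega)
      have h7 : (3 ^ 3 : ℕ) ∣ Nat.card K := h6.trans (hj' ▸ card_subgroup_dvd_card _)
      simpa only [_root_.Nat.reducePow] using h7
    calc 3 ^ j ≤ 3 ^ 2 := Nat.pow_le_pow_right (by norm_num) h5
      _ = 9 := by norm_num
  left
  refine ⟨P, fun x hx ho => ?_⟩
  have hx' : x ∈ E := hPE ▸ hx
  obtain ⟨i, j, rfl⟩ := (hmem _).1 hx'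
  rw [pow_eq_pow_mod i ha, pow_eq_pow_mod j hb] at ho ⊢
  have hi : i % 3 < 3 := Nat.mod_lt _ (by norm_num)
  have hj : j % 3 < 3 := Nat.mod_lt _ (by norm_num)
  by_cases h0 : (⟨i % 3, hi⟩ : Fin 3) = 0 ∧ (⟨j % 3, hj⟩ : Fin 3) = 0
  · exfalso
    have h1 : i % 3 = 0 := congrArg Fin.val h0.1
    have h2 : j % 3 = 0 := congrArg Fin.val h0.2
    rw [h1, h2, pow_zero, pow_zero, one_mul, orderOf_one] at ho
    omega
  · have h1 := Cj_spec ⟨i % 3, hi⟩ ⟨j % 3, hj⟩ h0
    have h2 : f X ^ (i % 3) * f Y ^ (j % 3) = f (Cj ⟨i % 3, hi⟩ ⟨j % 3, hj⟩) * f X * (f (Cj ⟨i % 3, hi⟩ ⟨j % 3, hj⟩))⁻¹ := by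
      rw [← map_pow, ← map_pow, ← map_mul, ← map_mul, ← map_inv, ← map_mul, h1]
    rw [h2]
    exact (bad_X f hf).conj _

end

theorem no34_m23 {G : Type*} [Group G] (h : Spor.IsoM23 G) : No34 G := by
  obtain ⟨e⟩ := h
  have hc : Nat.card Spor.M23 = 10200960 := SporadicA.MathieuRecog.card_M23
  have hfin : Finite Spor.M23 := Nat.finite_of_card_ne_zero (by rw [hc]; norm_num)
  have hb : Bad3 Spor.M23 := bad3_of_m22 (Subgroup.inclusion (inf_le_left : Spor.M22 ≤ Spor.M23))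
    (Subgroup.inclusion_injective _) (by rw [hc]; norm_num)
  exact No34.congr e.symm (no34_of_chk (n := 10200960)
    (l := [(2, 7), (3, 2), (5, 1), (7, 1), (11, 1), (23, 1)])
    Omega.TwoF.simple_M23 hc (by decide +kernel) (Or.inr (Or.inr hb)) noE')

theorem no34_hs {G : Type*} [Group G] (h : Spor.IsoHS G) : No34 G := by
  obtain ⟨e⟩ := h
  have hs : IsSimpleGroup Spor.HS := by
    obtain ⟨⟨f⟩, h1⟩ := Cfsg.Agent.HN.AutHS.nonempty_Q
    have hn : Nontrivial Spor.HS := f.symm.toEquiv.nontrivial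
    exact IsSimpleGroup.isSimpleGroup_of_surjective f.toMonoidHom f.surjective
  have hc : Nat.card Spor.HS = 44352000 := KFacts.HS.card ⟨MulEquiv.refl _⟩
  have hfin : Finite Spor.HS := Nat.finite_of_card_ne_zero (by rw [hc]; norm_num)
  have hb : Bad3 Spor.HS := bad3_of_m22 H817.Thin.Conway.embHS
    (fun σ τ h => H817.Thin.Conway.perm_inj (σ := σ) (τ := τ)
      (congrArg (fun z : Spor.HS => (z : Equiv.Perm leechLattice)) h)) (by rw [hc]; norm_num)
  exact No34.congr e.symm (no34_of_chk (n := 44352000)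
    (l := [(2, 9), (3, 2), (5, 3), (7, 1), (11, 1)])
    hs hc (by decide +kernel) (Or.inr (Or.inr hb)) noE')

end Cfsg.Agent.H315.FxNum
end

private theorem dce_e8df62a65e47 : _root_.True := by
  try have : _root_.True := by simp only [_root_.Cfsg.Agent.H517.FxAlt.cyc.eq_1]
  try have : _root_.True := by simp only [_root_.Cfsg.Agent.H517.FxAlt.io.congr_simp]
  try have : _root_.True := by simp only [_root_.Cfsg.Agent.H517.FxAlt.cyc.congr_simp]
  exact _root_.True.intro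
end

-- part: H315/FxSporB_mg
section
set_option linter.all false
open scoped Cfsg.Agent.FastGrp

-- part: H315/FxSporB
section
/-!
# `No34` for the Baby Monster and the Monster (helper315)
-/

set_option autoImplicit false

namespace Cfsg.Agent.H315.FxNum

open Cfsg Cfsg.Agent.H254.Fx

private noncomputable def _root_.Cfsg.Agent.LsF.fa19c6e_0 : {f // @Cfsg.Agent.OrdDiv.isPrimeB = f} := ⟨_, by first | (delta Cfsg.Agent.OrdDiv.isPrimeB; rewrite [Cfsg.Agent.LsF.nmod_pat, Cfsg.Agent.LsF.nbne_pat, Cfsg.Agent.LsF.and_eq, Cfsg.Agent.LsF.or_eq, Cfsg.Agent.LsF.all_eq, Cfsg.Agent.LsF.range_eq]; exact rfl) | exact rfl⟩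
private noncomputable def _root_.Cfsg.Agent.LsF.fa19c6e_1 : {f // @Cfsg.Agent.H315.FxNum.pr = f} := ⟨_, by first | (delta Cfsg.Agent.H315.FxNum.pr; rewrite [Cfsg.Agent.LsF.npow_pat, Cfsg.Agent.LsF.map_eq, Cfsg.Agent.LsF.prod_eq]; exact rfl) | exact rfl⟩
private noncomputable def _root_.Cfsg.Agent.LsF.fa19c6e_2 : {f // @Cfsg.Agent.H315.FxNum.leaf = f} := ⟨_, by first | (delta Cfsg.Agent.H315.FxNum.leaf; rewrite [Cfsg.Agent.LsF.nmul_pat, Cfsg.Agent.LsF.nsub_pat, Cfsg.Agent.LsF.ndiv_pat, Cfsg.Agent.LsF.nmod_pat, Cfsg.Agent.LsF.npow_pat, Cfsg.Agent.LsF.nbeq_pat, Cfsg.Agent.LsF.nbne_pat, Cfsg.Agent.LsF.instNBEq_pat, Cfsg.Agent.LsF.and_eq, Cfsg.Agent.LsF.or_eq, Cfsg.Agent.LsF.instDecEq_eq, Cfsg.Agent.LsF.all_eq, Cfsg.Agent.LsF.any_eq, Cfsg.Agent.LsF.contains_eq, Cfsg.Agent.LsF.instPBEq_eq, Cfsg.Agent.LsF.ite_eq]; exact rfl) | exact rfl⟩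
private noncomputable def _root_.Cfsg.Agent.LsF.fa19c6e_3 : {f // @Cfsg.Agent.H315.FxNum.chk = f} := ⟨_, by first | (delta Cfsg.Agent.H315.FxNum.chk List.brecOn List.brecOn.go Cfsg.Agent.H315.FxNum.chk._f; rewrite [Cfsg.Agent.LsF.fa19c6e_2.2, Cfsg.Agent.LsF.nmul_pat, Cfsg.Agent.LsF.npow_pat, Cfsg.Agent.LsF.nbeq_pat, Cfsg.Agent.LsF.and_eq, Cfsg.Agent.LsF.or_eq]; (try delta Cfsg.Agent.H315.FxNum.chk.match_1); (try delta List.casesOn); first | dsimp -zeta only | exact rfl) | exact rfl⟩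
private noncomputable def _root_.Cfsg.Agent.LsF.fa19c6e_4 : {f // @Cfsg.Agent.H315.FxNum.okc = f} := ⟨_, by first | (delta Cfsg.Agent.H315.FxNum.okc; rewrite [Cfsg.Agent.NodupNat.dec_eq, Cfsg.Agent.LsF.fa19c6e_0.2, Cfsg.Agent.LsF.fa19c6e_1.2, Cfsg.Agent.LsF.fa19c6e_3.2, Cfsg.Agent.LsF.nmod_pat, Cfsg.Agent.LsF.nbeq_pat, Cfsg.Agent.LsF.nbne_pat, Cfsg.Agent.LsF.and_eq, Cfsg.Agent.LsF.all_eq, Cfsg.Agent.LsF.map_eq, Cfsg.Agent.LsF.filter_eq, Cfsg.Agent.LsF.decide_eq]; exact rfl) | exact rfl⟩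
theorem no34_b {G : Type*} [Group G] (h : Spor.IsoB G) : No34 G := by
  obtain ⟨e⟩ := h
  exact No34.congr e.symm (no34_of_chk (n := 4154781481226426191177580544000000)
    (l := [(2, 41), (3, 13), (5, 6), (7, 2), (11, 1), (13, 1), (17, 1), (19, 1), (23, 1), (31, 1), (47, 1)])
    (E := []) S1704.result.1 S1704.result.2 (by ((try (rewrite [Cfsg.Agent.LsF.fa19c6e_4.2])); decide +kernel)) (Or.inl rfl) (fun _ h => absurd h List.not_mem_nil))

theorem no34_m {G : Type*} [Group G] (h : Spor.IsoM G) : No34 G := by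
  obtain ⟨e⟩ := h
  exact No34.congr e.symm (no34_of_chk (n := 808017424794512875886459904961710757005754368000000000)
    (l := [(2, 46), (3, 20), (5, 9), (7, 6), (11, 2), (13, 3), (17, 1), (19, 1), (23, 1), (29, 1), (31, 1), (41, 1),
      (47, 1), (59, 1), (71, 1)])
    (E := []) S1705.result.1 S1705.result.2 (by ((try (rewrite [Cfsg.Agent.LsF.fa19c6e_4.2])); decide +kernel)) (Or.inl rfl) (fun _ h => absurd h List.not_mem_nil))

end Cfsg.Agent.H315.FxNum
end

-- part: H753/FxHN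
section
/-!
# Fixity 3 and 4: the row `HN` (helper753, for S3002 and S2993)
-/

set_option autoImplicit false

namespace Cfsg.Agent.H753.FxHN

open Subgroup Cfsg.Agent.H254.Fx Cfsg.Agent.H753.FxNum Cfsg.Agent.OrdDiv
open Cfsg.Agent.HN Cfsg.Agent.HN.Pres Cfsg.Agent.KFacts.HN

/-- the factorization of the order -/
def l : List (ℕ × ℕ) := [(2, 14), (3, 6), (5, 6), (7, 1), (11, 1), (19, 1)]

theorem card_tau : Nat.card (centralizer ({NormalH.ψ H0Basic.τ} : Set Cfsg.Spor.HN)) = 177408000 :=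
  Classes.card_centralizer_τ

theorem orderOf_tau : orderOf (NormalH.ψ H0Basic.τ : Cfsg.Spor.HN) = 2 := by
  refine orderOf_eq_prime ?_ ?_
  · rw [← map_pow]
    rw [H0Basic.τ_sq, map_one]
  · intro h1
    have h := card_tau
    have h2 : centralizer ({(1 : Cfsg.Spor.HN)} : Set Cfsg.Spor.HN) = ⊤ := by
      rw [eq_top_iff]
      intro g _
      rw [mem_centralizer_singleton_iff, mul_one, one_mul]
    rw [h1, h2, card_top, Classes.card_HN] at h
    norm_num at h

theorem no34 : No34 Cfsg.Spor.HN := by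
  have hf : Finite Cfsg.Spor.HN := Nat.finite_of_card_ne_zero (by rw [Classes.card_HN]; norm_num)
  refine no34_num (n := 273030912000000) (l := l) (dead3 := [2, 5, 7]) (dead4 := [2]) (km := []) (by decide +kernel)
    (by decide +kernel) Classes.card_HN (Or.inl (by norm_num)) ?_ ?_ (by simp) (by decide +kernel) (by decide +kernel)
  · intro p hp
    simp only [List.mem_cons, List.not_mem_nil, or_false] at hp
    rcases hp with rfl | rfl | rfl
    · exact dead_two 3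
    · exact dead3_of_dvd (by norm_num) (by norm_num) orderOf_tau (by rw [card_tau]; norm_num)
    · exact dead3_of_dvd (by norm_num) (by norm_num) orderOf_tau (by rw [card_tau]; norm_num)
  · intro p hp
    rw [List.mem_singleton.1 hp]
    exact dead_two 4

/-- **The row `HN`.** -/
theorem no34_hn {G : Type*} [Group G] (h : Cfsg.Spor.IsoHN G) : No34 G := by
  obtain ⟨e⟩ := h
  exact no34.congr e.symm

end Cfsg.Agent.H753.FxHN
end

-- part: H753/FxTh
section
/-!
# Fixity 3 and 4: the row `Th` (helper753, for S3002 and S2993)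
-/

set_option autoImplicit false

namespace Cfsg.Agent.H753.FxTh

open Subgroup Cfsg.Agent.H254.Fx Cfsg.Agent.H753.FxNum Cfsg.Agent.OrdDiv
open Cfsg.Agent.Th.Base Cfsg.Agent.Th.Word Cfsg.Agent.Th.RelWords Cfsg.Agent.Th.PermTab
  Cfsg.Agent.Th.KOracle Cfsg.Agent.Th.KPerm Cfsg.Agent.Th.NineAct Cfsg.Agent.Th.CStruct
  Cfsg.Agent.Th.COracleDef Cfsg.Agent.Th.COracleSound
open Cfsg.Agent.KFacts.Th.Mask Cfsg.Agent.KFacts.Th.Struct
open Cfsg.Agent.CpAutTh

universe u

/-- the factorization of the order -/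
def l : List (ℕ × ℕ) := [(2, 15), (3, 10), (5, 3), (7, 2), (13, 1), (19, 1), (31, 1)]

section

variable {G : Type u} [Group G] {γ : ℕ → G} (h : Ctx γ)
include h

/-- a bad element of order 3 -/
theorem bad_three [Finite G] : ∃ x : G, orderOf x = 3 ∧ Bad x := by
  obtain ⟨f, F⟩ := Local.exists_epi h
  refine ⟨ev γ Data.X33, ?_, ?_⟩
  · have := Local.o33 h F
    rwa [Subgroup.orderOf_mk] at this
  · exact bad_of_comm_eight (Y := ThreeE.E γ) (fun y hy => ThreeE.E_comm h hy) (by rw [ThreeE.card_E h]; norm_num)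

theorem card_T_ge [Finite G] : 8 ∣ Nat.card ↥(Seven.T γ) := by
  have h0 : cc γ 0 ∈ Seven.T γ := subset_closure (by simp)
  have h1 : cc γ 1 ∈ Seven.T γ := subset_closure (by simp)
  have h4 : 4 ∣ Nat.card ↥(Seven.T γ) := by
    rw [← Seven.order_w01 h]
    exact orderOf_dvd_card_of_mem (mul_mem h0 h1)
  have hne : Nat.card ↥(Seven.T γ) ≠ 4 := by
    intro hc
    -- then the group would be cyclic, `cc γ 0` would be a power of `w`
    have hz : zpowers (cc γ 0 * cc γ 1) = Seven.T γ := by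
      apply eq_of_le_of_card_ge
      · rw [zpowers_le]
        exact mul_mem h0 h1
      · rw [hc, Nat.card_zpowers, Seven.order_w01 h]
    have hcomm : cc γ 0 * cc γ 1 = cc γ 1 * cc γ 0 := by
      rw [← hz] at h0 h1
      obtain ⟨i, hi⟩ := mem_zpowers_iff.1 h0
      obtain ⟨j, hj⟩ := mem_zpowers_iff.1 h1
      have h7 := ((Commute.refl (cc γ 0 * cc γ 1)).zpow_zpow i j).eq
      rwa [hi, hj] at h7
    have h5 := Seven.w01 h
    have h6 : (cc γ 0 * cc γ 1) * (cc γ 0 * cc γ 1) = 1 := by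
      calc (cc γ 0 * cc γ 1) * (cc γ 0 * cc γ 1) = cc γ 0 * (cc γ 1 * cc γ 0) * cc γ 1 := by group
        _ = cc γ 0 * (cc γ 0 * cc γ 1) * cc γ 1 := by rw [hcomm]
        _ = (cc γ 0 * cc γ 0) * (cc γ 1 * cc γ 1) := by group
        _ = 1 := by rw [h.data.cc 0, h.data.cc 1, one_mul]
    rw [h6] at h5
    exact h.a1 h5.symm
  have h8 := Seven.card_T h
  have hpos : 0 < Nat.card ↥(Seven.T γ) := Nat.card_pos
  obtain ⟨c, hc⟩ := h4
  have : c = 2 := by
    have h9 : c ≤ 2 := by omega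
    interval_cases c
    · omega
    · exact absurd hc hne
    · rfl
  rw [hc, this]

/-- a bad element of order 7 -/
theorem bad_seven [Finite G] : ∃ x : G, orderOf x = 7 ∧ Bad x := by
  obtain ⟨f, F⟩ := Local.exists_epi h
  refine ⟨ev γ Data.X7, ?_, ?_⟩
  · have := Local.o7 h F
    rwa [Subgroup.orderOf_mk] at this
  · exact bad_of_comm_eight (Y := Seven.T γ) (fun y hy => Seven.T_comm h hy) (card_T_ge h)

end

theorem no34 : No34 Cfsg.Spor.Th := by
  have hcard : Nat.card Cfsg.Spor.Th = 90745943887872000 := Cfsg.Agent.Th.Main1700.isTh.2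
  have hf : Finite Cfsg.Spor.Th := Nat.finite_of_card_ne_zero (by rw [hcard]; norm_num)
  refine no34_num (n := 90745943887872000) (l := l) (dead3 := [2]) (dead4 := [2, 3, 7]) (km := []) (by decide +kernel)
    (by decide +kernel) hcard (Or.inl (by norm_num)) ?_ ?_ (by simp) (by decide +kernel) (by decide +kernel)
  · intro p hp
    rw [List.mem_singleton.1 hp]
    exact dead_two 3
  · intro p hp
    simp only [List.mem_cons, List.not_mem_nil, or_false] at hp
    rcases hp with rfl | rfl | rfl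
    · exact dead_two 4
    · obtain ⟨x, hx, hb⟩ := bad_three Cfsg.Agent.KFacts.Th.Main.ctx
      exact dead_three_of_bad3 4 (bad3_of_card hx hb (Or.inl (by rw [hcard]; norm_num)))
    · obtain ⟨x, hx, hb⟩ := bad_seven Cfsg.Agent.KFacts.Th.Main.ctx
      exact dead_of_bad 4 (by norm_num) (by norm_num) hx hb

/-- **The row `Th`.** -/
theorem no34_th {G : Type*} [Group G] (h : Cfsg.Spor.IsoTh G) : No34 G := by
  obtain ⟨e⟩ := h
  exact no34.congr e.symm

end Cfsg.Agent.H753.FxTh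
end
end

-- part: H682/Fx/OrthFam_mg
section
prune_inst 0x4a01002200100100000000000000000001000009000008800000000400a00800000000000000000000000000000000000000000000000000000000000000400000000000000010000820000000000000000000000000000000000000000000000000000000
set_option linter.all false
open scoped Cfsg.Agent.FastGrp

-- part: H682/Fx/Refl
section
/-!
# Commuting involutions of `Ω(Q)` supported on a nondegenerate subspace (helper682)
-/

set_option autoImplicit false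
set_option linter.unusedSectionVars false

open Matrix

namespace Cfsg.Agent.H682.Fx

open QuadraticMap Module Cfsg.Agent.ClassicalGeometry.Reflection
  Cfsg.Agent.ClassicalGeometry.SpinorSign Cfsg.Agent.ClassicalGeometry.OmegaIndex
  Cfsg.Agent.ClassicalGeometry.OrthDickson Cfsg.Agent.H175.OmegaAdjust

variable {F : Type} [Field F] [Finite F] {ι : Type} [Fintype ι] [DecidableEq ι] {Q : QuadraticForm F (ι → F)}

/-- nondegenerate subspace -/
def Nd (Q : QuadraticForm F (ι → F)) (X : Submodule F (ι → F)) : Prop :=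
  ∀ x ∈ X, (∀ y ∈ X, polar ⇑Q x y = 0) → x = 0

/-- orthogonal complement inside `X` of a vector -/
def perpIn (Q : QuadraticForm F (ι → F)) (X : Submodule F (ι → F)) (v : ι → F) : Submodule F (ι → F) :=
  X ⊓ LinearMap.ker (polarBilin Q v)

theorem mem_perpIn {X : Submodule F (ι → F)} {v x : ι → F} :
    x ∈ perpIn Q X v ↔ x ∈ X ∧ polar ⇑Q v x = 0 := by
  rw [perpIn, Submodule.mem_inf, LinearMap.mem_ker, polarBilin_apply_apply]

theorem finrank_perpIn (X : Submodule F (ι → F)) (v : ι → F) :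
    finrank F X ≤ finrank F (perpIn Q X v) + 1 := by
  have h1 : finrank F ↥(X ⊓ LinearMap.ker (polarBilin Q v)) + finrank F ↥(X ⊔ LinearMap.ker (polarBilin Q v)) =
      finrank F X + finrank F ↥(LinearMap.ker (polarBilin Q v)) := by
    rw [add_comm]; exact Submodule.finrank_sup_add_finrank_inf_eq _ _
  have h2 := (polarBilin Q v).finrank_range_add_finrank_ker
  have h3 : finrank F (LinearMap.range (polarBilin Q v)) ≤ 1 := by
    refine (Submodule.finrank_le _).trans ?_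
    rw [finrank_self]
  have h4 : finrank F ↥(X ⊔ LinearMap.ker (polarBilin Q v)) ≤ finrank F (ι → F) := Submodule.finrank_le _
  rw [perpIn]
  omega

/-- **splitting off a nonsingular vector** -/
theorem split {X : Submodule F (ι → F)} (hX : 2 ≤ finrank F X) (hnd : Nd Q X) :
    ∃ v ∈ X, ∃ w ∈ X, Q v ≠ 0 ∧ polar ⇑Q v w ≠ 0 ∧ ((2 : F) ≠ 0 → Q v = 1) ∧
      ∃ X' ≤ X, Nd Q X' ∧ finrank F X ≤ finrank F X' + 2 ∧ ∀ x ∈ X', polar ⇑Q v x = 0 ∧ polar ⇑Q w x = 0 := by
  by_cases h2 : (2 : F) = 0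
  · obtain ⟨v, hvX, hv⟩ := exists_nonsing Q X (by
      rintro rfl
      rw [finrank_bot] at hX
      omega) hnd
    have hv0 : v ≠ 0 := by
      rintro rfl
      rw [QuadraticMap.map_zero] at hv
      exact hv rfl
    obtain ⟨w, hwX, hw⟩ : ∃ w ∈ X, polar ⇑Q v w ≠ 0 := by
      by_contra hcon
      push Not at hcon
      exact hv0 (hnd v hvX hcon)
    have hvv : polar ⇑Q v v = 0 := by rw [polar_self', h2, zero_mul]
    have hww : polar ⇑Q w w = 0 := by rw [polar_self', h2, zero_mul]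
    have hwv : polar ⇑Q w v ≠ 0 := by rwa [polar_comm]
    refine ⟨v, hvX, w, hwX, hv, hw, fun h => absurd h2 h, perpIn Q (perpIn Q X v) w, ?_, ?_, ?_, ?_⟩
    · intro x hx
      exact (mem_perpIn.1 (mem_perpIn.1 hx).1).1
    · intro x hx h
      have hx1 := mem_perpIn.1 hx
      have hx2 := mem_perpIn.1 hx1.1
      apply hnd x hx2.1
      intro y hy
      obtain ⟨y', hy'⟩ : ∃ y', y' = y - (polar ⇑Q v w)⁻¹ • (polar ⇑Q w y • v) -
          (polar ⇑Q v w)⁻¹ • (polar ⇑Q v y • w) := ⟨_, rfl⟩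
      have e : y = y' + ((polar ⇑Q v w)⁻¹ • (polar ⇑Q w y • v) + (polar ⇑Q v w)⁻¹ • (polar ⇑Q v y • w)) := by
        rw [hy']; abel
      have hy'X : y' ∈ perpIn Q (perpIn Q X v) w := by
        rw [mem_perpIn, mem_perpIn]
        refine ⟨⟨?_, ?_⟩, ?_⟩
        · rw [hy']
          exact X.sub_mem (X.sub_mem hy (X.smul_mem _ (X.smul_mem _ hvX))) (X.smul_mem _ (X.smul_mem _ hwX))
        · rw [hy', polar_sub_right, polar_sub_right, polar_smul_right, polar_smul_right, polar_smul_right,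
            polar_smul_right, hvv]
          simp only [smul_eq_mul, mul_zero, sub_zero]
          field_simp
          ring
        · rw [hy', polar_sub_right, polar_sub_right, polar_smul_right, polar_smul_right, polar_smul_right,
            polar_smul_right, hww, polar_comm (⇑Q) w v]
          simp only [smul_eq_mul, mul_zero, sub_zero]
          field_simp
          ring
      rw [e, polar_add_right, h y' hy'X, polar_add_right, polar_smul_right, polar_smul_right, polar_smul_right,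
        polar_smul_right, polar_comm (⇑Q) x v, polar_comm (⇑Q) x w, hx2.2, hx1.2]
      simp
    · have e1 := finrank_perpIn (Q := Q) X v
      have e2 := finrank_perpIn (Q := Q) (perpIn Q X v) w
      omega
    · intro x hx
      have hx1 := mem_perpIn.1 hx
      exact ⟨(mem_perpIn.1 hx1.1).2, hx1.2⟩
  · obtain ⟨v, hvX, hv⟩ := exists_value h2 Q X hX hnd 1
    have hv0 : Q v ≠ 0 := by rw [hv]; exact one_ne_zero
    have hvv : polar ⇑Q v v = 2 := by rw [polar_self', hv, mul_one]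
    refine ⟨v, hvX, v, hvX, hv0, by rw [hvv]; exact h2, fun _ => hv, perpIn Q X v, ?_, ?_, ?_, ?_⟩
    · intro x hx
      exact (mem_perpIn.1 hx).1
    · intro x hx h
      have hx1 := mem_perpIn.1 hx
      apply hnd x hx1.1
      intro y hy
      have e : y = (y - ((2 : F)⁻¹ * polar ⇑Q v y) • v) + ((2 : F)⁻¹ * polar ⇑Q v y) • v := by abel
      rw [e, polar_add_right, polar_smul_right, polar_comm (⇑Q) x v, hx1.2, smul_zero, add_zero]
      apply h
      rw [mem_perpIn]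
      refine ⟨X.sub_mem hy (X.smul_mem _ hvX), ?_⟩
      rw [polar_sub_right, polar_smul_right, hvv, smul_eq_mul]
      field_simp
      ring
    · have e1 := finrank_perpIn (Q := Q) X v
      omega
    · intro x hx
      exact ⟨(mem_perpIn.1 hx).2, (mem_perpIn.1 hx).2⟩

/-- a product of two reflections in `Ω` -/
theorem refl_mul_mem (hQ : (polarBilin Q).Nondegenerate) (hn : 5 ≤ Fintype.card ι) {u v : ι → F} (hu : Q u ≠ 0)
    (hv : Q v ≠ 0) (h : (2 : F) ≠ 0 → Q u = 1 ∧ Q v = 1) :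
    reflIso Q u hu * reflIso Q v hv ∈ Cfsg.Omega F ⇑Q := by
  have := Fintype.ofFinite F
  by_cases h2 : (2 : F) = 0
  · rw [Cfsg.Agent.H183.mem_Omega_iff_dsign _ h2 hQ (Or.inr (by omega)), dsign_mul_of_gen Q hQ (Or.inr (by omega)),
      dsign_refl Q hQ, dsign_refl Q hQ]
    decide
  · rw [Cfsg.Agent.S2609.mem_Omega_of_prod h2 (by omega) Q hQ _ [u, v] (by
      intro w hw
      rcases List.mem_pair.mp hw with rfl | rfl
      · exact hu
      · exact hv)]
    · refine ⟨⟨1, rfl⟩, ?_⟩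
      rw [List.map_cons, List.map_cons, List.map_nil, List.prod_cons, List.prod_cons, List.prod_nil, (h h2).1, (h h2).2]
      exact ⟨1, by simp⟩
    · rw [List.map_cons, List.map_cons, List.map_nil, List.prod_cons, List.prod_cons, List.prod_nil, mul_one,
        ← coe_reflIso Q u hu, ← coe_reflIso Q v hv]
      rfl

/-- reflections in orthogonal vectors commute -/
theorem refl_commute {u v : ι → F} (hu : Q u ≠ 0) (hv : Q v ≠ 0) (h : polar ⇑Q u v = 0) :
    reflIso Q u hu * reflIso Q v hv = reflIso Q v hv * reflIso Q u hu := by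
  have h' : polar ⇑Q v u = 0 := by rw [polar_comm]; exact h
  apply isometryGroup_ext
  intro x
  rw [coe_mul_mulVec, coe_mul_mulVec, coe_reflIso, coe_reflIso, reflectionMatrix_mulVec, reflectionMatrix_mulVec,
    reflectionMatrix_mulVec, reflectionMatrix_mulVec]
  simp only [polar_sub_right, polar_smul_right, h, h', smul_eq_mul, mul_zero, sub_zero]
  abel

theorem refl_fix {v x : ι → F} (hv : Q v ≠ 0) (h : polar ⇑Q v x = 0) :
    ((reflIso Q v hv : GL ι F) : Matrix ι ι F) *ᵥ x = x := by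
  rw [coe_reflIso, reflectionMatrix_mulVec_of_polar_eq_zero Q v x h]

theorem refl_move {v x : ι → F} (hv : Q v ≠ 0) (h : polar ⇑Q v x ≠ 0) :
    ((reflIso Q v hv : GL ι F) : Matrix ι ι F) *ᵥ x ≠ x := by
  rw [coe_reflIso, reflectionMatrix_mulVec]
  intro h1
  rw [sub_eq_self, smul_eq_zero] at h1
  rcases h1 with h1 | h1
  · rcases mul_eq_zero.1 h1 with h2 | h2
    · exact hv (inv_eq_zero.1 h2)
    · exact h h2
  · rw [h1, QuadraticMap.map_zero] at hv
    exact hv rfl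

end Cfsg.Agent.H682.Fx
end

-- part: H682/Fx/Invol
section
/-!
# Centralizers of elements of `PΩ(Q)`: involutions (helper682)
-/

set_option autoImplicit false
set_option linter.unusedSectionVars false

open Matrix

namespace Cfsg.Agent.H682.Fx

open QuadraticMap Module Cfsg.Agent.ClassicalGeometry.Reflection
  Cfsg.Agent.H175.OmegaAdjust Cfsg.Agent.H104 Cfsg.Agent.H104.AtomIsom Cfsg.Agent.H104.AtomQuad
  Cfsg.Agent.H104.OmegaTools Cfsg.Agent.H104.IrrOmega Cfsg.Agent.LieClassical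

theorem four_dvd_of_klein {G : Type*} [Group G] [Finite G] {a b : G} (ha : a * a = 1) (hb : b * b = 1)
    (hab : a * b = b * a) (ha1 : a ≠ 1) (hb1 : b ≠ 1) (hne : a ≠ b) : 4 ∣ Nat.card G := by
  have oa : orderOf a = 2 := orderOf_eq_prime (by rw [_root_.sq, ha]) ha1
  have ob : orderOf b = 2 := orderOf_eq_prime (by rw [_root_.sq, hb]) hb1
  have mem : ∀ {c x : G}, c * c = 1 → x ∈ Subgroup.zpowers c → x = 1 ∨ x = c := by
    intro c x hc hx
    obtain ⟨n, rfl⟩ := Subgroup.mem_zpowers_iff.1 hx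
    rcases Int.even_or_odd n with ⟨k, rfl⟩ | ⟨k, rfl⟩
    · left
      rw [_root_.zpow_add, ← (Commute.refl c).mul_zpow, hc, _root_.one_zpow]
    · right
      rw [_root_.zpow_add, two_mul, _root_.zpow_add, ← (Commute.refl c).mul_zpow, hc, _root_.one_zpow, one_mul, zpow_one]
  have hcomm : ∀ (x : Subgroup.zpowers a) (y : Subgroup.zpowers b),
      Commute ((Subgroup.zpowers a).subtype x) ((Subgroup.zpowers b).subtype y) := by
    rintro ⟨x, hx⟩ ⟨y, hy⟩
    obtain ⟨n, rfl⟩ := Subgroup.mem_zpowers_iff.1 hx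
    obtain ⟨m, rfl⟩ := Subgroup.mem_zpowers_iff.1 hy
    exact Commute.zpow_zpow (show Commute a b from hab) n m
  let φ : Subgroup.zpowers a × Subgroup.zpowers b →* G :=
    MonoidHom.noncommCoprod (Subgroup.zpowers a).subtype (Subgroup.zpowers b).subtype hcomm
  have hφ : Function.Injective φ := by
    rw [injective_iff_map_eq_one]
    rintro ⟨⟨x, hx⟩, ⟨y, hy⟩⟩ h
    have h1 : x * y = 1 := h
    have h2 : x = y⁻¹ := eq_inv_of_mul_eq_one_left h1
    have h3 : x = 1 ∨ x = b := mem hb (by rw [h2]; exact inv_mem hy)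
    have h4 : x = 1 := by
      rcases mem ha hx with h4 | h4
      · exact h4
      · rcases h3 with h3 | h3
        · exact h3
        · exact absurd (h4.symm.trans h3) hne
    have h5 : y = 1 := by rw [h4, one_mul] at h1; exact h1
    subst h4 h5
    rfl
  have h1 := Subgroup.card_dvd_of_injective φ hφ
  rw [Nat.card_prod, Nat.card_zpowers, Nat.card_zpowers, oa, ob] at h1
  exact h1

section

variable {F : Type} [Field F] [Finite F] {ι : Type} [Fintype ι] [DecidableEq ι] {Q : QuadraticForm F (ι → F)}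
  (hQ : (polarBilin Q).Nondegenerate) (hn : 5 ≤ Fintype.card ι) (hs : ∃ u : ι → F, u ≠ 0 ∧ Q u = 0)

/-- the projection to `PΩ` -/
abbrev pr (Q : QuadraticForm F (ι → F)) : ↥(Cfsg.Omega F ⇑Q) →* Cfsg.POmega F ⇑Q :=
  QuotientGroup.mk' (Subgroup.center (Cfsg.Omega F ⇑Q))

include hQ hn hs

/-- an element fixing a nonzero vector and trivial in `PΩ` is trivial -/
theorem eq_one_of_pr {g : ↥(Cfsg.Omega F ⇑Q)} {z : ι → F} (hz : z ≠ 0) (hgz : (oGL Q g : Matrix ι ι F) *ᵥ z = z)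
    (h : pr Q g = 1) : g = 1 := by
  rw [QuotientGroup.mk'_apply, QuotientGroup.eq_one_iff, OmegaCenter.mem_center_omega_iff Q hQ (by omega) hs] at h
  have hm : OmegaCenter.omegaMat g = (oGL Q g : Matrix ι ι F) := rfl
  rw [hm] at h
  apply oGL_injective Q
  rw [map_one]
  apply Units.ext
  rw [Units.val_one]
  rcases h with h | h
  · exact h
  · rw [h, Matrix.neg_mulVec, Matrix.one_mulVec] at hgz
    have h2 : (2 : F) = 0 := by
      obtain ⟨i, hi⟩ := Function.ne_iff.1 hz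
      have h3 := congrFun hgz i
      rw [Pi.neg_apply] at h3
      have h4 : (2 : F) * z i = 0 := by linear_combination -h3
      exact (mul_eq_zero.1 h4).resolve_right hi
    rw [h]
    ext i j
    by_cases hij : i = j
    · subst hij
      rw [Matrix.neg_apply, Matrix.one_apply_eq]
      linear_combination -h2
    · rw [Matrix.neg_apply, Matrix.one_apply_ne hij, neg_zero]

theorem pr_inj {g h : ↥(Cfsg.Omega F ⇑Q)} {z : ι → F} (hz : z ≠ 0) (hgz : (oGL Q g : Matrix ι ι F) *ᵥ z = z)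
    (hhz : (oGL Q h : Matrix ι ι F) *ᵥ z = z) (he : pr Q g = pr Q h) : g = h := by
  have h1 : g * h⁻¹ = 1 := by
    refine eq_one_of_pr hQ hn hs hz ?_ (by rw [map_mul, map_inv, he, mul_inv_cancel])
    have h2 : ((oGL Q h)⁻¹ : GL ι F).1 *ᵥ z = z := by
      conv_lhs => rw [← hhz]
      rw [Matrix.mulVec_mulVec, Units.inv_mul, Matrix.one_mulVec]
    rw [map_mul, map_inv, Units.val_mul, ← Matrix.mulVec_mulVec, h2, hgz]
  exact mul_inv_eq_one.1 h1

omit [Finite F] hQ hn hs in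
/-- a nonzero vector orthogonal to the fixed space -/
theorem exists_perp {y : ↥(Cfsg.Omega F ⇑Q)} (hy1 : y ≠ 1) :
    ∃ z : ι → F, z ≠ 0 ∧ ∀ v ∈ fixS (toLE (oGL Q y)), polar ⇑Q v z = 0 := by
  obtain ⟨u, hu⟩ : ∃ u : ι → F, (oGL Q y : Matrix ι ι F) *ᵥ u ≠ u := by
    by_contra hcon
    push Not at hcon
    apply hy1
    apply oGL_injective Q
    rw [map_one]
    apply GL_ext
    intro v
    rw [hcon, Units.val_one, Matrix.one_mulVec]
  refine ⟨(oGL Q y : Matrix ι ι F) *ᵥ u - u, sub_ne_zero.2 hu, ?_⟩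
  intro v hv
  have hv' : (oGL Q y : Matrix ι ι F) *ᵥ v = v := by
    have := mem_fixS.1 hv
    rwa [toLE_apply] at this
  have hpol : polar (⇑Q) v ((oGL Q y : Matrix ι ι F) *ᵥ u) = polar (⇑Q) v u := by
    conv_lhs => rw [← hv']
    rw [polar, polar, ← Matrix.mulVec_add, oGL_Q, oGL_Q, oGL_Q]
  rw [polar_sub_right, hpol, sub_self]

omit hs in
theorem nd_fixS {p : ℕ} (hpF : (p : F) ≠ 0) {y : ↥(Cfsg.Omega F ⇑Q)} (hy : y ^ p = 1) :
    Nd Q (fixS (toLE (oGL Q y))) := by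
  have hyG : (oGL Q y) ^ p = 1 := by rw [← map_pow, hy, map_one]
  exact fixS_nondeg hQ (toLE (oGL Q y)) (fun v => by rw [toLE_apply]; exact oGL_Q y v) (toLE_pow hyG) hpF

omit hs in
/-- products of two reflections as elements of `Ω` commuting with `y` -/
theorem prod_comm {y : ↥(Cfsg.Omega F ⇑Q)} {u v : ι → F} (hu : Q u ≠ 0) (hv : Q v ≠ 0)
    (huy : u ∈ fixS (toLE (oGL Q y))) (hvy : v ∈ fixS (toLE (oGL Q y)))
    (hm : reflIso Q u hu * reflIso Q v hv ∈ Cfsg.Omega F ⇑Q) :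
    (⟨reflIso Q u hu * reflIso Q v hv, hm⟩ : ↥(Cfsg.Omega F ⇑Q)) * y =
      y * ⟨reflIso Q u hu * reflIso Q v hv, hm⟩ := by
  apply Subtype.ext
  have h1 := Subgroup.mem_centralizer_singleton_iff.1 (refl_comm hQ hn (x := (y : Cfsg.isometryGroup F ⇑Q)) hu huy)
  have h2 := Subgroup.mem_centralizer_singleton_iff.1 (refl_comm hQ hn (x := (y : Cfsg.isometryGroup F ⇑Q)) hv hvy)
  change reflIso Q u hu * reflIso Q v hv * (y : Cfsg.isometryGroup F ⇑Q) =
    (y : Cfsg.isometryGroup F ⇑Q) * (reflIso Q u hu * reflIso Q v hv)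
  rw [mul_assoc, h2, ← mul_assoc, h1, mul_assoc]

omit hQ hn hs in
theorem prod_sq {u v : ι → F} (hu : Q u ≠ 0) (hv : Q v ≠ 0) (huv : polar ⇑Q u v = 0) :
    reflIso Q u hu * reflIso Q v hv * (reflIso Q u hu * reflIso Q v hv) = 1 := by
  have h := refl_commute hu hv huv
  calc reflIso Q u hu * reflIso Q v hv * (reflIso Q u hu * reflIso Q v hv) =
      reflIso Q u hu * reflIso Q v hv * (reflIso Q v hv * reflIso Q u hu) := by rw [h]
    _ = reflIso Q u hu * (reflIso Q v hv * reflIso Q v hv) * reflIso Q u hu := by group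
    _ = 1 := by rw [reflIso_mul_self, mul_one, reflIso_mul_self]

/-- an involution commuting with `y` -/
theorem exists_invol {p : ℕ} (hpF : (p : F) ≠ 0) {y : ↥(Cfsg.Omega F ⇑Q)} (hy : y ^ p = 1) (hy1 : y ≠ 1)
    (hd : 4 ≤ finrank F (fixS (toLE (oGL Q y)))) :
    ∃ t : ↥(Cfsg.Omega F ⇑Q), t * y = y * t ∧ orderOf (pr Q t) = 2 := by
  have hob_ := exists_perp hy1
  obtain ⟨z, hz0, hz⟩ := hob_
  have hob_ := split (by omega) (nd_fixS hQ hn hpF hy)
  obtain ⟨v₁, hv₁X, w₁, hw₁X, hv₁, h₁, hq₁, X₁, hX₁, hnd₁, hf₁, hp₁⟩ := hob_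
  have hob_ := split (X := X₁) (by omega) hnd₁
  obtain ⟨v₂, hv₂X, w₂, hw₂X, hv₂, h₂, hq₂, X₂, hX₂, hnd₂, hf₂, hp₂⟩ := hob_
  have hm := refl_mul_mem hQ hn hv₁ hv₂ (fun h => ⟨hq₁ h, hq₂ h⟩)
  refine ⟨⟨_, hm⟩, prod_comm hQ hn hv₁ hv₂ hv₁X (hX₁ hv₂X) hm, ?_⟩
  have hzf : (oGL Q ⟨_, hm⟩ : Matrix ι ι F) *ᵥ z = z := by
    change ((((reflIso Q v₁ hv₁ * reflIso Q v₂ hv₂ : Cfsg.isometryGroup F ⇑Q)) : GL ι F) : Matrix ι ι F) *ᵥ z = z
    rw [coe_mul_mulVec, refl_fix hv₂ (hz _ (hX₁ hv₂X)), refl_fix hv₁ (hz _ hv₁X)]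
  apply orderOf_eq_prime
  · rw [← map_pow, _root_.sq]
    have h3 : (⟨_, hm⟩ : ↥(Cfsg.Omega F ⇑Q)) * ⟨_, hm⟩ = 1 := Subtype.ext (prod_sq hv₁ hv₂ (hp₁ _ hv₂X).1)
    rw [h3, map_one]
  · intro h
    have h4 := eq_one_of_pr hQ hn hs hz0 hzf h
    apply refl_move hv₁ h₁
    have h5 : ((((reflIso Q v₁ hv₁ * reflIso Q v₂ hv₂ : Cfsg.isometryGroup F ⇑Q)) : GL ι F) : Matrix ι ι F) *ᵥ w₁ = w₁ := by
      have h6 : reflIso Q v₁ hv₁ * reflIso Q v₂ hv₂ = 1 := congrArg Subtype.val h4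
      rw [h6]
      change (1 : Matrix ι ι F) *ᵥ w₁ = w₁
      rw [Matrix.one_mulVec]
    rw [coe_mul_mulVec, refl_fix hv₂ (by rw [polar_comm]; exact (hp₁ _ hv₂X).2)] at h5
    exact h5

seal _root_.Finset.sum _root_.dotProduct in
/-- a four-group commuting with `y` -/
theorem four_dvd_cent {p : ℕ} (hpF : (p : F) ≠ 0) {y : ↥(Cfsg.Omega F ⇑Q)} (hy : y ^ p = 1) (hy1 : y ≠ 1)
    (hd : 6 ≤ finrank F (fixS (toLE (oGL Q y)))) :
    4 ∣ Nat.card (Subgroup.centralizer ({pr Q y} : Set (Cfsg.POmega F ⇑Q))) := by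
  have hob_ := exists_perp hy1
  obtain ⟨z, hz0, hz⟩ := hob_
  have hob_ := split (by omega) (nd_fixS hQ hn hpF hy)
  obtain ⟨v₁, hv₁X, w₁, hw₁X, hv₁, h₁, hq₁, X₁, hX₁, hnd₁, hf₁, hp₁⟩ := hob_
  have hob_ := split (X := X₁) (by omega) hnd₁
  obtain ⟨v₂, hv₂X, w₂, hw₂X, hv₂, h₂, hq₂, X₂, hX₂, hnd₂, hf₂, hp₂⟩ := hob_
  have hob_ := split (X := X₂) (by omega) hnd₂
  obtain ⟨v₃, hv₃X, w₃, hw₃X, hv₃, h₃, hq₃, X₃, hX₃, hnd₃, hf₃, hp₃⟩ := hob_
  have hm := refl_mul_mem hQ hn hv₁ hv₂ (fun h => ⟨hq₁ h, hq₂ h⟩)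
  have hm' := refl_mul_mem hQ hn hv₁ hv₃ (fun h => ⟨hq₁ h, hq₃ h⟩)
  have hc := prod_comm hQ hn hv₁ hv₂ hv₁X (hX₁ hv₂X) hm
  have hc' := prod_comm hQ hn hv₁ hv₃ hv₁X (hX₁ (hX₂ hv₃X)) hm'
  have hob_ : ∃ a : ↥(Cfsg.Omega F ⇑Q), a = ⟨_, hm⟩ := ⟨_, rfl⟩
  obtain ⟨a, ha⟩ := hob_
  have hob_ : ∃ b : ↥(Cfsg.Omega F ⇑Q), b = ⟨_, hm'⟩ := ⟨_, rfl⟩
  obtain ⟨b, hb⟩ := hob_
  have hav : ∀ x : ι → F, (oGL Q a : Matrix ι ι F) *ᵥ x = ((reflIso Q v₁ hv₁ : GL ι F) : Matrix ι ι F) *ᵥ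
      (((reflIso Q v₂ hv₂ : GL ι F) : Matrix ι ι F) *ᵥ x) := by
    intro x
    rw [← coe_mul_mulVec, ha]; rfl
  have hbv : ∀ x : ι → F, (oGL Q b : Matrix ι ι F) *ᵥ x = ((reflIso Q v₁ hv₁ : GL ι F) : Matrix ι ι F) *ᵥ
      (((reflIso Q v₃ hv₃ : GL ι F) : Matrix ι ι F) *ᵥ x) := by
    intro x
    rw [← coe_mul_mulVec, hb]; rfl
  have haz : (oGL Q a : Matrix ι ι F) *ᵥ z = z := by
    rw [hav, refl_fix hv₂ (hz _ (hX₁ hv₂X)), refl_fix hv₁ (hz _ hv₁X)]
  have hbz : (oGL Q b : Matrix ι ι F) *ᵥ z = z := by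
    rw [hbv, refl_fix hv₃ (hz _ (hX₁ (hX₂ hv₃X))), refl_fix hv₁ (hz _ hv₁X)]
  have haa : a * a = 1 := by rw [ha]; exact Subtype.ext (prod_sq hv₁ hv₂ (hp₁ _ hv₂X).1)
  have hbb : b * b = 1 := by rw [hb]; exact Subtype.ext (prod_sq hv₁ hv₃ (hp₁ _ (hX₂ hv₃X)).1)
  have hab : a * b = b * a := by
    rw [ha, hb]
    apply Subtype.ext
    change reflIso Q v₁ hv₁ * reflIso Q v₂ hv₂ * (reflIso Q v₁ hv₁ * reflIso Q v₃ hv₃) =
      reflIso Q v₁ hv₁ * reflIso Q v₃ hv₃ * (reflIso Q v₁ hv₁ * reflIso Q v₂ hv₂)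
    have e12 := refl_commute hv₁ hv₂ (hp₁ _ hv₂X).1
    have e13 := refl_commute hv₁ hv₃ (hp₁ _ (hX₂ hv₃X)).1
    have e23 := refl_commute hv₂ hv₃ (hp₂ _ hv₃X).1
    rw [mul_assoc, ← mul_assoc (reflIso Q v₂ hv₂), ← e12, mul_assoc (reflIso Q v₁ hv₁) (reflIso Q v₂ hv₂), e23,
      mul_assoc (reflIso Q v₁ hv₁) (reflIso Q v₃ hv₃), ← mul_assoc (reflIso Q v₃ hv₃), ← e13,
      mul_assoc (reflIso Q v₁ hv₁) (reflIso Q v₃ hv₃)]
  have o1 : ∀ x : ι → F, (oGL Q (1 : ↥(Cfsg.Omega F ⇑Q)) : Matrix ι ι F) *ᵥ x = x := by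
    intro x
    rw [map_one, Units.val_one, Matrix.one_mulVec]
  have ha1 : a ≠ 1 := by
    intro h
    apply refl_move hv₁ h₁
    have h5 := hav w₁
    rw [refl_fix hv₂ (by rw [polar_comm]; exact (hp₁ _ hv₂X).2), h, o1] at h5
    exact h5.symm
  have hb1 : b ≠ 1 := by
    intro h
    apply refl_move hv₁ h₁
    have h5 := hbv w₁
    rw [refl_fix hv₃ (by rw [polar_comm]; exact (hp₁ _ (hX₂ hv₃X)).2), h, o1] at h5
    exact h5.symm
  have hne : a ≠ b := by
    intro h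
    apply refl_move hv₂ h₂
    have h5 := hav w₂
    rw [h, hbv w₂, refl_fix hv₃ (by rw [polar_comm]; exact (hp₂ _ hv₃X).2)] at h5
    have h6 : (((reflIso Q v₁ hv₁ : GL ι F)⁻¹ : GL ι F) : Matrix ι ι F) *ᵥ
        (((reflIso Q v₁ hv₁ : GL ι F) : Matrix ι ι F) *ᵥ w₂) =
        (((reflIso Q v₁ hv₁ : GL ι F)⁻¹ : GL ι F) : Matrix ι ι F) *ᵥ
        (((reflIso Q v₁ hv₁ : GL ι F) : Matrix ι ι F) *ᵥ (((reflIso Q v₂ hv₂ : GL ι F) : Matrix ι ι F) *ᵥ w₂)) := by
      rw [h5]
    rw [Matrix.mulVec_mulVec, Matrix.mulVec_mulVec, Units.inv_mul, Matrix.one_mulVec, Matrix.one_mulVec] at h6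
    exact h6.symm
  have hcent : ∀ c : ↥(Cfsg.Omega F ⇑Q), c * y = y * c →
      pr Q c ∈ Subgroup.centralizer ({pr Q y} : Set (Cfsg.POmega F ⇑Q)) := by
    intro c hc
    simp only [Subgroup.mem_centralizer_singleton_iff, ← map_mul (pr Q) c y, hc, map_mul (pr Q) y c]
  have hca : a * y = y * a := by rw [ha]; exact hc
  have hcb : b * y = y * b := by rw [hb]; exact hc'
  have hfin : Finite (Cfsg.POmega F ⇑Q) := Quotient.finite _
  refine four_dvd_of_klein (a := ⟨pr Q a, hcent a hca⟩) (b := ⟨pr Q b, hcent b hcb⟩) ?_ ?_ ?_ ?_ ?_ ?_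
  · exact Subtype.ext (by change pr Q a * pr Q a = 1; rw [← map_mul, haa, map_one])
  · exact Subtype.ext (by change pr Q b * pr Q b = 1; rw [← map_mul, hbb, map_one])
  · exact Subtype.ext (by change pr Q a * pr Q b = pr Q b * pr Q a; simp only [← map_mul (pr Q) a b, hab, map_mul (pr Q) b a])
  · intro h
    exact ha1 (eq_one_of_pr hQ hn hs hz0 haz (congrArg Subtype.val h))
  · intro h
    exact hb1 (eq_one_of_pr hQ hn hs hz0 hbz (congrArg Subtype.val h))
  · intro h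
    exact hne (pr_inj hQ hn hs hz0 haz hbz (congrArg Subtype.val h))

end

end Cfsg.Agent.H682.Fx
end

-- part: H682/Fx/OrthNe
section
/-!
# The primes `r ≠ char F` for `PΩ(Q)` in even dimension at least 8 (helper682)
-/

set_option autoImplicit false
set_option linter.unusedSectionVars false
set_option linter.style.haveILetI false

open Matrix

namespace Cfsg.Agent.H682.Fx

open QuadraticMap Module Cfsg.Agent.ClassicalGeometry.Reflection Cfsg.Agent.H193 Cfsg.Agent.H193.Types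
  Cfsg.Agent.H193.RealForm
  Cfsg.Agent.H175.OmegaAdjust Cfsg.Agent.H104 Cfsg.Agent.H104.AtomIsom Cfsg.Agent.H104.AtomQuad
  Cfsg.Agent.H104.OmegaTools Cfsg.Agent.H104.IrrOmega Cfsg.Agent.LieClassical Cfsg.Agent.H254.Fx

variable {F : Type} [Field F] [Fintype F] {ι : Type} [Fintype ι] [DecidableEq ι] {Q : QuadraticForm F (ι → F)}
  (hQ : (polarBilin Q).Nondegenerate)

include hQ

/-- **atoms**: an element of order `p` of `Ω` moving only a block of dimension `|⟨q, -1⟩|`, conjugate in `O` to its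
powers with exponents in `⟨q, -1⟩`. -/
theorem exists_atom {p : ℕ} [hp : Fact p.Prime] (hn : 5 ≤ Fintype.card ι) (hp2 : p ≠ 2) (hpF : (p : F) ≠ 0)
    {w : (ZMod p)ˣ} (hw : (w : ZMod p) = (Fintype.card F : ZMod p)) (hd : p ∣ Nat.card (Cfsg.POmega F ⇑Q)) :
    ∃ y : ↥(Cfsg.Omega F ⇑Q), y ^ p = 1 ∧ y ≠ 1 ∧
      finrank F (fixS (toLE (oGL Q y))) + orderOf (gen w) ≥ Fintype.card ι ∧ orderOf (gen w) ≤ Fintype.card ι ∧
      ∃ (K : Cfsg.isometryGroup F ⇑Q) (u : ℕ), (u : ZMod p) = ((gen w : (ZMod p)ˣ) : ZMod p) ∧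
        K * (y : Cfsg.isometryGroup F ⇑Q) * K⁻¹ = (y : Cfsg.isometryGroup F ⇑Q) ^ u := by
  have hob_ := ClassCount.exists_root (F := F) hp.out hpF
  obtain ⟨ζ, hζ⟩ := hob_
  have hd' : p ∣ Nat.card (Cfsg.Omega F ⇑Q) :=
    hd.trans (Subgroup.card_quotient_dvd_card (Subgroup.center (Cfsg.Omega F ⇑Q)))
  have hob_ := exists_prime_orderOf_dvd_card' p hd'
  obtain ⟨x, hx⟩ := hob_
  have hxp : x ^ p = 1 := by rw [← hx]; exact pow_orderOf_eq_one x
  have hx1 : x ≠ 1 := by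
    rintro rfl
    rw [orderOf_one] at hx
    exact hp.out.one_lt.ne hx
  have hxG : (oGL Q x) ^ p = 1 := by rw [← map_pow, hxp, map_one]
  have hob_ := IrrSL.exists_ty_ne hζ (A := (oGL Q x : Matrix ι ι F))
    (by rw [← Units.val_pow_eq_pow_val, hxG, Units.val_one]) (fun h => hx1 (oGL_injective Q (Units.ext (by
      rw [h, map_one, Units.val_one]))))
  obtain ⟨c, hc, hxc⟩ := hob_
  have hob_ := o_data hζ w hw hp2 hQ hxG (oGL_Q x) hc hxc
  obtain ⟨C, P, R, i1, i2, e, xR, QR, hCty, D⟩ := hob_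
  have hob_ := data_peel hζ w hp2 hQ hn D hc hCty
  obtain ⟨y, hy, hpeel⟩ := hob_
  have hob_ : ∃ u : ℕ, (u : ZMod p) = ((gen w : (ZMod p)ˣ) : ZMod p) := ⟨_, ZMod.natCast_zmod_val _⟩
  obtain ⟨u, hu⟩ := hob_
  have hob_ := conj_exp hζ w hp2 D.nd D.pow D.pres D.inv (Subgroup.mem_zpowers (gen w)) hu
  obtain ⟨k₁, hk₁P, hk₁⟩ := hob_
  let K : ↥(Cfsg.isometryGroup F ⇑P) := ⟨k₁, OrthConj.mem_isometryGroup.2 hk₁P⟩
  have hC1 : C ≠ 1 := by
    intro h
    have h2 := data_fix hζ w D (fun _ => 1) (by rw [h, Units.val_one, Matrix.one_mulVec])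
    exact one_ne_zero (congrFun h2 ⟨0, orderOf_pos _⟩)
  haveI := AtomPeel.finite_R e
  have hdim : Fintype.card ι = orderOf (gen w) + finrank F R := by
    have h1 := LinearEquiv.finrank_eq e
    rw [Module.finrank_prod, Module.finrank_fintype_fun_eq_card, Module.finrank_fintype_fun_eq_card,
      Fintype.card_fin] at h1
    exact h1
  refine ⟨y, ?_, ?_, ?_, by omega, lam D.form K, u, hu, ?_⟩
  · apply oGL_injective Q
    rw [map_pow, hy, ← map_pow, D.pow, map_one, map_one]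
  · rintro rfl
    apply hC1
    apply GL_ext
    intro v
    have h1 := AtomPeel.e_lift e C (e.symm (v, 0))
    rw [← hy, map_one, Units.val_one, Matrix.one_mulVec, LinearEquiv.apply_symm_apply] at h1
    rw [Units.val_one, Matrix.one_mulVec]
    exact (congrArg Prod.fst h1).symm
  · let f : R →ₗ[F] (ι → F) := e.symm.toLinearMap ∘ₗ LinearMap.inr F (Fin (orderOf (gen w)) → F) R
    have hf : ∀ r : R, f r ∈ fixS (toLE (oGL Q y)) := by
      intro r
      rw [mem_fixS, toLE_apply, hy, AtomPeel.lift_mulVec]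
      change e.symm ((C : Matrix _ _ F) *ᵥ (e (e.symm ((0 : Fin (orderOf (gen w)) → F), r))).1,
        (e (e.symm ((0 : Fin (orderOf (gen w)) → F), r))).2) = e.symm (0, r)
      rw [LinearEquiv.apply_symm_apply, Matrix.mulVec_zero]
    have hinj : Function.Injective (LinearMap.codRestrict _ f hf) := by
      intro a b hab
      have h1 : f a = f b := congrArg Subtype.val hab
      have h2 := e.symm.injective h1
      exact congrArg Prod.snd h2
    have h1 := LinearMap.finrank_le_finrank_of_injective hinj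
    omega
  · apply Subtype.ext
    change (lam D.form K : GL ι F) * oGL Q y * (lam D.form K : GL ι F)⁻¹ = (oGL Q y) ^ u
    rw [lam_coe, hy, ← map_pow, ← map_inv, ← map_mul, ← map_mul]
    congr 1

theorem even_gen {p : ℕ} [hp : Fact p.Prime] (hp2 : p ≠ 2) (w : (ZMod p)ˣ) : Even (orderOf (gen w)) := by
  rw [orderOf_gen w hp2]
  split_ifs with h
  · exact even_two_mul _
  · exact Nat.not_odd_iff_even.1 h

theorem orderOf_cast {p : ℕ} [hp : Fact p.Prime] {w : (ZMod p)ˣ} {u : ℕ}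
    (hu : (u : ZMod p) = ((gen w : (ZMod p)ˣ) : ZMod p)) : orderOf (u : ZMod p) = orderOf (gen w) := by
  rw [hu, orderOf_units]

omit [Fintype F] in
theorem finite_pomega [Finite F] : Finite (Cfsg.POmega F ⇑Q) := Quotient.finite _

seal _root_.Finset.sum _root_.dotProduct in
/-- order of the image in `PΩ` -/
theorem orderOf_pr {p : ℕ} [hp : Fact p.Prime] (hn : 5 ≤ Fintype.card ι) (hs : ∃ u : ι → F, u ≠ 0 ∧ Q u = 0)
    (hp2 : p ≠ 2) {y : ↥(Cfsg.Omega F ⇑Q)} (hy : y ^ p = 1) (hy1 : y ≠ 1) : orderOf (pr Q y) = p := by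
  apply orderOf_eq_prime
  · rw [← map_pow, hy, map_one]
  · intro h
    exact hy1 (OrthEmb.center_free hQ (by omega) hs hp.out hp2 y hy h)

/-- moving to `Ω` by an element of the centralizer -/
theorem conj_pr {p : ℕ} (hn : 5 ≤ Fintype.card ι) (hpF : (p : F) ≠ 0) {y : ↥(Cfsg.Omega F ⇑Q)} (hy : y ^ p = 1)
    (hd : 2 ≤ finrank F (fixS (toLE (oGL Q y)))) {K : Cfsg.isometryGroup F ⇑Q} {u : ℕ}
    (hK : K * (y : Cfsg.isometryGroup F ⇑Q) * K⁻¹ = (y : Cfsg.isometryGroup F ⇑Q) ^ u) :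
    ∃ k : Cfsg.POmega F ⇑Q, k * pr Q y * k⁻¹ = pr Q y ^ u := by
  have hyI : (y : Cfsg.isometryGroup F ⇑Q) ^ p = 1 := by rw [← SubgroupClass.coe_pow, hy]; rfl
  have hob_ := adjust_cent hQ hn hpF hyI hd K
  obtain ⟨s, hs, hgs⟩ := hob_
  refine ⟨pr Q ⟨K * s, hgs⟩, ?_⟩
  simp only [← map_inv, ← map_mul, ← map_mul, ← map_pow]
  congr 1
  apply Subtype.ext
  change K * s * (y : Cfsg.isometryGroup F ⇑Q) * (K * s)⁻¹ = (y : Cfsg.isometryGroup F ⇑Q) ^ u
  rw [← hK, mul_assoc K s, hs]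
  group

/-- squares are in `Ω` -/
theorem conj_pr_sq (hn : 5 ≤ Fintype.card ι) {y : ↥(Cfsg.Omega F ⇑Q)} {K : Cfsg.isometryGroup F ⇑Q} {u : ℕ}
    (hK : K * (y : Cfsg.isometryGroup F ⇑Q) * K⁻¹ = (y : Cfsg.isometryGroup F ⇑Q) ^ u) :
    ∃ k : Cfsg.POmega F ⇑Q, k * pr Q y * k⁻¹ = pr Q y ^ (u * u) := by
  refine ⟨pr Q ⟨K * K, sq_mem hQ hn K⟩, ?_⟩
  simp only [← map_inv, ← map_mul, ← map_mul, ← map_pow]
  congr 1
  apply Subtype.ext
  change K * K * (y : Cfsg.isometryGroup F ⇑Q) * (K * K)⁻¹ = (y : Cfsg.isometryGroup F ⇑Q) ^ (u * u)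
  calc K * K * (y : Cfsg.isometryGroup F ⇑Q) * (K * K)⁻¹ = K * (K * (y : Cfsg.isometryGroup F ⇑Q) * K⁻¹) * K⁻¹ := by group
    _ = (K * (y : Cfsg.isometryGroup F ⇑Q) * K⁻¹) ^ u := by rw [hK, ← conj_pow, hK]
    _ = _ := by rw [hK, ← pow_mul]

/-- **the primes `p ≥ 5`, `p ∤ q`** -/
theorem killAll_ne {p : ℕ} (hp : p.Prime) (h5 : 5 ≤ p) (hpF : (p : F) ≠ 0) (hn : 8 ≤ Fintype.card ι)
    (he : Even (Fintype.card ι)) (hs : ∃ u : ι → F, u ≠ 0 ∧ Q u = 0) (hd : p ∣ Nat.card (Cfsg.POmega F ⇑Q))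
    (h8 : Fintype.card ι = 8 → ∀ w : (ZMod p)ˣ, (w : ZMod p) = (Fintype.card F : ZMod p) → orderOf w ≠ 8) :
    KillAll p (Cfsg.POmega F ⇑Q) := by
  haveI : Fact p.Prime := ⟨hp⟩
  have hp2 : p ≠ 2 := by omega
  haveI := finite_pomega hQ
  obtain ⟨w, hw⟩ := ClassCount.exists_unit (RankBound.card_ne_zero (p := p) (F := F) hpF)
  obtain ⟨y, hy, hy1, hfix, hle, K, u, hu, hK⟩ := exists_atom hQ (by omega) hp2 hpF hw hd
  have ho := orderOf_pr hQ (by omega) hs hp2 hy hy1
  have hou := orderOf_cast hQ hu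
  obtain ⟨a, ha⟩ := even_gen hQ hp2 w
  obtain ⟨b, hb⟩ := he
  have hW2 := gen_ne_one w hp2
  by_cases hlt : orderOf (gen w) + 2 ≤ Fintype.card ι
  · obtain ⟨k, hk⟩ := conj_pr hQ (by omega) hpF hy (by omega) hK
    by_cases hW5 : 5 ≤ orderOf (gen w)
    · exact killAll_of_order ho hk (by rw [hou]; exact hW5)
    · have hW : orderOf (gen w) = 2 ∨ orderOf (gen w) = 4 := by (clear * - ha hW2 hW5; omega)
      refine killAll_of_bad ho ?_
      rcases hW with hW | hW
      · exact bad_of_two hp ho hk (by rw [hou, hW]) (four_dvd_cent hQ (by omega) hs hpF hy hy1 (by omega))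
      · have hob_ := exists_invol hQ (by omega) hs hpF hy hy1 (by omega)
        obtain ⟨t, ht, ht2⟩ := hob_
        exact bad_of_four hp ho hk (by rw [hou, hW]) ht2 (by simp only [← map_mul (pr Q) t y, ht, map_mul (pr Q) y t])
  · have hW : orderOf (gen w) = Fintype.card ι := by (clear * - hle ha hb hlt; omega)
    obtain ⟨k, hk⟩ := conj_pr_sq hQ (by omega) hK
    refine killAll_of_order ho hk ?_
    have h1 : ((u * u : ℕ) : ZMod p) = (u : ZMod p) ^ 2 := by push_cast; ring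
    rw [h1, orderOf_pow' _ (by norm_num), hou]
    have h2 : Nat.gcd (orderOf (gen w)) 2 = 2 := by
      rw [ha]
      exact Nat.gcd_eq_right ⟨a, by ring⟩
    rw [h2]
    have h10 : 10 ≤ Fintype.card ι := by
      by_contra hlt10
      have h3 : Fintype.card ι = 8 := by omega
      refine h8 h3 w hw ?_
      have h4 := orderOf_gen w hp2
      rw [hW, h3] at h4
      split_ifs at h4 with h6
      · obtain ⟨c, hc⟩ := h6
        omega
      · exact h4.symm
    (clear * - ha hlt h10; omega)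

/-- **the prime 3, `3 ∤ q`** -/
theorem exists_bad_three (h3F : ((3 : ℕ) : F) ≠ 0) (hn : 8 ≤ Fintype.card ι)
    (hs : ∃ u : ι → F, u ≠ 0 ∧ Q u = 0) (hd : 3 ∣ Nat.card (Cfsg.POmega F ⇑Q)) :
    ∃ x : Cfsg.POmega F ⇑Q, orderOf x = 3 ∧ Bad x := by
  haveI : Fact (Nat.Prime 3) := ⟨Nat.prime_three⟩
  have hp2 : (3 : ℕ) ≠ 2 := by norm_num
  haveI := finite_pomega hQ
  obtain ⟨w, hw⟩ := ClassCount.exists_unit (RankBound.card_ne_zero (p := 3) (F := F) h3F)
  obtain ⟨y, hy, hy1, hfix, hle, K, u, hu, hK⟩ := exists_atom hQ (by omega) hp2 h3F hw hd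
  have ho := orderOf_pr hQ (by omega) hs hp2 hy hy1
  have hou := orderOf_cast hQ hu
  have hW2 := gen_ne_one w hp2
  have hW : orderOf (gen w) = 2 := by
    have h1 := orderOf_dvd_card (x := gen w)
    rw [ZMod.card_units] at h1
    have := Nat.le_of_dvd (by norm_num) h1
    omega
  obtain ⟨k, hk⟩ := conj_pr hQ (by omega) h3F hy (by omega) hK
  exact ⟨_, ho, bad_of_two Nat.prime_three ho hk (by rw [hou, hW])
    (four_dvd_cent hQ (by omega) hs h3F hy hy1 (by omega))⟩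

end Cfsg.Agent.H682.Fx
end

-- part: H682/Fx/OrthChar
section
/-!
# The characteristic `r = char F` odd for `PΩ(Q)` containing `SL₄(q)` (helper682)
-/

set_option autoImplicit false
set_option linter.unusedSectionVars false
set_option linter.style.haveILetI false

open Matrix

namespace Cfsg.Agent.H682.Fx

open QuadraticMap Module Cfsg.Agent.H104 Cfsg.Agent.H104.GoodFam Cfsg.Agent.LieClassical Cfsg.Agent.H254.Fx

theorem eight_dvd_sl {F : Type} [Field F] [Fintype F] (ho : Odd (Fintype.card F)) :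
    8 ∣ Nat.card (_root_.Matrix.SpecialLinearGroup (Fin 2) F) := by
  rw [Cfsg.Agent.ClassicalGeometry.PSL2Basic.card_SL2]
  apply Dvd.dvd.mul_left
  obtain ⟨k, hk⟩ := ho
  rw [hk]
  obtain ⟨j, hj⟩ := Nat.even_mul_succ_self k
  refine ⟨j, ?_⟩
  apply Nat.sub_eq_of_eq_add
  have : (2 * k + 1) ^ 2 = 4 * (k * (k + 1)) + 1 := by ring
  rw [this, hj]
  ring

section

variable {F : Type} [Field F] [Fintype F] {ι : Type} [Fintype ι] [DecidableEq ι] {Q : QuadraticForm F (ι → F)}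
  (hQ : (polarBilin Q).Nondegenerate) (hn : 5 ≤ Fintype.card ι) (hs : ∃ u : ι → F, u ≠ 0 ∧ Q u = 0)

include hQ hn hs

theorem bad_char {p : ℕ} (hp : p.Prime) (hp2 : p ≠ 2) (hpF : (p : F) = 0)
    (f : _root_.Matrix.SpecialLinearGroup (Fin 4) F →* Cfsg.isometryGroup F ⇑Q) (hf : Function.Injective f) :
    ∃ x : Cfsg.POmega F ⇑Q, orderOf x = p ∧ Bad x := by
  haveI : Fact p.Prime := ⟨hp⟩
  haveI := finite_pomega hQ
  have hchar : CharP F p := by
    obtain ⟨c, hc⟩ := CharP.exists F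
    have h1 : c ∣ p := (CharP.cast_eq_zero_iff F c p).1 hpF
    rcases (Nat.dvd_prime hp).1 h1 with rfl | rfl
    · exact absurd rfl (CharP.char_ne_one F 1)
    · exact hc
  obtain ⟨n, -, hcard⟩ := FiniteField.card F p
  have hodd : Odd (Fintype.card F) := by
    rw [hcard]
    exact ((Nat.Prime.eq_two_or_odd' hp).resolve_left hp2).pow
  have hpd : p ∣ Nat.card (_root_.Matrix.SpecialLinearGroup (Fin 2) F) := by
    rw [Cfsg.Agent.ClassicalGeometry.PSL2Basic.card_SL2, hcard]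
    exact Dvd.dvd.mul_right (dvd_pow_self p n.ne_zero) _
  obtain ⟨A, hA⟩ := exists_prime_orderOf_dvd_card' p hpd
  have hAp : A ^ p = 1 := by rw [← hA]; exact pow_orderOf_eq_one A
  have hA1 : A ≠ 1 := by
    rintro rfl
    rw [orderOf_one] at hA
    exact hp.one_lt.ne hA
  let g : _root_.Matrix.SpecialLinearGroup (Fin 2 ⊕ Fin 2) F →* Cfsg.isometryGroup F ⇑Q := f.comp (relabel finSumFinEquiv)
  have hg : Function.Injective g := hf.comp (relabel_injective _)
  have hperf : commutator (_root_.Matrix.SpecialLinearGroup (Fin 2 ⊕ Fin 2) F) = ⊤ := SLGen.commutator_eq_top (by simp)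
  have hmem : ∀ x, g x ∈ Cfsg.Omega F (⇑Q) := by
    intro x
    have h1 : x ∈ commutator (_root_.Matrix.SpecialLinearGroup (Fin 2 ⊕ Fin 2) F) := by rw [hperf]; exact Subgroup.mem_top x
    have h2 : g x ∈ (commutator (_root_.Matrix.SpecialLinearGroup (Fin 2 ⊕ Fin 2) F)).map g := ⟨x, h1, rfl⟩
    have h3 : (commutator (_root_.Matrix.SpecialLinearGroup (Fin 2 ⊕ Fin 2) F)).map g ≤
        commutator (Cfsg.isometryGroup F (⇑Q)) := by
      rw [commutator_def, commutator_def, Subgroup.map_commutator]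
      exact Subgroup.commutator_mono le_top le_top
    exact h3 h2
  let g' : _root_.Matrix.SpecialLinearGroup (Fin 2 ⊕ Fin 2) F →* Cfsg.Omega F (⇑Q) := g.codRestrict _ hmem
  have hg' : Function.Injective g' := fun a b h => hg (congrArg Subtype.val h)
  have ho : orderOf (pr Q (g' (blk (Fin 2) (Fin 2) A))) = p := by
    refine orderOf_pr hQ hn hs hp2 (by rw [← map_pow, ← map_pow, hAp, map_one, map_one]) ?_
    intro h
    exact hA1 (blk_injective _ _ (hg' (by rw [h, map_one, map_one])))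
  refine ⟨_, ho, ?_⟩
  refine bad_of_hom_eight ((pr Q).comp g') (x := blk (Fin 2) (Fin 2) A)
    (Y := (blk₂ (F := F) (Fin 2) (Fin 2)).range) ?_ ?_ ?_
  · rintro _ ⟨B, rfl⟩
    exact (blk_comm _ _ A B).symm
  · rintro _ ⟨B, rfl⟩ h
    have h1 : pr Q (g' (blk₂ (Fin 2) (Fin 2) B)) = 1 := h
    rw [QuotientGroup.mk'_apply, QuotientGroup.eq_one_iff, Subgroup.mem_center_iff] at h1
    have h2 : swp F (Fin 2) * blk₂ (Fin 2) (Fin 2) B = blk₂ (Fin 2) (Fin 2) B * swp F (Fin 2) := by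
      apply hg'
      rw [map_mul, map_mul]
      exact h1 _
    have h3 := swp_conj₂ (F := F) (Fin 2) B
    rw [h2, mul_inv_cancel_right] at h3
    have h4 : fromBlocks (1 : Matrix (Fin 2) (Fin 2) F) 0 0 (B : Matrix (Fin 2) (Fin 2) F) =
        fromBlocks (B : Matrix (Fin 2) (Fin 2) F) 0 0 1 := congrArg Subtype.val h3
    have h5 : B = 1 := Subtype.ext (fromBlocks_inj.1 h4).1.symm
    rw [h5, map_one]
  · have hinj : Function.Injective (blk₂ (F := F) (Fin 2) (Fin 2)) := by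
      intro B B' h
      apply Subtype.ext
      have h1 : fromBlocks (1 : Matrix (Fin 2) (Fin 2) F) 0 0 (B : Matrix (Fin 2) (Fin 2) F) =
        fromBlocks (1 : Matrix (Fin 2) (Fin 2) F) 0 0 (B' : Matrix (Fin 2) (Fin 2) F) := congrArg Subtype.val h
      exact (fromBlocks_inj.1 h1).2.2.2
    rw [← Nat.card_congr (MonoidHom.ofInjective hinj).toEquiv]
    exact eight_dvd_sl hodd

/-- **The criterion for `PΩ(Q)`, `Q` nondegenerate of even dimension at least eight containing `SL₄(q)`.** -/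
theorem no34_orth (hn8 : 8 ≤ Fintype.card ι) (he : Even (Fintype.card ι))
    (f : _root_.Matrix.SpecialLinearGroup (Fin 4) F →* Cfsg.isometryGroup F ⇑Q) (hf : Function.Injective f)
    (h27 : 27 ∣ Nat.card (Cfsg.POmega F ⇑Q))
    (h8 : Fintype.card ι = 8 → ∀ r : ℕ, r.Prime → r ∣ Nat.card (Cfsg.POmega F ⇑Q) → ∀ w : (ZMod r)ˣ,
      (w : ZMod r) = (Fintype.card F : ZMod r) → orderOf w ≠ 8) :
    No34 (Cfsg.POmega F ⇑Q) := by
  haveI := finite_pomega hQ
  refine no34_of (fun h3 => ?_) (fun r hr h5 hd => Or.inl ?_)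
  · by_cases h3F : ((3 : ℕ) : F) = 0
    · obtain ⟨x, hx, hb⟩ := bad_char hQ hn hs Nat.prime_three (by norm_num) h3F f hf
      exact bad3_of_card hx hb (Or.inl h27)
    · obtain ⟨x, hx, hb⟩ := exists_bad_three hQ h3F hn8 hs h3
      exact bad3_of_card hx hb (Or.inl h27)
  · by_cases hrF : (r : F) = 0
    · obtain ⟨x, hx, hb⟩ := bad_char hQ hn hs hr (by omega) hrF f hf
      exact killAll_of_bad hx hb
    · exact killAll_ne hQ hr h5 hrF hn8 he hs hd (fun h => h8 h r hr hd)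

end

end Cfsg.Agent.H682.Fx
end

-- part: H682/Fx/OrthFam
section
/-!
# `PΩ⁺_{2m}(q)`, `m ≥ 4`, and `PΩ⁻_{2m}(q)`, `m ≥ 5` have no odd TI subgroups of the type of S3002 / S2993 (helper682)
-/

set_option autoImplicit false
set_option linter.style.haveILetI false

open Matrix

namespace Cfsg.Agent.H682.Fx

open Cfsg.Agent.H104 Cfsg.Agent.LieClassical Cfsg.Agent.H254.Fx

theorem twentyseven_dvd {q m : ℕ} (hm : 4 ≤ m) (h3 : ¬ 3 ∣ q) :
    27 ∣ ∏ i ∈ Finset.range (m - 1), (q ^ (2 * (i + 1)) - 1) := by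
  have h1 : Finset.range 3 ⊆ Finset.range (m - 1) := Finset.range_mono (by omega)
  refine dvd_trans ?_ (Finset.prod_dvd_prod_of_subset _ _ _ h1)
  have hq : q ^ 2 % 3 = 1 := by
    have h2 : q % 3 = 1 ∨ q % 3 = 2 := by omega
    rcases h2 with h2 | h2 <;> rw [Nat.pow_mod, h2]
  have key : ∀ k : ℕ, 3 ∣ q ^ (2 * k) - 1 := by
    intro k
    have h4 : q ^ (2 * k) % 3 = 1 := by
      rw [pow_mul, Nat.pow_mod, hq, one_pow, Nat.one_mod]
    have h5 : 0 < q ^ (2 * k) := by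
      rcases Nat.eq_zero_or_pos (q ^ (2 * k)) with h | h
      · rw [h] at h4; omega
      · exact h
    omega
  rw [Finset.prod_range_succ, Finset.prod_range_succ, Finset.prod_range_succ, Finset.prod_range_zero, one_mul]
  have h27 : 27 = 3 * 3 * 3 := by norm_num
  rw [h27]
  exact mul_dvd_mul (mul_dvd_mul (key 1) (key 2)) (key 3)

theorem twentyseven_of {q m g N x : ℕ} (hm : 4 ≤ m) (hg : g ∣ 4)
    (h : g * N = q ^ (m * (m - 1)) * x * ∏ i ∈ Finset.range (m - 1), (q ^ (2 * (i + 1)) - 1)) : 27 ∣ N := by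
  have h1 : 27 ∣ g * N := by
    rw [h]
    by_cases h3 : 3 ∣ q
    · apply Dvd.dvd.mul_right
      apply Dvd.dvd.mul_right
      have h4 : 27 = 3 ^ 3 := by norm_num
      rw [h4]
      have h5 : 3 ≤ m * (m - 1) := by
        have : 1 ≤ m - 1 := by omega
        nlinarith only [hm, this]
      exact (pow_dvd_pow_of_dvd h3 3).trans (pow_dvd_pow q h5)
    · exact Dvd.dvd.mul_left (twentyseven_dvd hm h3) _
  have h2 : Nat.Coprime 27 g := Nat.Coprime.coprime_dvd_right hg (by norm_num)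
  exact h2.dvd_of_dvd_mul_left h1

variable (F : Type) [Field F] [Fintype F]

/-- **`PΩ⁺_{2m}(q)`, `m ≥ 4`** -/
theorem no34_pomega_plus {m : ℕ} (hm : 4 ≤ m) : No34 (Cfsg.POmega F (Cfsg.quadFormPlus m F)) := by
  have hc := S0293.result (F := F) rfl m hm
  have h27 : 27 ∣ Nat.card (Cfsg.POmega F (Cfsg.quadFormPlus m F)) :=
    twentyseven_of hm (Nat.gcd_dvd_left _ _) hc
  obtain ⟨f₁, hf₁⟩ := OrthEmb.exists_emb_sl (F := F) 4
  obtain ⟨f₂, hf₂⟩ := OrthEmb.exists_emb_plus (F := F) hm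
  have h8 : m = 4 → ∀ r : ℕ, r.Prime → r ∣ Nat.card (Cfsg.POmega F (Cfsg.quadFormPlus m F)) → ∀ w : (ZMod r)ˣ,
      (w : ZMod r) = (Fintype.card F : ZMod r) → orderOf w ≠ 8 := by
    rintro rfl r hr hrd w hw ho
    haveI : Fact r.Prime := ⟨hr⟩
    have h1 : r ∣ Fintype.card F ^ (4 * (4 - 1)) * (Fintype.card F ^ 4 - 1) *
        ∏ i ∈ Finset.range (4 - 1), (Fintype.card F ^ (2 * (i + 1)) - 1) := by
      rw [← hc]
      exact Dvd.dvd.mul_left hrd _
    have hq : 1 ≤ Fintype.card F := Fintype.card_pos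
    have hw0 : ((Fintype.card F : ℕ) : ZMod r) ≠ 0 := by rw [← hw]; exact w.ne_zero
    have key : ∀ k : ℕ, 0 < k → k < 8 → ¬ r ∣ Fintype.card F ^ k - 1 := by
      intro k hk hk8 h
      have h2 : ((Fintype.card F ^ k - 1 : ℕ) : ZMod r) = 0 := (ZMod.natCast_eq_zero_iff _ _).2 h
      rw [Nat.cast_sub (Nat.one_le_pow _ _ hq), Nat.cast_pow, ← hw, Nat.cast_one, sub_eq_zero] at h2
      have h3 : w ^ k = 1 := Units.ext (by rw [Units.val_pow_eq_pow_val, h2, Units.val_one])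
      have h4 := Nat.le_of_dvd hk (orderOf_dvd_of_pow_eq_one h3)
      omega
    rcases hr.dvd_mul.1 h1 with h2 | h2
    · rcases hr.dvd_mul.1 h2 with h3 | h3
      · exact hw0 ((ZMod.natCast_eq_zero_iff _ _).2 (hr.dvd_of_dvd_pow h3))
      · exact key 4 (by norm_num) (by norm_num) h3
    · obtain ⟨i, hi, h3⟩ := (hr.prime.dvd_finsetProd_iff _).1 h2
      rw [Finset.mem_range] at hi
      exact key (2 * (i + 1)) (by omega) (by omega) h3
  have hcard : Fintype.card (Fin m ⊕ Fin m) = 2 * m := by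
    rw [Fintype.card_sum, Fintype.card_fin]; ring
  obtain ⟨f, hf⟩ : ∃ f : _root_.Matrix.SpecialLinearGroup (Fin 4) F →* Cfsg.isometryGroup F ⇑(OmegaReindex.quadPlus m F),
      Function.Injective f := by
    rw [OmegaReindex.coe_quadPlus]
    exact ⟨f₂.comp f₁, hf₂.comp hf₁⟩
  rw [← OmegaReindex.coe_quadPlus] at h27 h8 ⊢
  exact no34_orth OmegaReindex.quadPlus_nondegenerate (by omega) (OmegaReindex.quadPlus_isotropic (by omega))
    (by omega) (by rw [hcard]; exact even_two_mul m) f hf h27 (fun h => h8 (by omega))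

/-- **`PΩ⁻_{2m}(q)`, `m ≥ 5`** -/
theorem no34_pomega_minus {m : ℕ} (hm : 5 ≤ m) (a b : F)
    (hab : ∀ z₁ z₂ : F, z₁ ^ 2 + a * z₁ * z₂ + b * z₂ ^ 2 = 0 → z₁ = 0 ∧ z₂ = 0) :
    No34 (Cfsg.POmega F (Cfsg.quadFormMinus (m - 1) F a b)) := by
  have hc := S0294.result (F := F) rfl m (by omega) a b hab
  have h27 : 27 ∣ Nat.card (Cfsg.POmega F (Cfsg.quadFormMinus (m - 1) F a b)) :=
    twentyseven_of (by omega) (Nat.gcd_dvd_left _ _) hc
  have hob_ := OrthEmb.exists_emb_sl (F := F) 4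
  obtain ⟨f₁, hf₁⟩ := hob_
  have hob_ := OrthEmb.exists_emb_plus (F := F) (w := 4) (m := m - 1) (by omega)
  obtain ⟨f₂, hf₂⟩ := hob_
  have hob_ := OrthEmb.exists_emb_minus (F := F) (m - 1) a b
  obtain ⟨f₃, hf₃⟩ := hob_
  have hcard : Fintype.card ((Fin (m - 1) ⊕ Fin (m - 1)) ⊕ Fin 2) = 2 * m := by
    rw [Fintype.card_sum, Fintype.card_sum, Fintype.card_fin, Fintype.card_fin]; omega
  have hob_ : ∃ f : _root_.Matrix.SpecialLinearGroup (Fin 4) F →* Cfsg.isometryGroup F ⇑(OmegaReindex.quadMinus (m - 1) F a b),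
      Function.Injective f := by
    rw [OmegaReindex.coe_quadMinus]
    exact ⟨f₃.comp (f₂.comp f₁), hf₃.comp (hf₂.comp hf₁)⟩
  obtain ⟨f, hf⟩ := hob_
  rw [← OmegaReindex.coe_quadMinus] at h27 ⊢
  exact no34_orth (OmegaReindex.quadMinus_nondegenerate hab) (by omega)
    (OmegaReindex.quadMinus_isotropic (by omega) a b) (by omega) (by rw [hcard]; exact even_two_mul m) f hf h27
    (fun h => by omega)

end Cfsg.Agent.H682.Fx
end

-- part: H86/Fx/G2
section
/-!
# Fixity 3 and 4: the groups `G₂(q)` (helper86)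

`no34_g2`: row for S3002, S2993.
-/

set_option autoImplicit false

namespace Cfsg.Agent.H86.FxG2

open Subgroup Matrix Cfsg.Lie Cfsg.Agent.H92.ExcSL2 Cfsg.Agent.H254.Fx
open Cfsg.Agent.BpExc.RowsUntw Cfsg.Agent.BpExc.FamInst Cfsg.Agent.BpExc.FamUntw Cfsg.Agent.H696
open Cfsg.Agent.ChevalleyStructure.SL2Hom (up)

universe u

/-! ### two commuting `SL₂`'s, one of them embedded -/

section Gen

open Cfsg.Agent.ChevalleyStructure.Elts

variable {D : ChevalleyDatum} {F : Type} [Field F] [Fintype F]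

/-- an element of one of two commuting `SL₂`'s is bad, if the other is embedded -/
theorem bad_ph (hD : InList D) (h3 : 3 ≤ Fintype.card F) {i s r : ℕ} (hi : i < D.rank)
    (hr : D.simple i < D.nroots) (hs : s < D.nroots) (hodd : Odd (D.cartan i s)) (hr' : r < D.nroots)
    (h : Orth4 D r (D.simple i) = true) (g : SL2 F) : Bad (ph hD hr' g) := by
  have hinj := ph_injective (F := F) hD hi hr hs hodd
  have hcard : Nat.card (ph (F := F) hD hr).range = Fintype.card F * (Fintype.card F ^ 2 - 1) := by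
    rw [← ClassicalGeometry.PSL2Basic.card_SL2]
    exact (Nat.card_congr (MonoidHom.ofInjective hinj).toEquiv).symm
  have hc : ∀ y ∈ (ph (F := F) hD hr).range, y * ph hD hr' g = ph hD hr' g * y := by
    rintro _ ⟨g', rfl⟩
    exact (ph_commute hD hr' hr h g g').symm
  haveI : Finite ↥(D.group F) := inferInstance
  rcases Nat.lt_or_ge (Fintype.card F) 4 with h4 | h4
  · refine bad_of_comm_eight hc ?_
    rw [hcard, show Fintype.card F = 3 by omega]
    norm_num
  · refine bad_of_comm_perfect hc ?_ ?_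
    · have h1 : commutator (SL2 F) = ⊤ := TwoFusion.SLTwoFacts.commutator_eq_top (by omega)
      have h2 := Subgroup.map_commutator (⊤ : Subgroup (SL2 F)) ⊤ (ph (F := F) hD hr)
      rw [← commutator_def, h1, ← MonoidHom.range_eq_map] at h2
      exact h2.symm
    · rw [hcard]
      rcases Nat.even_or_odd (Fintype.card F) with he | ho
      · exact dvd_mul_of_dvd_left he.two_dvd _
      · refine dvd_mul_of_dvd_right ?_ _
        obtain ⟨k, hk⟩ := ho
        refine ⟨2 * k * (k + 1), ?_⟩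
        rw [hk, show (2 * k + 1) ^ 2 = 2 * (2 * k * (k + 1)) + 1 by ring]
        rfl

end Gen

theorem pow_six_sub_one (q : ℕ) (hq : 2 ≤ q) :
    q ^ 6 - 1 = (q ^ 2 - 1) * ((q ^ 2 + q + 1) * (q ^ 2 - q + 1)) := by
  obtain ⟨k, rfl⟩ : ∃ k, q = k + 1 := ⟨q - 1, by omega⟩
  have e1 : (k + 1) ^ 2 - 1 = k ^ 2 + 2 * k := by
    rw [show (k + 1) ^ 2 = k ^ 2 + 2 * k + 1 by ring]; rfl
  have e2 : (k + 1) ^ 2 - (k + 1) = k ^ 2 + k := by
    rw [show (k + 1) ^ 2 = k ^ 2 + k + (k + 1) by ring]; simp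
  rw [e1, e2]
  have e3 : (k + 1) ^ 6 = (k ^ 2 + 2 * k) * (((k + 1) ^ 2 + (k + 1) + 1) * (k ^ 2 + k + 1)) + 1 := by ring
  rw [e3]; rfl

theorem dvd27 (q : ℕ) (hq : 2 ≤ q) : 27 ∣ q ^ 6 * (q ^ 2 - 1) * (q ^ 6 - 1) := by
  by_cases h : 3 ∣ q
  · obtain ⟨k, rfl⟩ := h
    exact dvd_mul_of_dvd_left (dvd_mul_of_dvd_left ⟨27 * k ^ 6, by ring⟩ _) _
  · have h1 : 3 ∣ q ^ 2 - 1 := by
      refine (Nat.modEq_iff_dvd' (Nat.one_le_pow _ _ (by omega))).1 ?_
      have : q % 3 = 1 ∨ q % 3 = 2 := by omega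
      rcases this with h2 | h2 <;> simp [Nat.ModEq, Nat.pow_mod, h2]
    have h2 : 9 ∣ q ^ 6 - 1 := by
      refine (Nat.modEq_iff_dvd' (Nat.one_le_pow _ _ (by omega))).1 ?_
      have : q % 9 = 1 ∨ q % 9 = 2 ∨ q % 9 = 4 ∨ q % 9 = 5 ∨ q % 9 = 7 ∨ q % 9 = 8 := by omega
      rcases this with h2 | h2 | h2 | h2 | h2 | h2 <;> simp [Nat.ModEq, Nat.pow_mod, h2]
    rw [mul_assoc]
    exact dvd_mul_of_dvd_right (mul_dvd_mul h1 h2) _

theorem inList_g2 : Cfsg.Agent.ChevalleyStructure.Elts.InList chevG2 := g2T.inList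

theorem bad_g2 (F : Type) [Field F] [Fintype F] (h3 : 3 ≤ Fintype.card F) (g : SL2 F) :
    Bad (ph inList_g2 (r := 11) (show 11 < chevG2.nroots by decide) g) :=
  bad_ph inList_g2 h3 (i := 0) (s := 1) (by decide) (by decide) (by decide) (by decide) (by decide) (by decide) g

/-- **the groups `G₂(q)`** -/
theorem no34_g2' (F : Type) [Field F] [Fintype F] (h : 3 ≤ Fintype.card F) :
    No34 ↥(Cfsg.Lie.chevG2.group F) := by
  haveI : Finite ↥(Cfsg.Lie.chevG2.group F) := inferInstance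
  have hcard := S1059.result (F := F) rfl
  obtain ⟨c, hc⟩ := CharP.exists F
  haveI hcp : Fact c.Prime := ⟨CharP.char_is_prime F c⟩
  refine no34_of (fun _ => ?_) (fun r hr h5 hd => Or.inl ?_)
  · refine bad3_of_card (x := ph inList_g2 (r := 11) (show 11 < chevG2.nroots by decide) (thr F)) ?_
      (bad_g2 F h _) (Or.inl ?_)
    · rw [orderOf_ph _ _ _ (by rw [orderOf_thr]; decide), orderOf_thr]
    · rw [hcard]; exact dvd27 _ (by omega)
  · set q := Fintype.card F with hq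
    have hodd : Odd r := hr.odd_of_ne_two (by omega)
    haveI : Fact r.Prime := ⟨hr⟩
    by_cases hrc : r = c
    · subst hrc
      refine killAll_of_bad (x := ph inList_g2 (r := 11) (show 11 < chevG2.nroots by decide) (up 1)) ?_
        (bad_g2 F h _)
      rw [orderOf_ph _ _ _ (by rw [orderOf_up r]; exact hodd), orderOf_up r]
    have hrq : ¬ r ∣ q := by
      intro h1
      obtain ⟨n, -, hn⟩ := FiniteField.card F c
      rw [← hq] at hn
      rw [hn] at h1
      exact hrc ((Nat.prime_dvd_prime_iff_eq hr hcp.out).1 (hr.dvd_of_dvd_pow h1))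
    by_cases hr1 : r ∣ q ^ 2 - 1
    · have h1 : r ∣ Nat.card (SL2 F) := by
        rw [ClassicalGeometry.PSL2Basic.card_SL2]
        exact dvd_mul_of_dvd_right hr1 _
      obtain ⟨g, hg⟩ := exists_prime_orderOf_dvd_card' r h1
      refine killAll_of_bad (x := ph inList_g2 (r := 11) (show 11 < chevG2.nroots by decide) g) ?_
        (bad_g2 F h _)
      rw [orderOf_ph _ _ _ (by rw [hg]; exact hodd), hg]
    rw [hcard, pow_six_sub_one _ (by omega)] at hd
    have hd2 : r ∣ (q ^ 2 + q + 1) ∨ r ∣ (q ^ 2 - q + 1) := by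
      rcases hr.dvd_mul.1 hd with h1 | h1
      · exfalso
        rcases hr.dvd_mul.1 h1 with h2 | h2
        · exact hrq (hr.dvd_of_dvd_pow h2)
        · exact hr1 h2
      · rcases hr.dvd_mul.1 h1 with h2 | h2
        · exact absurd h2 hr1
        · exact hr.dvd_mul.1 h2
    have hdc : r ∣ Nat.card ↥(chevG2.group F) := by
      rw [hcard, pow_six_sub_one _ (by omega)]; exact hd
    obtain ⟨z, hz⟩ := exists_prime_orderOf_dvd_card' r hdc
    have hz1 : z ^ r = 1 := by rw [← hz]; exact pow_orderOf_eq_one z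
    have hZ : center ↥(chevG2.group (AlgebraicClosure (ZMod c))) = ⊥ :=
      GmnUntw.center_eq_bot_of_simple (S1055.result (exists_ne_algClosed _))
    -- reduction modulo `r`
    have key : ∀ m : ℕ, m ≡ 1 [MOD r] ↔ (m : ZMod r) = 1 := by
      intro m
      rw [← ZMod.natCast_eq_natCast_iff, Nat.cast_one]
    have hne1 : (q : ZMod r) ^ 2 ≠ 1 := by
      intro h1
      apply hr1
      have h2 : q ^ 2 ≡ 1 [MOD r] := by rw [key]; push_cast; exact h1
      exact (Nat.modEq_iff_dvd' (Nat.one_le_pow _ _ (by omega))).1 h2.symm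
    have h20 : (2 : ZMod r) ≠ 0 := by
      intro h1
      have h2 : ((2 : ℕ) : ZMod r) = 0 := by exact_mod_cast h1
      rw [ZMod.natCast_eq_zero_iff] at h2
      have := Nat.le_of_dvd (by norm_num) h2
      omega
    have h11 : (-1 : ZMod r) ≠ 1 := by
      intro h1; apply h20; linear_combination -h1
    have hconj := GmnUntw.isConj_pow g2T inv_G2 one_ne_zero hZ hr hrc hz1
    rw [pow_one, ← hq] at hconj
    rcases hd2 with hd2 | hd2
    · -- `q² + q + 1 = 0`
      have hq2 : (q : ZMod r) ^ 2 + q + 1 = 0 := by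
        have : ((q ^ 2 + q + 1 : ℕ) : ZMod r) = 0 := (ZMod.natCast_eq_zero_iff _ _).2 hd2
        push_cast at this; exact this
      have hzq : (z ^ q) ^ r = 1 := by rw [← pow_mul, mul_comm, pow_mul, hz1, one_pow]
      have hinv := GmnUntw.isConj_inv g2T inv_G2 odd_one hZ (GmnNeg.negG2 g2T _) hr hrc hzq
      obtain ⟨u, hu⟩ := isConj_iff.1 (hconj.trans hinv)
      have e1 : (z ^ q)⁻¹ = z ^ (q * (r - 1)) := by
        rw [inv_eq_iff_mul_eq_one, ← pow_add, show q + q * (r - 1) = r * q by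
          obtain ⟨k, rfl⟩ : ∃ k, r = k + 1 := ⟨r - 1, by omega⟩
          rw [Nat.add_sub_cancel]; ring, pow_mul, hz1, one_pow]
      rw [e1] at hu
      have e2 : ((q * (r - 1) : ℕ) : ZMod r) = -q := by
        rw [Nat.cast_mul, Nat.cast_sub (by omega), ZMod.natCast_self]; ring
      refine killAll_of_conj hz hu ?_ ?_
      · rw [key, Nat.cast_pow, e2]
        intro h1
        apply h11
        linear_combination h1 + (q - 1 : ZMod r) * hq2
      · rw [key, Nat.cast_pow, e2]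
        intro h1
        apply hne1
        have h3 : (q : ZMod r) = 1 := by linear_combination h1 - (q ^ 2 - q : ZMod r) * hq2
        rw [h3, one_pow]
    · have hq2 : (q : ZMod r) ^ 2 - q + 1 = 0 := by
        have : ((q ^ 2 - q + 1 : ℕ) : ZMod r) = 0 := (ZMod.natCast_eq_zero_iff _ _).2 hd2
        rw [Nat.cast_add, Nat.cast_sub (Nat.le_self_pow two_ne_zero q)] at this
        push_cast at this; exact this
      obtain ⟨u, hu⟩ := isConj_iff.1 hconj
      refine killAll_of_conj hz hu ?_ ?_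
      · rw [key, Nat.cast_pow]
        intro h1
        apply h11
        linear_combination h1 - (q + 1 : ZMod r) * hq2
      · rw [key, Nat.cast_pow]
        intro h1
        apply hne1
        have h3 : (q : ZMod r) = -1 := by linear_combination -h1 + (q ^ 2 + q : ZMod r) * hq2
        rw [h3]; ring

end Cfsg.Agent.H86.FxG2

namespace Cfsg.Agent.H254.Fx

/-- **the groups `G₂(q)`** -/
theorem no34_g2 (F : Type) [Field F] [Fintype F] (h : 3 ≤ Fintype.card F) :
    No34 ↥(Cfsg.Lie.chevG2.group F) := Cfsg.Agent.H86.FxG2.no34_g2' F h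

end Cfsg.Agent.H254.Fx
end

-- part: H744/Fx/TwE6B
section
/-!
# `²E₆(q)` in the fixed points of the twisted Frobenius: the index divides `gcd(3, q + 1)` (helper744)

* `torus_index`;
* `exists_mul_mem` : `σ y = y`, `σ τ = τ`, `τ` not in `²E₆(q)` : some `y τ ^ i` is in `²E₆(q)`.
-/

set_option autoImplicit false
set_option linter.unusedSectionVars false
set_option linter.style.haveILetI false

namespace Cfsg.Agent.H744.Fx.TwE6

open CoxeterSystem Cfsg Cfsg.Lie Cfsg.Lie.ChevalleyDatum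
open Cfsg.Agent.ChevalleyStructure Cfsg.Agent.ChevalleyStructure.Elts Cfsg.Agent.ChevalleyStructure.CoxeterGeom
  Cfsg.Agent.ChevalleyStructure.CoxeterGeomTypes Cfsg.Agent.ChevalleyStructure.NPerm
open Cfsg.Agent.Tits.Roots Cfsg.Agent.Tits.Core Cfsg.Agent.Nodes Cfsg.Agent.Nodes.Reps Cfsg.Agent.Nodes.BNOf
  Cfsg.Agent.Nodes.RGDChev Cfsg.Agent.Nodes.Bruhat Cfsg.Agent.Nodes.SubComb Cfsg.Agent.Nodes.Coroot
open Cfsg.Agent.KFacts.RgdField Cfsg.Agent.KFacts.RgdChevCoord Cfsg.Agent.BpExc.TorCent Cfsg.Agent.BpExc.TorChev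
open Cfsg.Agent.GpExc.Field Cfsg.Agent.BpExc.Tow Cfsg.Agent.BpExc.TowChev Cfsg.Agent.BpExc.Fr
  Cfsg.Agent.BpExc.LangFr Cfsg.Agent.LangThm Cfsg.Agent.BpExc Cfsg.Agent.H129.TorusChar Cfsg.Agent.H129.TorusCent
  Cfsg.Agent.H129.TorusTw Cfsg.Agent.H129.TorusMain Cfsg.Agent.ChevStructure.FieldMap Cfsg.Agent.BpExc.EmbInst
  Cfsg.Agent.H129.TorusUntw
open Cfsg.Agent.ChevalleyStructure.TwE6Basic (sg rho)
open Cfsg.Agent.ChevalleyStructure.GraphSymm (symmE6)
open Cfsg.Agent.H493.TwE6Alg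

universe u

variable {k : Type u} [Field k] [IsAlgClosed k] {p e : ℕ} [Fact p.Prime] [CharP k p]
  {F : Type u} [Field F] [Fintype F] (f : F →+* k)

/-- The index in the fixed elements of the torus. -/
theorem torus_index {q : ℕ} (hqe : q = p ^ e) (hq : IsPrimePow q) (hF : Fintype.card F = q ^ 2) :
    ((embT (k := k) f q).range.subgroupOf (TF k p e)).index ∣ Nat.gcd 3 (q + 1) := by
  classical
  let cs := CoxeterMatrix.E₆.toCoxeterSystem
  -- the values
  have hval : ∀ {s : ↥(chevE6.group k)}, s ∈ TT chevE6 k → tau k p e s = s → ∀ x,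
      cX RGDTwE6.hp s (dua x) = cX RGDTwE6.hp s x ^ q := by
    intro s hs hs' x
    have h := cX_sigma RGDTwE6.hp cs isFrob_tau (fr_tau (k := k) (p := p) (e := e) cs) hs x
    rw [hs'] at h
    rw [h, hqe]
  have hv : ∀ s : TF k p e, ∀ i : Fin 6, cX RGDTwE6.hp s.1 (sr (pi i)) = cX RGDTwE6.hp s.1 (sr i) ^ q := by
    intro s i
    rw [← dua_sr]
    exact hval s.2.1 s.2.2 _
  have hpi : ∀ i : Fin 6, pi (pi i) = i := by decide
  have hr : ∀ s : TF k p e, ∀ i : Fin 6, ∃ b : F, f b = cX RGDTwE6.hp s.1 (sr i) := fun s i =>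
    Emb.mem_range_of_pow f (by
      have h1 := hv s (pi i)
      rw [hpi, hv s i, ← pow_mul, ← sq] at h1
      rw [hF, ← h1])
  have hne : ∀ s : TF k p e, ∀ i : Fin 6, cX RGDTwE6.hp s.1 (sr i) ≠ 0 := fun s i =>
    (isMC_cX RGDTwE6.hp s.2.1).ne_zero _
  choose κ hκ using hr
  have hκ0 : ∀ s i, κ s i ≠ 0 := by
    intro s i h0
    have h1 := hκ s i
    rw [h0, map_zero] at h1
    exact hne s i h1.symm
  -- the homomorphism into `(Fˣ)² × (F_qˣ)²`
  obtain ⟨φ0, hφ0⟩ := D4Fixed.exists_frob hq hF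
  let Fx : Subgroup Fˣ := (Units.map (φ0 : F →* F)).eqLocus (MonoidHom.id _)
  have hfix : ∀ s : TF k p e, ∀ i, pi i = i → Units.mk0 (κ s i) (hκ0 s i) ∈ Fx := by
    intro s i hi
    apply Units.ext
    show φ0 (κ s i) = κ s i
    apply f.injective
    rw [hφ0, map_pow, hκ, ← hv s i, hi]
  have hmul : ∀ (s s' : TF k p e) (i : Fin 6), κ (s * s') i = κ s i * κ s' i := by
    intro s s' i
    apply f.injective
    rw [hκ, map_mul, hκ, hκ]
    exact cX_mul RGDTwE6.hp s.2.1 s'.2.1 _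
  let Ψ : TF k p e →* (Fˣ × Fˣ) × (Fx × Fx) :=
    { toFun := fun s => ((Units.mk0 (κ s 0) (hκ0 s 0), Units.mk0 (κ s 2) (hκ0 s 2)),
        (⟨Units.mk0 (κ s 1) (hκ0 s 1), hfix s 1 (by decide)⟩, ⟨Units.mk0 (κ s 3) (hκ0 s 3), hfix s 3 (by decide)⟩))
      map_one' := by
        have h1 : ∀ i, κ 1 i = 1 := fun i => by
          have h2 := hmul 1 1 i
          rw [mul_one] at h2
          exact (mul_eq_left₀ (hκ0 1 i)).1 h2.symm
        refine Prod.ext (Prod.ext (Units.ext (h1 0)) (Units.ext (h1 2)))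
          (Prod.ext (Subtype.ext (Units.ext (h1 1))) (Subtype.ext (Units.ext (h1 3))))
      map_mul' := fun s s' => by
        refine Prod.ext (Prod.ext (Units.ext (hmul s s' 0)) (Units.ext (hmul s s' 2)))
          (Prod.ext (Subtype.ext (Units.ext (hmul s s' 1))) (Subtype.ext (Units.ext (hmul s s' 3)))) }
  have hΨ : Function.Injective Ψ := by
    intro s s' h
    apply Subtype.ext
    have h0 : κ s 0 = κ s' 0 := congrArg (fun z => ((z.1.1 : Fˣ) : F)) h
    have h2 : κ s 2 = κ s' 2 := congrArg (fun z => ((z.1.2 : Fˣ) : F)) h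
    have h1 : κ s 1 = κ s' 1 := congrArg (fun z => ((z.2.1.1 : Fˣ) : F)) h
    have h3 : κ s 3 = κ s' 3 := congrArg (fun z => ((z.2.2.1 : Fˣ) : F)) h
    have e : ∀ i, κ s i = κ s' i → cX RGDTwE6.hp s.1 (sr i) = cX RGDTwE6.hp s'.1 (sr i) := fun i hi => by
      rw [← hκ, ← hκ, hi]
    refine cX_inj RGDTwE6.hp s.2.1 s'.2.1 fun i => ?_
    fin_cases i
    · exact e 0 h0
    · exact e 1 h1
    · exact e 2 h2
    · exact e 3 h3
    · show cX RGDTwE6.hp s.1 (sr (pi 2)) = cX RGDTwE6.hp s'.1 (sr (pi 2))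
      rw [hv, hv, e 2 h2]
    · show cX RGDTwE6.hp s.1 (sr (pi 0)) = cX RGDTwE6.hp s'.1 (sr (pi 0))
      rw [hv, hv, e 0 h0]
  -- the subgroup
  have hι : ∀ x : ↥(chevE6.diagonalSubgroup F ⊓ twistedE6 F q),
      ((embT (k := k) f q).comp (Subgroup.inclusion inf_le_right)) x ∈ TF k p e := fun x =>
    ⟨emb_T RGDTwE6.hp f ⟨Subgroup.inclusion (tw_le F q) ⟨x.1, x.2.2⟩, x.2.1, rfl⟩, tau_embT f hqe hq hF _⟩
  let ι : ↥(chevE6.diagonalSubgroup F ⊓ twistedE6 F q) →* TF k p e :=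
    ((embT (k := k) f q).comp (Subgroup.inclusion inf_le_right)).codRestrict (TF k p e) hι
  have hιinj : Function.Injective ι := by
    intro x y h
    have h1 : embT (k := k) f q (Subgroup.inclusion inf_le_right x) =
        embT (k := k) f q (Subgroup.inclusion inf_le_right y) := congrArg Subtype.val h
    exact Subgroup.inclusion_injective _ (embT_injective f q h1)
  have hFx : Nat.card Fx = q - 1 := by
    have h1 : Nat.card {b : Fˣ // φ0 b = b} = q - 1 := D4H1.card_fixed hq.one_lt hF hφ0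
    rw [← h1]
    refine Nat.card_congr (Equiv.subtypeEquivRight fun b => ?_)
    constructor
    · intro h
      exact congrArg Units.val h
    · intro h
      exact Units.ext h
  have hcardT : Nat.card (TF k p e) ∣ (q ^ 2 - 1) * (q ^ 2 - 1) * ((q - 1) * (q - 1)) := by
    have h1 := Subgroup.card_dvd_of_injective Ψ hΨ
    rw [Nat.card_prod, Nat.card_prod, Nat.card_prod, D4H1.natCard_units hF, hFx] at h1
    exact h1
  have hN : (q ^ 2 - 1) * (q ^ 2 - 1) * ((q - 1) * (q - 1)) = (q - 1) ^ 4 * (q + 1) ^ 2 := by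
    obtain ⟨m, rfl⟩ : ∃ m, q = m + 1 := ⟨q - 1, (Nat.sub_add_cancel hq.one_lt.le).symm⟩
    have h1 : (m + 1) ^ 2 - 1 = m * (m + 2) := by
      apply Nat.sub_eq_of_eq_add
      ring
    rw [h1, Nat.add_sub_cancel]
    ring
  have hfinT : Finite (TF k p e) := by
    have : Finite ((Fˣ × Fˣ) × (Fx × Fx)) := inferInstance
    exact Finite.of_injective Ψ hΨ
  have hH := Cfsg.Agent.S1102.result hq hF
  have hpos : 0 < (q - 1) ^ 4 * (q + 1) ^ 2 := by
    have := hq.one_lt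
    have : 0 < q - 1 := by omega
    (clear * - this; positivity)
  have hcS : Nat.card ι.range = Nat.card ↥(chevE6.diagonalSubgroup F ⊓ twistedE6 F q) :=
    (Nat.card_congr (MonoidHom.ofInjective hιinj).toEquiv).symm
  have hidx : ι.range.index ∣ Nat.gcd 3 (q + 1) := by
    have h1 := ι.range.card_mul_index
    rw [hN, ← hH, ← h1, hcS, mul_comm] at hcardT
    have h3 : 0 < Nat.card ↥(chevE6.diagonalSubgroup F ⊓ twistedE6 F q) := by
      rw [← hH] at hpos
      exact pos_of_mul_pos_right hpos (Nat.zero_le _)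
    exact Nat.dvd_of_mul_dvd_mul_right h3 hcardT
  refine (Subgroup.index_dvd_of_le ?_).trans hidx
  rintro _ ⟨x, rfl⟩
  exact ⟨Subgroup.inclusion inf_le_right x, rfl⟩

/-- The fixed elements. -/
def SF (k : Type u) [Field k] [IsAlgClosed k] (p e : ℕ) [Fact p.Prime] [CharP k p] :
    Subgroup ↥(chevE6.group k) where
  carrier := {t | tau k p e t = t}
  mul_mem' := by
    intro a b h2 h4
    show tau k p e (a * b) = a * b
    rw [map_mul, show tau k p e a = a from h2, show tau k p e b = b from h4]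
  one_mem' := map_one _
  inv_mem' := by
    intro a h2
    show tau k p e a⁻¹ = a⁻¹
    rw [map_inv, show tau k p e a = a from h2]

/-- fixed elements normalise the finite group -/
theorem conj_range {q : ℕ} (hqe : q = p ^ e) (hq : IsPrimePow q) (hF : Fintype.card F = q ^ 2)
    {g : ↥(chevE6.group k)} (hg : tau k p e g = g) :
    ∀ y ∈ (embT (k := k) f q).range, g * y * g⁻¹ ∈ (embT (k := k) f q).range := by
  rintro _ ⟨y, rfl⟩
  have h3 := twE6_normalizer (f := f) hq hF (frob_apply hqe) g.2 ((tau_eq_iff g).1 hg)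
  rw [Subgroup.mem_normalizer_iff] at h3
  obtain ⟨z, hz, hz'⟩ := (h3 (glMap chevE6 f y)).1 ⟨y, y.2, rfl⟩
  refine ⟨⟨z, hz⟩, Subtype.ext ?_⟩
  rw [coe_embT]
  rw [hz', Subgroup.coe_mul, Subgroup.coe_mul, Subgroup.coe_inv, coe_embT]

seal _root_.Finset.sum _root_.dotProduct in
/-- **Elements of the fixed points modulo `²E₆(q)`.** -/
theorem exists_mul_mem {q : ℕ} (hqe : q = p ^ e) (hq : IsPrimePow q) (hF : Fintype.card F = q ^ 2)
    {y τ : ↥(chevE6.group k)} (hy : tau k p e y = y) (hτ : tau k p e τ = τ)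
    (hn : τ ∉ (embT (k := k) f q).range) : ∃ i : ℕ, y * τ ^ i ∈ (embT (k := k) f q).range := by
  obtain ⟨R, hR⟩ : ∃ R, R = (embT (k := k) f q).range.subgroupOf (SF k p e) := ⟨_, rfl⟩
  haveI hnorm : R.Normal := by
    constructor
    rintro ⟨a, ha⟩ h ⟨g, hg⟩
    rw [hR, Subgroup.mem_subgroupOf] at h ⊢
    exact conj_range f hqe hq hF hg a h
  have hTS : TF k p e ≤ SF k p e := fun t ht => ht.2
  let θ : ↥(TF k p e) →* ↥(SF k p e) ⧸ R := (QuotientGroup.mk' R).comp (Subgroup.inclusion hTS)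
  have hθ : Function.Surjective θ := by
    intro z
    have hob_ := QuotientGroup.mk'_surjective R z
    obtain ⟨⟨s, hs⟩, rfl⟩ := hob_
    have hob_ := twE6_split (f := f) hq hF (frob_apply hqe) s.2 ((tau_eq_iff s).1 hs)
    obtain ⟨x, hx, t, ht, h1⟩ := hob_
    let t' : ↥(chevE6.group k) := ⟨t, diagonal_le_group RGDTwE6.hp.inList k ht⟩
    have e1 : s = embT f q ⟨x, hx⟩ * t' := by
      apply Subtype.ext
      rw [Subgroup.coe_mul, coe_embT]
      exact h1
    have hσt : tau k p e t' = t' := by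
      have h2 : tau k p e s = s := hs
      rw [e1, map_mul, tau_embT f hqe hq hF] at h2
      exact mul_left_cancel h2
    have hT : t' ∈ TF k p e := ⟨ht, hσt⟩
    have hE : embT f q ⟨x, hx⟩ ∈ SF k p e := tau_embT f hqe hq hF _
    refine ⟨⟨t', hT⟩, ?_⟩
    have e2 : (⟨s, hs⟩ : ↥(SF k p e)) = ⟨embT f q ⟨x, hx⟩, hE⟩ * Subgroup.inclusion hTS ⟨t', hT⟩ := Subtype.ext e1
    show QuotientGroup.mk' R (Subgroup.inclusion hTS ⟨t', hT⟩) = QuotientGroup.mk' R ⟨s, hs⟩
    simp only [e2, map_mul]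
    have e3 : QuotientGroup.mk' R ⟨embT f q ⟨x, hx⟩, hE⟩ = 1 := by
      rw [QuotientGroup.mk'_apply, QuotientGroup.eq_one_iff, hR, Subgroup.mem_subgroupOf]
      exact ⟨_, rfl⟩
    simp only [e3, one_mul]
  have hcard : Nat.card (↥(SF k p e) ⧸ R) ∣ 3 := by
    have h1 : Nat.card (↥(SF k p e) ⧸ R) = θ.ker.index := by
      rw [Subgroup.index_ker, MonoidHom.range_eq_top.2 hθ, Subgroup.card_top]
    rw [h1]
    refine (Subgroup.index_dvd_of_le ?_).trans ((torus_index f hqe hq hF).trans (Nat.gcd_dvd_left 3 (q + 1)))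
    intro t ht
    rw [Subgroup.mem_subgroupOf] at ht
    rw [MonoidHom.mem_ker]
    show QuotientGroup.mk' R (Subgroup.inclusion hTS t) = 1
    rw [QuotientGroup.mk'_apply, QuotientGroup.eq_one_iff, hR, Subgroup.mem_subgroupOf]
    exact ht
  have hτ1 : QuotientGroup.mk' R ⟨τ, hτ⟩ ≠ 1 := by
    rw [Ne, QuotientGroup.mk'_apply, QuotientGroup.eq_one_iff, hR, Subgroup.mem_subgroupOf]
    exact hn
  have h3 : Nat.card (↥(SF k p e) ⧸ R) = 3 := by
    rcases (Nat.dvd_prime Nat.prime_three).1 hcard with h | h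
    · exfalso
      haveI := (Nat.card_eq_one_iff_unique.1 h).1
      exact hτ1 (Subsingleton.elim _ _)
    · exact h
  haveI : Fact (Nat.Prime 3) := ⟨Nat.prime_three⟩
  haveI : Finite (↥(SF k p e) ⧸ R) := Nat.finite_of_card_ne_zero (by rw [h3]; norm_num)
  have htop := zpowers_eq_top_of_prime_card h3 hτ1
  have hmem : (QuotientGroup.mk' R ⟨y, hy⟩)⁻¹ ∈ Subgroup.zpowers (QuotientGroup.mk' R ⟨τ, hτ⟩) := by
    rw [htop]; trivial
  rw [← mem_powers_iff_mem_zpowers] at hmem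
  obtain ⟨i, hi⟩ := hmem
  refine ⟨i, ?_⟩
  have h4 : QuotientGroup.mk' R (⟨y, hy⟩ * ⟨τ, hτ⟩ ^ i) = 1 := by
    simp only [map_mul, map_pow]
    simp only [show QuotientGroup.mk' R ⟨τ, hτ⟩ ^ i = (QuotientGroup.mk' R ⟨y, hy⟩)⁻¹ from hi, mul_inv_cancel]
  rw [QuotientGroup.mk'_apply, QuotientGroup.eq_one_iff, hR, Subgroup.mem_subgroupOf] at h4
  exact h4

end Cfsg.Agent.H744.Fx.TwE6
end

-- part: H744/Fx/Untw
section
/-!
# Fixity 3 and 4: the rows `F₄(q)`, `E₆(q)`, `E₇(q)`, `E₈(q)` of S3002, S2993 (helper744)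
-/

set_option autoImplicit false
set_option linter.unusedSectionVars false
set_option linter.style.haveILetI false

namespace Cfsg.Agent.H744.Fx

open Matrix Subgroup Cfsg Cfsg.Lie CoxeterSystem
open Cfsg.Agent.ChevalleyStructure.Elts Cfsg.Agent.ChevalleyStructure.SL2Hom
  Cfsg.Agent.ChevalleyStructure.CoxeterGeom Cfsg.Agent.ChevalleyStructure.CoxeterGeomTypes
  Cfsg.Agent.ChevalleyStructure.StBasic
open Cfsg.Agent.Nodes.RGDChev Cfsg.Agent.Tits.Roots
open Cfsg.Agent.H92.ExcSL2 (SL2 ph ph_eq_one ph_commute coe_ph phi_up phi_lo OrthB Orth4 commute_of_up_lo xG_commute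
  orderOf_ph thr orderOf_thr wel wel_sq orderOf_wel)
open Cfsg.Agent.H254.Fx Cfsg.Agent.H493.PGTorus Cfsg.Agent.H129.TorusChar Cfsg.Agent.H129.StCover
  Cfsg.Agent.H493 Cfsg.Agent.H493.PGCyc Cfsg.Agent.H129.WData
open Cfsg.Agent.BpExc.RowsUntw (f4T e6T e7T e8T)
open Cfsg.Agent.H696.GmnUntw (center_eq_bot_of_simple)

/-! ### tables -/

/-- `F4l` -/
def rF4l : Fin 3 → Fin 3 → ℕ := ![![0, 33, 7], ![14, 0, 3], ![40, 44, 0]]
/-- signs -/
def sF4l : Fin 3 → Fin 3 → ℤ := ![![1, 1, 1], ![1, 1, -1], ![1, -1, 1]]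
theorem tF4l : TabOK chevF4 rF4l sF4l :=
  ⟨by decide +kernel, by decide +kernel, by decide +kernel, by decide +kernel⟩

/-- `F4s` -/
def rF4s : Fin 3 → Fin 3 → ℕ := ![![0, 25, 26], ![22, 0, 24], ![21, 23, 0]]
/-- signs -/
def sF4s : Fin 3 → Fin 3 → ℤ := ![![1, 1, 1], ![1, 1, -1], ![1, -1, 1]]
theorem tF4s : TabOK chevF4 rF4s sF4s :=
  ⟨by decide +kernel, by decide +kernel, by decide +kernel, by decide +kernel⟩

/-- `F4a` -/
def rF4a : Fin 4 → Fin 4 → ℕ := ![![0, 25, 26, 2], ![22, 0, 24, 1], ![21, 23, 0, 0], ![45, 46, 47, 0]]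
/-- signs -/
def sF4a : Fin 4 → Fin 4 → ℤ := ![![1, 1, 1, 1], ![1, 1, -1, -1], ![1, -1, 1, -1], ![1, -1, -1, 1]]
theorem tF4a : TabOK chevF4 rF4a sF4a :=
  ⟨by decide +kernel, by decide +kernel, by decide +kernel, by decide +kernel⟩

/-- `E6a` -/
def rE6a : Fin 3 → Fin 3 → ℕ := ![![0, 56, 57], ![15, 0, 42], ![14, 29, 0]]
/-- signs -/
def sE6a : Fin 3 → Fin 3 → ℤ := ![![1, 1, 1], ![1, 1, -1], ![1, -1, 1]]
theorem tE6a : TabOK chevE6 rE6a sE6a :=
  ⟨by decide +kernel, by decide +kernel, by decide +kernel, by decide +kernel⟩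

/-- `E6b` -/
def rE6b : Fin 3 → Fin 3 → ℕ := ![![0, 37, 38], ![34, 0, 36], ![33, 35, 0]]
/-- signs -/
def sE6b : Fin 3 → Fin 3 → ℤ := ![![1, 1, 1], ![1, 1, -1], ![1, -1, 1]]
theorem tE6b : TabOK chevE6 rE6b sE6b :=
  ⟨by decide +kernel, by decide +kernel, by decide +kernel, by decide +kernel⟩

/-- `E6c` -/
def rE6c : Fin 4 → Fin 4 → ℕ := ![![0, 56, 57, 58], ![15, 0, 42, 43], ![14, 29, 0, 39], ![13, 28, 32, 0]]
/-- signs -/
def sE6c : Fin 4 → Fin 4 → ℤ := ![![1, 1, 1, 1], ![1, 1, -1, -1], ![1, -1, 1, -1], ![1, -1, -1, 1]]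
theorem tE6c : TabOK chevE6 rE6c sE6c :=
  ⟨by decide +kernel, by decide +kernel, by (refine of_decide_eq_true ?_; delta Cfsg.Agent.TitsThree.KExcRT.RTc Cfsg.Agent.TitsThree.KExcRT.instDecidableRTc; rewrite [Cfsg.Agent.ChevFast.E6.commTerms, Cfsg.Agent.ChevFast.E6.neg]; decide +kernel), by decide +kernel⟩

/-- `E7a` -/
def rE7a : Fin 4 → Fin 4 → ℕ := ![![0, 93, 94, 95], ![32, 0, 73, 74], ![31, 52, 0, 69], ![30, 51, 56, 0]]
/-- signs -/
def sE7a : Fin 4 → Fin 4 → ℤ := ![![1, 1, 1, 1], ![1, 1, -1, -1], ![1, -1, 1, -1], ![1, -1, -1, 1]]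
theorem tE7a : TabOK chevE7 rE7a sE7a :=
  ⟨by decide +kernel, by (refine of_decide_eq_true ?_; delta Cfsg.Agent.TitsThree.KExcRT.RTb Cfsg.Agent.TitsThree.KExcRT.instDecidableRTb; rewrite [Cfsg.Agent.ChevFast.E7.commTerms, Cfsg.Agent.ChevFast.E7.neg]; decide +kernel), by (refine of_decide_eq_true ?_; delta Cfsg.Agent.TitsThree.KExcRT.RTc Cfsg.Agent.TitsThree.KExcRT.instDecidableRTc; rewrite [Cfsg.Agent.ChevFast.E7.commTerms, Cfsg.Agent.ChevFast.E7.neg]; decide +kernel), by decide +kernel⟩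

/-- `E7b` -/
def rE7b : Fin 3 → Fin 3 → ℕ := ![![0, 64, 65], ![61, 0, 63], ![60, 62, 0]]
/-- signs -/
def sE7b : Fin 3 → Fin 3 → ℤ := ![![1, 1, 1], ![1, 1, -1], ![1, -1, 1]]
theorem tE7b : TabOK chevE7 rE7b sE7b :=
  ⟨by decide +kernel, by decide +kernel, by decide +kernel, by decide +kernel⟩

/-- `E8a` -/
def rE8a : Fin 4 → Fin 4 → ℕ := ![![0, 162, 163, 164], ![77, 0, 135, 136], ![76, 104, 0, 130], ![75, 103, 109, 0]]
/-- signs -/
def sE8a : Fin 4 → Fin 4 → ℤ := ![![1, 1, 1, 1], ![1, 1, -1, -1], ![1, -1, 1, -1], ![1, -1, -1, 1]]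
theorem tE8a : TabOK chevE8 rE8a sE8a :=
  ⟨by decide +kernel, by (refine of_decide_eq_true ?_; delta Cfsg.Agent.TitsThree.KExcRT.RTb Cfsg.Agent.TitsThree.KExcRT.instDecidableRTb; rewrite [Cfsg.Agent.ChevFast.E8.commTerms, Cfsg.Agent.ChevFast.E8.neg]; decide +kernel), by (refine of_decide_eq_true ?_; delta Cfsg.Agent.TitsThree.KExcRT.RTc Cfsg.Agent.TitsThree.KExcRT.instDecidableRTc; rewrite [Cfsg.Agent.ChevFast.E8.commTerms, Cfsg.Agent.ChevFast.E8.neg]; decide +kernel), by decide +kernel⟩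

/-- `E8b` -/
def rE8b : Fin 3 → Fin 3 → ℕ := ![![0, 123, 124], ![116, 0, 121], ![115, 118, 0]]
/-- signs -/
def sE8b : Fin 3 → Fin 3 → ℤ := ![![1, 1, 1], ![1, 1, -1], ![1, -1, 1]]
theorem tE8b : TabOK chevE8 rE8b sE8b :=
  ⟨by decide +kernel, by decide +kernel, by (refine of_decide_eq_true ?_; delta Cfsg.Agent.TitsThree.KExcRT.RTc Cfsg.Agent.TitsThree.KExcRT.instDecidableRTc; rewrite [Cfsg.Agent.ChevFast.E8.commTerms, Cfsg.Agent.ChevFast.E8.neg]; decide +kernel), by decide +kernel⟩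

/-! ### eigenvectors -/

/-- partial products, cyclotomic polynomial 6 -/
def chainE66 : List (Fin 6 × Mat 6) := [(1, ![![1, 1, 1, 1, 0, 0], ![0, 0, 0, 1, 0, 0], ![0, -1, -1, -1, 0, 0], ![0, 1, 1, 1, 1, 0], ![0, -1, 0, -1, -1, 0], ![0, 1, 0, 1, 1, 1]]),
    (3, ![![1, 0, 1, 1, 0, 0], ![0, 1, 0, 1, 0, 0], ![0, 0, -1, -1, 0, 0], ![0, 0, 1, 1, 1, 0], ![0, 0, 0, -1, -1, 0], ![0, 0, 0, 1, 1, 1]]),
    (2, ![![1, 0, 1, 0, 0, 0], ![0, 1, 0, 0, 0, 0], ![0, 0, -1, 0, 0, 0], ![0, 0, 1, 1, 1, 0], ![0, 0, 0, 0, -1, 0], ![0, 0, 0, 0, 1, 1]]),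
    (4, ![![1, 0, 0, 0, 0, 0], ![0, 1, 0, 0, 0, 0], ![0, 0, 1, 0, 0, 0], ![0, 0, 0, 1, 1, 0], ![0, 0, 0, 0, -1, 0], ![0, 0, 0, 0, 1, 1]])]

theorem chainE66_ok : ChainOK PGE6.Am chainE66 := by decide +kernel

def VE66 : Fin 2 → Fin 6 → ℤ := ![![0, 0, -1, -1, -1, 0], ![0, -1, 0, -1, 0, 0]]

def UE66 : Fin 6 → ℤ := ![0, 0, -1, 0, 0, 0]

theorem eigE66 : EigOK (hd chainE66) c6 VE66 UE66 := by decide +kernel

/-- partial products, cyclotomic polynomial 6 -/
def chainE76 : List (Fin 7 × Mat 7) := [(3, ![![1, 0, 1, 1, 0, 0, 0], ![0, -1, 0, -1, 0, 0, 0], ![0, 0, -1, -1, 0, 0, 0], ![0, 1, 1, 2, 1, 0, 0], ![0, 0, 0, -1, -1, 0, 0], ![0, 0, 0, 1, 1, 1, 0], ![0, 0, 0, 0, 0, 0, 1]]),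
    (1, ![![1, 0, 1, 0, 0, 0, 0], ![0, -1, 0, 0, 0, 0, 0], ![0, 0, -1, 0, 0, 0, 0], ![0, 1, 1, 1, 1, 0, 0], ![0, 0, 0, 0, -1, 0, 0], ![0, 0, 0, 0, 1, 1, 0], ![0, 0, 0, 0, 0, 0, 1]]),
    (2, ![![1, 0, 1, 0, 0, 0, 0], ![0, 1, 0, 0, 0, 0, 0], ![0, 0, -1, 0, 0, 0, 0], ![0, 0, 1, 1, 1, 0, 0], ![0, 0, 0, 0, -1, 0, 0], ![0, 0, 0, 0, 1, 1, 0], ![0, 0, 0, 0, 0, 0, 1]]),
    (4, ![![1, 0, 0, 0, 0, 0, 0], ![0, 1, 0, 0, 0, 0, 0], ![0, 0, 1, 0, 0, 0, 0], ![0, 0, 0, 1, 1, 0, 0], ![0, 0, 0, 0, -1, 0, 0], ![0, 0, 0, 0, 1, 1, 0], ![0, 0, 0, 0, 0, 0, 1]])]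

theorem chainE76_ok : ChainOK PGE7.Am chainE76 := by decide +kernel

def VE76 : Fin 2 → Fin 7 → ℤ := ![![0, -1, -1, -1, -1, 0, 0], ![0, 0, 0, -1, 0, 0, 0]]

def UE76 : Fin 7 → ℤ := ![0, -1, 0, 0, 0, 0, 0]

theorem eigE76 : EigOK (hd chainE76) c6 VE76 UE76 := by decide +kernel

/-- partial products, cyclotomic polynomial 8 -/
def chainE78 : List (Fin 7 × Mat 7) := [(1, ![![-1, -1, -1, -1, 0, 0, 0], ![0, 0, 0, 1, 0, 0, 0], ![1, 0, 0, 0, 0, 0, 0], ![0, 1, 1, 1, 1, 0, 0], ![0, -1, 0, -1, -1, 0, 0], ![0, 1, 0, 1, 1, 1, 0], ![0, 0, 0, 0, 0, 0, 1]]),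
    (3, ![![-1, 0, -1, -1, 0, 0, 0], ![0, 1, 0, 1, 0, 0, 0], ![1, 0, 0, 0, 0, 0, 0], ![0, 0, 1, 1, 1, 0, 0], ![0, 0, 0, -1, -1, 0, 0], ![0, 0, 0, 1, 1, 1, 0], ![0, 0, 0, 0, 0, 0, 1]]),
    (2, ![![-1, 0, -1, 0, 0, 0, 0], ![0, 1, 0, 0, 0, 0, 0], ![1, 0, 0, 0, 0, 0, 0], ![0, 0, 1, 1, 1, 0, 0], ![0, 0, 0, 0, -1, 0, 0], ![0, 0, 0, 0, 1, 1, 0], ![0, 0, 0, 0, 0, 0, 1]]),
    (4, ![![-1, 0, 0, 0, 0, 0, 0], ![0, 1, 0, 0, 0, 0, 0], ![1, 0, 1, 0, 0, 0, 0], ![0, 0, 0, 1, 1, 0, 0], ![0, 0, 0, 0, -1, 0, 0], ![0, 0, 0, 0, 1, 1, 0], ![0, 0, 0, 0, 0, 0, 1]]),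
    (0, ![![-1, 0, 0, 0, 0, 0, 0], ![0, 1, 0, 0, 0, 0, 0], ![1, 0, 1, 0, 0, 0, 0], ![0, 0, 0, 1, 0, 0, 0], ![0, 0, 0, 0, 1, 0, 0], ![0, 0, 0, 0, 0, 1, 0], ![0, 0, 0, 0, 0, 0, 1]])]

theorem chainE78_ok : ChainOK PGE7.Am chainE78 := by decide +kernel

def VE78 : Fin 4 → Fin 7 → ℤ := ![![0, 0, 1, 0, 0, 0, 0], ![0, 0, 0, 1, 1, 0, 0], ![1, 1, 1, 1, 0, 0, 0], ![-1, 0, 0, 0, 0, 0, 0]]

def UE78 : Fin 7 → ℤ := ![0, -1, 1, 0, 0, 0, 0]

theorem eigE78 : EigOK (hd chainE78) c8 VE78 UE78 := by decide +kernel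


/-! ### numbers -/

/-- `3 ∣ q` or `3 ∣ q² - 1` and `9 ∣ q⁶ - 1` -/
theorem three_cases (q : ℕ) (hq : 2 ≤ q) : 3 ∣ q ∨ (3 ∣ q ^ 2 - 1 ∧ 9 ∣ q ^ 6 - 1) := by
  by_cases h : 3 ∣ q
  · exact Or.inl h
  · right
    constructor
    · refine (Nat.modEq_iff_dvd' (Nat.one_le_pow _ _ (by omega))).1 ?_
      have : q % 3 = 1 ∨ q % 3 = 2 := by omega
      rcases this with h2 | h2 <;> simp [Nat.ModEq, Nat.pow_mod, h2]
    · refine (Nat.modEq_iff_dvd' (Nat.one_le_pow _ _ (by omega))).1 ?_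
      have : q % 9 = 1 ∨ q % 9 = 2 ∨ q % 9 = 4 ∨ q % 9 = 5 ∨ q % 9 = 7 ∨ q % 9 = 8 := by omega
      rcases this with h2 | h2 | h2 | h2 | h2 | h2 <;> simp [Nat.ModEq, Nat.pow_mod, h2]

theorem three_sub {q j : ℕ} (h : 3 ∣ q ^ 2 - 1) : 3 ∣ q ^ (2 * j) - 1 := by
  refine h.trans ?_
  rw [pow_mul]
  have := Nat.sub_dvd_pow_sub_pow (q ^ 2) 1 j
  rwa [one_pow] at this

theorem sub_dvd {q i j : ℕ} : q ^ i - 1 ∣ q ^ (i * j) - 1 := by
  rw [pow_mul]
  have := Nat.sub_dvd_pow_sub_pow (q ^ i) 1 j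
  rwa [one_pow] at this

theorem dvd_f4 (q : ℕ) (hq : 2 ≤ q) : 27 ∣ q ^ 24 * (q ^ 2 - 1) * (q ^ 6 - 1) * (q ^ 8 - 1) * (q ^ 12 - 1) := by
  rcases three_cases q hq with h | ⟨h1, h2⟩
  · have h3 : 27 ∣ q ^ 24 := ((show (27 : ℕ) = 3 ^ 3 by norm_num) ▸ pow_dvd_pow_of_dvd h 3).trans
      (pow_dvd_pow q (by norm_num))
    exact (((h3.mul_right _).mul_right _).mul_right _).mul_right _
  · have h3 : 27 ∣ (q ^ 2 - 1) * (q ^ 6 - 1) := mul_dvd_mul h1 h2
    have e : q ^ 24 * (q ^ 2 - 1) * (q ^ 6 - 1) * (q ^ 8 - 1) * (q ^ 12 - 1) =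
      (q ^ 2 - 1) * (q ^ 6 - 1) * (q ^ 24 * (q ^ 8 - 1) * (q ^ 12 - 1)) := by ring
    rw [e]; exact h3.mul_right _

theorem dvd_e6 (q : ℕ) (hq : 2 ≤ q) : 81 ∣ q ^ 36 * (q ^ 2 - 1) * (q ^ 5 - 1) * (q ^ 6 - 1) * (q ^ 8 - 1) *
    (q ^ 9 - 1) * (q ^ 12 - 1) := by
  rcases three_cases q hq with h | ⟨h1, h2⟩
  · have h3 : 81 ∣ q ^ 36 := ((show (81 : ℕ) = 3 ^ 4 by norm_num) ▸ pow_dvd_pow_of_dvd h 4).trans
      (pow_dvd_pow q (by norm_num))
    exact (((((h3.mul_right _).mul_right _).mul_right _).mul_right _).mul_right _).mul_right _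
  · have h3 : 81 ∣ (q ^ 2 - 1) * (q ^ 6 - 1) * (q ^ (2 * 4) - 1) := mul_dvd_mul (mul_dvd_mul h1 h2) (three_sub h1)
    have e : q ^ 36 * (q ^ 2 - 1) * (q ^ 5 - 1) * (q ^ 6 - 1) * (q ^ 8 - 1) * (q ^ 9 - 1) * (q ^ 12 - 1) =
      (q ^ 2 - 1) * (q ^ 6 - 1) * (q ^ (2 * 4) - 1) * (q ^ 36 * (q ^ 5 - 1) * (q ^ 9 - 1) * (q ^ 12 - 1)) := by ring
    rw [e]; exact h3.mul_right _

theorem dvd_e7 (q : ℕ) (hq : 2 ≤ q) : 27 ∣ q ^ 63 * (q ^ 2 - 1) * (q ^ 6 - 1) * (q ^ 8 - 1) * (q ^ 10 - 1) *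
    (q ^ 12 - 1) * (q ^ 14 - 1) * (q ^ 18 - 1) := by
  rcases three_cases q hq with h | ⟨h1, h2⟩
  · have h3 : 27 ∣ q ^ 63 := ((show (27 : ℕ) = 3 ^ 3 by norm_num) ▸ pow_dvd_pow_of_dvd h 3).trans
      (pow_dvd_pow q (by norm_num))
    exact ((((((h3.mul_right _).mul_right _).mul_right _).mul_right _).mul_right _).mul_right _).mul_right _
  · have h3 : 27 ∣ (q ^ 2 - 1) * (q ^ 6 - 1) := mul_dvd_mul h1 h2
    have e : q ^ 63 * (q ^ 2 - 1) * (q ^ 6 - 1) * (q ^ 8 - 1) * (q ^ 10 - 1) * (q ^ 12 - 1) * (q ^ 14 - 1) *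
        (q ^ 18 - 1) =
      (q ^ 2 - 1) * (q ^ 6 - 1) * (q ^ 63 * (q ^ 8 - 1) * (q ^ 10 - 1) * (q ^ 12 - 1) * (q ^ 14 - 1) *
        (q ^ 18 - 1)) := by ring
    rw [e]; exact h3.mul_right _

theorem dvd_e8 (q : ℕ) (hq : 2 ≤ q) : 27 ∣ q ^ 120 * (q ^ 2 - 1) * (q ^ 8 - 1) * (q ^ 12 - 1) * (q ^ 14 - 1) *
    (q ^ 18 - 1) * (q ^ 20 - 1) * (q ^ 24 - 1) * (q ^ 30 - 1) := by
  rcases three_cases q hq with h | ⟨h1, h2⟩
  · have h3 : 27 ∣ q ^ 120 := ((show (27 : ℕ) = 3 ^ 3 by norm_num) ▸ pow_dvd_pow_of_dvd h 3).trans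
      (pow_dvd_pow q (by norm_num))
    exact (((((((h3.mul_right _).mul_right _).mul_right _).mul_right _).mul_right _).mul_right _).mul_right _).mul_right _
  · have h3 : 27 ∣ (q ^ 2 - 1) * (q ^ (6 * 2) - 1) := mul_dvd_mul h1 (h2.trans sub_dvd)
    have e : q ^ 120 * (q ^ 2 - 1) * (q ^ 8 - 1) * (q ^ 12 - 1) * (q ^ 14 - 1) * (q ^ 18 - 1) * (q ^ 20 - 1) *
        (q ^ 24 - 1) * (q ^ 30 - 1) =
      (q ^ 2 - 1) * (q ^ (6 * 2) - 1) * (q ^ 120 * (q ^ 8 - 1) * (q ^ 14 - 1) * (q ^ 18 - 1) * (q ^ 20 - 1) *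
        (q ^ 24 - 1) * (q ^ 30 - 1)) := by ring
    rw [e]; exact h3.mul_right _

/-- small primes: `r ∣ |SL_3(q)|` -/
theorem dvd_sl3 {F : Type} [Field F] [Fintype F] {r : ℕ}
    (h : r ∣ Fintype.card F ∨ r ∣ Fintype.card F ^ 2 - 1 ∨ r ∣ Fintype.card F ^ 3 - 1) {n : ℕ} (hn : 3 ≤ n) :
    r ∣ Nat.card (_root_.Matrix.SpecialLinearGroup (Fin n) F) := by
  rcases h with h | h | h
  · exact h.trans (q_dvd_card_sl (by omega))
  · exact h.trans (dvd_card_sl (j := 2) le_rfl (by omega))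
  · exact h.trans (dvd_card_sl (j := 3) (by norm_num) hn)

theorem not_dvd_of_five {r m : ℕ} (h5 : 5 ≤ r) (hm : 0 < m) (h : m < 5) : ¬ r ∣ m := fun h1 => by
  have := Nat.le_of_dvd hm h1
  omega

/-! ### `F₄(q)` -/

theorem no34_f4' (F : Type) [Field F] [Fintype F] : No34 ↥(Cfsg.Lie.chevF4.group F) := by
  haveI : Finite ↥(Cfsg.Lie.chevF4.group F) := inferInstance
  have hD := f4T.inList
  have hZ : ∀ (k : Type) [Field k] [IsAlgClosed k], center ↥(chevF4.group k) = ⊥ := fun k _ _ =>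
    center_eq_bot_of_simple (S1054.result chevF4 (by simp))
  refine no34_crit (q := Fintype.card F) Fintype.one_lt_card
    (exists_three hD (a := 33) (by decide +kernel) (by decide +kernel) tF4s (by decide +kernel) (by decide +kernel)) ?_ ?_ ?_ ?_
  · rw [S1062.result (F := F) rfl]; exact dvd_f4 _ Fintype.one_lt_card
  · intro r hr h5 h
    exact killAll_small hD (m := 2) le_rfl tF4l tF4s (by decide +kernel) hr (not_dvd_of_five h5 (by norm_num)
      (by norm_num)) (dvd_sl3 h le_rfl)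
  · intro r hr h5 _ hrq h4
    exact killAll_four f4T hD invC_F4 odd_one hZ tF4a (a := 33) (by decide +kernel) (by decide +kernel) (by decide +kernel)
      (by decide +kernel) hr h5 hrq h4
  · intro r hr h5 hd hrq ho
    exact killAll_of_order_pow f4T invC_F4 one_ne_zero hZ hr hrq hd (by rwa [pow_one])

/-! ### `E₈(q)` -/

theorem no34_e8' (F : Type) [Field F] [Fintype F] : No34 ↥(Cfsg.Lie.chevE8.group F) := by
  haveI : Finite ↥(Cfsg.Lie.chevE8.group F) := inferInstance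
  have hD := e8T.inList
  have hZ : ∀ (k : Type) [Field k] [IsAlgClosed k], center ↥(chevE8.group k) = ⊥ := fun k _ _ =>
    center_eq_bot_of_simple (S1054.result chevE8 (by simp))
  refine no34_crit (q := Fintype.card F) Fintype.one_lt_card
    (exists_three hD (a := 162) (by decide +kernel) (by decide +kernel) tE8b (by decide +kernel) (by decide +kernel)) ?_ ?_ ?_ ?_
  · rw [S1065.result (F := F) rfl]; exact dvd_e8 _ Fintype.one_lt_card
  · intro r hr h5 h
    exact killAll_small hD (m := 3) (by norm_num) tE8a tE8b (by (delta Cfsg.Agent.H92.ExcSL2.OrthB; rewrite [Cfsg.Agent.ChevFast.E8.commTerms, Cfsg.Agent.ChevFast.E8.neg]; decide +kernel)) hr (not_dvd_of_five h5 (by norm_num)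
      (by norm_num)) (dvd_sl3 h (by norm_num))
  · intro r hr h5 _ hrq h4
    refine killAll_small hD (m := 3) (by norm_num) tE8a tE8b (by (delta Cfsg.Agent.H92.ExcSL2.OrthB; rewrite [Cfsg.Agent.ChevFast.E8.commTerms, Cfsg.Agent.ChevFast.E8.neg]; decide +kernel)) hr (not_dvd_of_five h5 (by norm_num)
      (by norm_num)) ?_
    refine (dvd_sub_of_pow hr Fintype.one_lt_card (j := 4) ?_).trans (dvd_card_sl (F := F) (n := 4) (j := 4)
      (by norm_num) le_rfl)
    rw [← h4]; exact pow_orderOf_eq_one _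
  · intro r hr h5 hd hrq ho
    exact killAll_of_order_pow e8T invC_E8 one_ne_zero hZ hr hrq hd (by rwa [pow_one])

/-! ### `E₇(q)` -/

/-- the prime divides the value of a cyclotomic polynomial -/
theorem dvd_c6 {q r : ℕ} (hr : r.Prime) (ho : orderOf (q : ZMod r) = 6) : (r : ℤ) ∣ pv c6 q := by
  haveI : Fact r.Prime := ⟨hr⟩
  rw [pv_c6, ← ZMod.intCast_zmod_eq_zero_iff_dvd]
  push_cast
  have h6 : (q : ZMod r) ^ 6 = 1 := by rw [← ho]; exact pow_orderOf_eq_one _
  have h3 : (q : ZMod r) ^ 3 ≠ 1 := fun h => by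
    have := Nat.le_of_dvd (by norm_num) (orderOf_dvd_of_pow_eq_one h)
    omega
  have h2 : (q : ZMod r) ^ 2 ≠ 1 := fun h => by
    have := Nat.le_of_dvd (by norm_num) (orderOf_dvd_of_pow_eq_one h)
    omega
  have e : ((q : ZMod r) ^ 3 - 1) * (((q : ZMod r) + 1) * ((q : ZMod r) ^ 2 - q + 1)) = 0 := by
    linear_combination h6
  rcases mul_eq_zero.1 e with h | h
  · exact absurd (sub_eq_zero.1 h) h3
  rcases mul_eq_zero.1 h with h | h
  · exfalso
    apply h2
    have : (q : ZMod r) = -1 := eq_neg_of_add_eq_zero_left h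
    rw [this]; ring
  · exact h

theorem dvd_c8 {q r : ℕ} (hr : r.Prime) (ho : orderOf (q : ZMod r) = 8) : (r : ℤ) ∣ pv c8 q := by
  haveI : Fact r.Prime := ⟨hr⟩
  rw [pv_c8, ← ZMod.intCast_zmod_eq_zero_iff_dvd]
  push_cast
  have h8 : (q : ZMod r) ^ 8 = 1 := by rw [← ho]; exact pow_orderOf_eq_one _
  have h4 : (q : ZMod r) ^ 4 ≠ 1 := fun h => by
    have := Nat.le_of_dvd (by norm_num) (orderOf_dvd_of_pow_eq_one h)
    omega
  have e : ((q : ZMod r) ^ 4 - 1) * ((q : ZMod r) ^ 4 + 1) = 0 := by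
    linear_combination h8
  rcases mul_eq_zero.1 e with h | h
  · exact absurd (sub_eq_zero.1 h) h4
  · exact h

theorem dvd_c9 {q r : ℕ} (hr : r.Prime) (ho : orderOf (q : ZMod r) = 9) : (r : ℤ) ∣ pv c9 q := by
  haveI : Fact r.Prime := ⟨hr⟩
  rw [pv_c9, ← ZMod.intCast_zmod_eq_zero_iff_dvd]
  push_cast
  have h8 : (q : ZMod r) ^ 9 = 1 := by rw [← ho]; exact pow_orderOf_eq_one _
  have h4 : (q : ZMod r) ^ 3 ≠ 1 := fun h => by
    have := Nat.le_of_dvd (by norm_num) (orderOf_dvd_of_pow_eq_one h)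
    omega
  have e : ((q : ZMod r) ^ 3 - 1) * ((q : ZMod r) ^ 6 + (q : ZMod r) ^ 3 + 1) = 0 := by
    linear_combination h8
  rcases mul_eq_zero.1 e with h | h
  · exact absurd (sub_eq_zero.1 h) h4
  · exact h

theorem dvd_c12 {q r : ℕ} (hr : r.Prime) (ho : orderOf (q : ZMod r) = 12) : (r : ℤ) ∣ pv c12 q := by
  haveI : Fact r.Prime := ⟨hr⟩
  rw [pv_c12, ← ZMod.intCast_zmod_eq_zero_iff_dvd]
  push_cast
  have h12 : (q : ZMod r) ^ 12 = 1 := by rw [← ho]; exact pow_orderOf_eq_one _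
  have h6 : (q : ZMod r) ^ 6 ≠ 1 := fun h => by
    have := Nat.le_of_dvd (by norm_num) (orderOf_dvd_of_pow_eq_one h)
    omega
  have h4 : (q : ZMod r) ^ 4 ≠ 1 := fun h => by
    have := Nat.le_of_dvd (by norm_num) (orderOf_dvd_of_pow_eq_one h)
    omega
  have e : ((q : ZMod r) ^ 6 - 1) * (((q : ZMod r) ^ 2 + 1) * ((q : ZMod r) ^ 4 - (q : ZMod r) ^ 2 + 1)) = 0 := by
    linear_combination h12
  rcases mul_eq_zero.1 e with h | h
  · exact absurd (sub_eq_zero.1 h) h6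
  rcases mul_eq_zero.1 h with h | h
  · exfalso
    apply h4
    have : (q : ZMod r) ^ 2 = -1 := eq_neg_of_add_eq_zero_left h
    rw [show (q : ZMod r) ^ 4 = ((q : ZMod r) ^ 2) ^ 2 by ring, this]; ring
  · exact h

theorem no34_e7' (F : Type) [Field F] [Fintype F] : No34 ↥(Cfsg.Lie.chevE7.group F) := by
  haveI : Finite ↥(Cfsg.Lie.chevE7.group F) := inferInstance
  have hD := e7T.inList
  have hZ : ∀ (k : Type) [Field k] [IsAlgClosed k], center ↥(chevE7.group k) = ⊥ := fun k _ _ =>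
    center_eq_bot_of_simple (S1054.result chevE7 (by simp))
  refine no34_crit (q := Fintype.card F) Fintype.one_lt_card
    (exists_three hD (a := 93) (by decide +kernel) (by decide +kernel) tE7b (by decide +kernel) (by decide +kernel)) ?_ ?_ ?_ ?_
  · have h1 := dvd_e7 (Fintype.card F) Fintype.one_lt_card
    rw [← S1064.result (F := F) rfl] at h1
    refine Nat.Coprime.dvd_of_dvd_mul_left ?_ h1
    exact Nat.Coprime.coprime_dvd_right (Nat.gcd_dvd_left _ _) (by norm_num)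
  · intro r hr h5 h
    exact killAll_small hD (m := 3) (by norm_num) tE7a tE7b (by (delta Cfsg.Agent.H92.ExcSL2.OrthB; rewrite [Cfsg.Agent.ChevFast.E7.commTerms, Cfsg.Agent.ChevFast.E7.neg]; decide +kernel)) hr (not_dvd_of_five h5 (by norm_num)
      (by norm_num)) (dvd_sl3 h (by norm_num))
  · intro r hr h5 _ hrq h4
    refine killAll_small hD (m := 3) (by norm_num) tE7a tE7b (by (delta Cfsg.Agent.H92.ExcSL2.OrthB; rewrite [Cfsg.Agent.ChevFast.E7.commTerms, Cfsg.Agent.ChevFast.E7.neg]; decide +kernel)) hr (not_dvd_of_five h5 (by norm_num)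
      (by norm_num)) ?_
    refine (dvd_sub_of_pow hr Fintype.one_lt_card (j := 4) ?_).trans (dvd_card_sl (F := F) (n := 4) (j := 4)
      (by norm_num) le_rfl)
    rw [← h4]; exact pow_orderOf_eq_one _
  · intro r hr h5 hd hrq ho
    have hpos := order_pos hr hrq
    have hrd : ¬ r ∣ 2 := not_dvd_of_five h5 (by norm_num) (by norm_num)
    haveI := PGE7.finW
    by_cases h6 : orderOf (Fintype.card F : ZMod r) = 6
    · obtain ⟨x, u, hx, hu⟩ := conj_of_eig PGE7.hp CoxeterMatrix.E₇.toCoxeterSystem invC_E7 (by norm_num)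
        Cfsg.Agent.H129.PhiE.isPhi_E7 (F := F)
        (chain_rep PGE7.hp CoxeterMatrix.E₇.toCoxeterSystem PGE7.hA chainE76_ok) eigE76 hr hrd
        (by rw [Nat.card_eq_fintype_card]; exact dvd_c6 hr h6)
      exact killAll_of_order hx hu (by rw [Nat.card_eq_fintype_card]; exact ho)
    by_cases h8 : orderOf (Fintype.card F : ZMod r) = 8
    · obtain ⟨x, u, hx, hu⟩ := conj_of_eig PGE7.hp CoxeterMatrix.E₇.toCoxeterSystem invC_E7 (by norm_num)
        Cfsg.Agent.H129.PhiE.isPhi_E7 (F := F)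
        (chain_rep PGE7.hp CoxeterMatrix.E₇.toCoxeterSystem PGE7.hA chainE78_ok) eigE78 hr hrd
        (by rw [Nat.card_eq_fintype_card]; exact dvd_c8 hr h8)
      exact killAll_of_order hx hu (by rw [Nat.card_eq_fintype_card]; exact ho)
    refine killAll_of_order_pow e7T invC_E7 two_ne_zero hZ hr hrq hd ?_
    rw [orderOf_pow' _ (by norm_num)]
    obtain ⟨o, ho'⟩ : ∃ o, o = orderOf (Fintype.card F : ZMod r) := ⟨_, rfl⟩
    rw [← ho'] at ho h6 h8 ⊢
    rcases Nat.even_or_odd o with he | hodd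
    · obtain ⟨k, hk⟩ := he
      have e : Nat.gcd o 2 = 2 := Nat.gcd_eq_right ⟨k, by omega⟩
      rw [e]; omega
    · have e : Nat.gcd o 2 = 1 := (Nat.coprime_two_right.2 hodd)
      rw [e, Nat.div_one]; exact ho

/-! ### `E₆(q)` -/

theorem no34_e6' (F : Type) [Field F] [Fintype F] : No34 ↥(Cfsg.Lie.chevE6.group F) := by
  haveI : Finite ↥(Cfsg.Lie.chevE6.group F) := inferInstance
  have hD := e6T.inList
  have hZ : ∀ (k : Type) [Field k] [IsAlgClosed k], center ↥(chevE6.group k) = ⊥ := fun k _ _ =>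
    center_eq_bot_of_simple (S1054.result chevE6 (by simp))
  refine no34_crit (q := Fintype.card F) Fintype.one_lt_card
    (exists_three hD (a := 56) (by decide +kernel) (by decide +kernel) tE6b (by decide +kernel) (by decide +kernel)) ?_ ?_ ?_ ?_
  · have h1 := dvd_e6 (Fintype.card F) Fintype.one_lt_card
    rw [← S1063.result (F := F) rfl] at h1
    obtain ⟨g, hg⟩ : ∃ g, g = Nat.gcd 3 (Fintype.card F - 1) := ⟨_, rfl⟩
    have hg3 : g ∣ 3 := hg ▸ Nat.gcd_dvd_left _ _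
    rw [← hg] at h1
    rcases (Nat.dvd_prime Nat.prime_three).1 hg3 with h2 | h2
    · rw [h2, one_mul] at h1
      exact (show (27 : ℕ) ∣ 81 by norm_num).trans h1
    · rw [h2] at h1
      exact Nat.dvd_of_mul_dvd_mul_left (by norm_num : 0 < 3) ((show (3 * 27 : ℕ) = 81 by norm_num) ▸ h1)
  · intro r hr h5 h
    exact killAll_small hD (m := 2) (by norm_num) tE6a tE6b (by (delta Cfsg.Agent.H92.ExcSL2.OrthB; rewrite [Cfsg.Agent.ChevFast.E6.commTerms, Cfsg.Agent.ChevFast.E6.neg]; decide +kernel)) hr (not_dvd_of_five h5 (by norm_num)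
      (by norm_num)) (dvd_sl3 h (by norm_num))
  · intro r hr h5 _ hrq h4
    exact killAll_four e6T hD invC_E6 (by decide) hZ tE6c (a := 36) (by decide +kernel) (by decide +kernel) (by decide +kernel)
      (by decide +kernel) hr h5 hrq h4
  · intro r hr h5 hd hrq ho
    have hpos := order_pos hr hrq
    have hrd : ¬ r ∣ 3 := not_dvd_of_five h5 (by norm_num) (by norm_num)
    haveI := PGE6.finW
    by_cases h6 : orderOf (Fintype.card F : ZMod r) = 6
    · obtain ⟨x, u, hx, hu⟩ := conj_of_eig PGE6.hp CoxeterMatrix.E₆.toCoxeterSystem invC_E6 (by norm_num)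
        Cfsg.Agent.H129.PhiE.isPhi_E6 (F := F)
        (chain_rep PGE6.hp CoxeterMatrix.E₆.toCoxeterSystem PGE6.hA chainE66_ok) eigE66 hr hrd
        (by rw [Nat.card_eq_fintype_card]; exact dvd_c6 hr h6)
      exact killAll_of_order hx hu (by rw [Nat.card_eq_fintype_card]; exact ho)
    by_cases h9 : orderOf (Fintype.card F : ZMod r) = 9
    · obtain ⟨x, u, hx, hu⟩ := conj_of_eig PGE6.hp CoxeterMatrix.E₆.toCoxeterSystem invC_E6 (by norm_num)
        Cfsg.Agent.H129.PhiE.isPhi_E6 (F := F)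
        (chain_rep PGE6.hp CoxeterMatrix.E₆.toCoxeterSystem PGE6.hA PGE6.chain9_ok) PGE6.eig9 hr hrd
        (by rw [Nat.card_eq_fintype_card]; exact dvd_c9 hr h9)
      exact killAll_of_order hx hu (by rw [Nat.card_eq_fintype_card]; exact ho)
    by_cases h12 : orderOf (Fintype.card F : ZMod r) = 12
    · obtain ⟨x, u, hx, hu⟩ := conj_of_eig PGE6.hp CoxeterMatrix.E₆.toCoxeterSystem invC_E6 (by norm_num)
        Cfsg.Agent.H129.PhiE.isPhi_E6 (F := F)
        (chain_rep PGE6.hp CoxeterMatrix.E₆.toCoxeterSystem PGE6.hA PGE6.chain12_ok) PGE6.eig12 hr hrd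
        (by rw [Nat.card_eq_fintype_card]; exact dvd_c12 hr h12)
      exact killAll_of_order hx hu (by rw [Nat.card_eq_fintype_card]; exact ho)
    refine killAll_of_order_pow e6T invC_E6 three_ne_zero hZ hr hrq hd ?_
    rw [orderOf_pow' _ (by norm_num)]
    obtain ⟨o, ho'⟩ : ∃ o, o = orderOf (Fintype.card F : ZMod r) := ⟨_, rfl⟩
    rw [← ho'] at ho h6 h9 h12 ⊢
    by_cases h3 : 3 ∣ o
    · obtain ⟨k, hk⟩ := h3
      have e : Nat.gcd o 3 = 3 := Nat.gcd_eq_right ⟨k, hk⟩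
      rw [e]; omega
    · have e : Nat.gcd o 3 = 1 := by
        rw [Nat.gcd_comm]
        exact (Nat.Prime.coprime_iff_not_dvd Nat.prime_three).2 h3
      rw [e, Nat.div_one]; exact ho

end Cfsg.Agent.H744.Fx

namespace Cfsg.Agent.H254.Fx

/-- **the groups `F₄(q)`** (task 1408) -/
theorem no34_f4 (F : Type) [Field F] [Fintype F] : No34 ↥(Cfsg.Lie.chevF4.group F) := Cfsg.Agent.H744.Fx.no34_f4' F

/-- **the groups `E₆(q)`** (task 1409) -/
theorem no34_e6 (F : Type) [Field F] [Fintype F] : No34 ↥(Cfsg.Lie.chevE6.group F) := Cfsg.Agent.H744.Fx.no34_e6' F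

/-- **the groups `E₇(q)`** (task 1410) -/
theorem no34_e7 (F : Type) [Field F] [Fintype F] : No34 ↥(Cfsg.Lie.chevE7.group F) := Cfsg.Agent.H744.Fx.no34_e7' F

/-- **the groups `E₈(q)`** (task 1411) -/
theorem no34_e8 (F : Type) [Field F] [Fintype F] : No34 ↥(Cfsg.Lie.chevE8.group F) := Cfsg.Agent.H744.Fx.no34_e8' F

end Cfsg.Agent.H254.Fx
end

-- part: H744/Fx/TwE6
section
/-!
# Fixity 3 and 4: the row `²E₆(q)` of S3002, S2993 (helper744)

* `killAll_of_order_tw` : `z ~ z ^ ((-q) ^ gcd(3, q + 1))`;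
* `core` : the torus elements of order `r` and `3`, and the automorphism `x ↦ x ^ (-q)`;
* `no34_2e6`.
-/

set_option autoImplicit false
set_option linter.unusedSectionVars false
set_option linter.style.haveILetI false

namespace Cfsg.Agent.H744.Fx.TwE6

open CoxeterSystem Subgroup Cfsg Cfsg.Lie Cfsg.Lie.ChevalleyDatum
open Cfsg.Agent.ChevalleyStructure Cfsg.Agent.ChevalleyStructure.Elts Cfsg.Agent.ChevalleyStructure.CoxeterGeom
  Cfsg.Agent.ChevalleyStructure.CoxeterGeomTypes Cfsg.Agent.ChevalleyStructure.NPerm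
open Cfsg.Agent.Tits.Roots Cfsg.Agent.Tits.Core Cfsg.Agent.Nodes Cfsg.Agent.Nodes.Reps
  Cfsg.Agent.Nodes.RGDChev
open Cfsg.Agent.BpExc.Tow Cfsg.Agent.BpExc.TowChev
open Cfsg.Agent.H254.Fx Cfsg.Agent.H807.Fx
open Cfsg.Agent.H493.TwE6Alg Cfsg.Agent.H493.PGTorus Cfsg.Agent.H493.PGCyc Cfsg.Agent.H493.PGTwist
open Cfsg.Agent.H129

/-! ### exponents -/

section Exp

variable {G : Type*} [Group G]

theorem exists_nat {x : G} {r : ℕ} (hr : 0 < r) (hx : orderOf x = r) (m : ℤ) :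
    ∃ j : ℕ, x ^ m = x ^ j ∧ (j : ZMod r) = (m : ZMod r) := by
  have h0 : (0 : ℤ) ≤ m % (r : ℤ) := Int.emod_nonneg _ (by exact_mod_cast hr.ne')
  refine ⟨(m % (r : ℤ)).toNat, ?_, ?_⟩
  · rw [← zpow_natCast, Int.toNat_of_nonneg h0, ← hx, zpow_mod_orderOf]
  · have h1 : (((m % (r : ℤ)).toNat : ℕ) : ZMod r) = (((m % (r : ℤ)).toNat : ℤ) : ZMod r) := by push_cast; rfl
    rw [h1, Int.toNat_of_nonneg h0, ZMod.intCast_mod]

theorem exists_u {x u : G} {r : ℕ} (hr : 0 < r) (hx : orderOf x = r) {m : ℤ} (h : u⁻¹ * x * u = x ^ m) :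
    ∃ (v : G) (j : ℕ), v * x * v⁻¹ = x ^ j ∧ (j : ZMod r) = (m : ZMod r) := by
  obtain ⟨j, h1, h2⟩ := exists_nat hr hx m
  exact ⟨u⁻¹, j, by rw [inv_inv, h, h1], h2⟩

/-- `u` of order 4 modulo `C(x)` and an element of order 3 in `C(x)` -/
theorem killAll_of_four_three [Finite G] {x u z : G} {r j : ℕ} (hx : orderOf x = r) (hu : u * x * u⁻¹ = x ^ j)
    (h4 : orderOf (j : ZMod r) = 4) (hz : orderOf z = 3) (hzx : z * x = x * z) : KillAll r G := by
  have key : ∀ n : ℕ, 0 < n → n < 4 → Cfsg.Agent.H254.Fx.Out x (u ^ n) := by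
    intro n hn hn4
    right; right
    intro hc
    have h1 := pow_conj_iter hu n
    rw [hc, mul_assoc, mul_inv_cancel, mul_one] at h1
    have h2 : x ^ 1 = x ^ (j ^ n) := by rw [pow_one]; exact h1
    rw [pow_eq_pow_iff_modEq, hx] at h2
    have h3 := (ZMod.natCast_eq_natCast_iff _ _ _).2 h2
    rw [Nat.cast_pow, Nat.cast_one] at h3
    have h5 := Nat.le_of_dvd hn (orderOf_dvd_of_pow_eq_one h3.symm)
    omega
  exact ⟨x, hx, Or.inr (Or.inr (Or.inl ⟨u, mem_normalizer_of_conj hu, z, mem_normalizer_of_comm hzx,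
    key 2 (by norm_num) (by norm_num), key 3 (by norm_num) (by norm_num), hz⟩))⟩

/-- `u` of order 3 modulo `C(x)` and an element of order 3 in `C(x)` -/
theorem killX_of_three_three [Finite G] {x u z : G} {r j : ℕ} (hr : r.Prime) (hx : orderOf x = r)
    (hu : u * x * u⁻¹ = x ^ j) (h3 : orderOf (j : ZMod r) = 3) (hz : orderOf z = 3) (hzx : z * x = x * z) :
    KillX r G := by
  refine ⟨x, hx, Or.inl ?_⟩
  refine dvd_trans ?_ (card_normalizer_dvd hr hx hu)
  rw [h3]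
  have h1 : 3 ∣ Nat.card (centralizer ({x} : Set G)) := by
    rw [← hz]
    exact orderOf_dvd_card_of_mem (by rw [mem_centralizer_singleton_iff]; exact hzx)
  exact mul_dvd_mul (dvd_refl 3) h1

end Exp

/-! ### large orders -/

section Big

variable {K : Type} [Field K] [Fintype K] {q : ℕ} (hq : IsPrimePow q) (hK : Fintype.card K = q ^ 2)

include hq hK

/-- **`x ~ x ^ ((-q) ^ d)`.** -/
theorem killAll_of_order_tw {r : ℕ} (hr : r.Prime) (hrq : ¬ r ∣ q) (hd : r ∣ Nat.card ↥(twistedE6 K q))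
    (ho : 5 ≤ orderOf ((-(q : ZMod r)) ^ Nat.gcd 3 (q + 1))) : KillAll r ↥(twistedE6 K q) := by
  haveI : Finite ↥(twistedE6 K q) := inferInstance
  obtain ⟨p, e, hpF, hpk, he, hqe, -⟩ := Cfsg.Agent.H493.PGE6T.setup hq hK
  haveI : CharP K p := (algebraMap K (AlgebraicClosure K)).charP (algebraMap K (AlgebraicClosure K)).injective p
  haveI : Fact r.Prime := ⟨hr⟩
  obtain ⟨z, hz⟩ := exists_prime_orderOf_dvd_card' r hd
  have hrp : r ≠ p := by
    rintro rfl
    exact hrq (hqe ▸ dvd_pow_self r he.ne')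
  have h := H696.GmnTwE6.isConj_tw (K := K) hrp he hqe hK (z := z) (by rw [← hz]; exact pow_orderOf_eq_one z)
  obtain ⟨c, hc⟩ := isConj_iff.1 h
  obtain ⟨j, h1, h2⟩ := exists_nat hr.pos hz ((-(q : ℤ)) ^ Nat.gcd 3 (q + 1))
  refine killAll_of_order hz (hc.trans h1) ?_
  rw [h2]
  push_cast
  exact ho

/-- **The torus elements.** -/
theorem exists_frame {L : List (Fin 6 × WData.Mat 6)} (hL : WData.ChainOK Cfsg.Agent.H493.PGE6T.Am L)
    {Th : WData.Mat 6} (hTh : ∀ j, WData.hd L (_root_.Cfsg.Agent.H493.TwE6Alg.pi j) = Th j)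
    {f : ℕ} {c : Fin (f + 1) → ℤ} {V : Fin (f + 1) → Fin 6 → ℤ} {U : Fin 6 → ℤ}
    (h : EigOK (fun i j => Th j i) c V U) (hc : c 0 = 1 ∨ c 0 = -1)
    {f' : ℕ} {c' : Fin (f' + 1) → ℤ} {V' : Fin (f' + 1) → Fin 6 → ℤ} {U' : Fin 6 → ℤ}
    (h' : EigOK (fun i j => Th j i) c' V' U') (hc' : c' 0 = 1 ∨ c' 0 = -1)
    {r s : ℕ} (hr : r.Prime) (hs : s.Prime) (h1 : (r : ℤ) ∣ pv c q) (h2 : (s : ℤ) ∣ pv c' q)
    {p e : ℕ} [Fact p.Prime] [CharP (AlgebraicClosure K) p] (he : 0 < e) (hqe : q = p ^ e)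
    (hk : LocFin (AlgebraicClosure K)) :
    ∃ x τ y : ↥(chevE6.group (AlgebraicClosure K)), tau _ p e x = x ∧ orderOf x = r ∧ tau _ p e τ = τ ∧
      orderOf τ = s ∧ x * τ = τ * x ∧ tau _ p e y = y ∧ y⁻¹ * x * y = x ^ (-(q : ℤ)) := by
  have := Cfsg.Agent.H493.PGE6.finW
  have hZ : center ↥(chevE6.group (AlgebraicClosure K)) = ⊥ :=
    H696.GmnUntw.center_eq_bot_of_simple (S1054.result chevE6 (by simp))
  have hqe' : (q : ℤ) = ((p ^ e : ℕ) : ℤ) := by rw [hqe]
  rw [hqe'] at h1 h2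
  set cs := CoxeterMatrix.E₆.toCoxeterSystem with hcs
  have hw := Cfsg.Agent.H493.PGE6T.lin cs hL hTh
  obtain ⟨n, z, hz, hσ', F'⟩ := exists_z RGDTwE6.hp cs hk he isFrob_tau
    (fr_tau (k := AlgebraicClosure K) (p := p) (e := e) cs) (cs.wordProd (L.map Prod.fst))
  obtain ⟨t, ht, h3, h4, -⟩ := exists_t RGDTwE6.hp cs hσ' F' TorusChar.invC_E6 (by norm_num) hr
    (ne_char hc Fact.out he h1) (hL_of_eig RGDTwE6.hp cs hw h h1) (x₀ := U) (by
      rw [lam_unit h]
      intro h7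
      have h8 := Int.natCast_dvd_natCast.mp (by simpa using h7 : (r : ℤ) ∣ ((1 : ℕ) : ℤ))
      exact hr.one_lt.ne' (Nat.dvd_one.mp h8))
  obtain ⟨t', ht', h3', h4', -⟩ := exists_t RGDTwE6.hp cs hσ' F' TorusChar.invC_E6 (by norm_num) hs
    (ne_char hc' Fact.out he h2) (hL_of_eig RGDTwE6.hp cs hw h' h2) (x₀ := U') (by
      rw [lam_unit h']
      intro h7
      have h8 := Int.natCast_dvd_natCast.mp (by simpa using h7 : (s : ℤ) ∣ ((1 : ℕ) : ℤ))
      exact hs.one_lt.ne' (Nat.dvd_one.mp h8))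
  have hcomm : t * t' = t' * t := Cfsg.Agent.BpExc.TorChev.TT_comm RGDTwE6.hp t ht t' ht'
  have ho : ∀ y : ↥(chevE6.group (AlgebraicClosure K)), orderOf (z * y * z⁻¹) = orderOf y := fun y =>
    orderOf_injective (MulAut.conj z).toMonoidHom (MulAut.conj z).injective y
  have hx : tau (AlgebraicClosure K) p e (z * t * z⁻¹) = z * t * z⁻¹ := fix_conj hz h3
  obtain ⟨v, hv⟩ := H696.GmnTwE6.neg_graph RGDTwE6.hp cs
  obtain ⟨y, hy1, hy2⟩ := H696.GmnToral.conj_pow_of_neg_mem RGDTwE6.hp cs hk hZ he isFrob_tau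
    (fr_tau (k := AlgebraicClosure K) (p := p) (e := e) cs) hx (z := z) (by
      have : z⁻¹ * (z * t * z⁻¹) * z = t := by group
      rw [this]; exact ht) ⟨v, fun a _ => by
        rw [← hv a]
        funext i
        fin_cases i <;> rfl⟩
  refine ⟨z * t * z⁻¹, z * t' * z⁻¹, y, hx, (ho t).trans h4, fix_conj hz h3', (ho t').trans h4', ?_, hy1, ?_⟩
  · calc z * t * z⁻¹ * (z * t' * z⁻¹) = z * (t * t') * z⁻¹ := by group
      _ = z * (t' * t) * z⁻¹ := by rw [hcomm]
      _ = _ := by group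
  · rw [hy2]
    congr 1
    rw [hqe']
    push_cast
    rfl

/-- **The dichotomy.** -/
theorem core {r : ℕ} (hr : r.Prime) (h5 : 5 ≤ r) {p e : ℕ} [Fact p.Prime] [CharP (AlgebraicClosure K) p]
    (hqe : q = p ^ e) {x τ y : ↥(chevE6.group (AlgebraicClosure K))} (hx : tau _ p e x = x) (hxr : orderOf x = r)
    (hτ : tau _ p e τ = τ) (hτ3 : orderOf τ = 3) (hc : x * τ = τ * x) (hy : tau _ p e y = y)
    (hxy : y⁻¹ * x * y = x ^ (-(q : ℤ))) :
    (∃ (x u z : ↥(twistedE6 K q)) (j : ℕ), orderOf x = r ∧ orderOf z = 3 ∧ z * x = x * z ∧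
      u * x * u⁻¹ = x ^ j ∧ (j : ZMod r) = (-(q : ZMod r)) ^ 3) ∨
    (∃ (x u : ↥(twistedE6 K q)) (j : ℕ), orderOf x = r ∧ u * x * u⁻¹ = x ^ j ∧ (j : ZMod r) = -(q : ZMod r)) := by
  obtain ⟨f, hf⟩ : ∃ f, f = algebraMap K (AlgebraicClosure K) := ⟨_, rfl⟩
  have hinj := embT_injective (k := AlgebraicClosure K) f q
  have hd3 : Nat.gcd 3 (q + 1) ∣ 3 := Nat.gcd_dvd_left _ _
  obtain ⟨m, hm⟩ := hd3
  obtain ⟨x₀, hx₀⟩ := tau_pow f hqe hq hK hx
  have hor : orderOf x₀ = r := by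
    rw [← orderOf_injective _ hinj x₀, hx₀, Nat.Coprime.orderOf_pow, hxr]
    rw [hxr]
    refine (Nat.Prime.coprime_iff_not_dvd hr).2 fun h => ?_
    have h6 := Nat.le_of_dvd (by norm_num) (h.trans (Nat.gcd_dvd_left 3 (q + 1)))
    omega
  have hX : y⁻¹ * embT f q x₀ * y = embT f q x₀ ^ (-(q : ℤ)) := by
    rw [hx₀, ← zpow_natCast x, ← zpow_mul, mul_comm, zpow_mul, ← hxy]
    have : y⁻¹ * x ^ ((Nat.gcd 3 (q + 1) : ℕ) : ℤ) * y = (y⁻¹ * x * y⁻¹⁻¹) ^ ((Nat.gcd 3 (q + 1) : ℕ) : ℤ) := by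
      rw [conj_zpow, inv_inv]
    rw [this, inv_inv]
  have hXτ : Commute τ (embT f q x₀) := by
    rw [hx₀]
    exact (show Commute τ x from hc.symm).pow_right _
  by_cases hτR : τ ∈ (embT (k := AlgebraicClosure K) f q).range
  · left
    obtain ⟨z, hz⟩ := hτR
    have hy3 : y ^ 3 ∈ (embT (k := AlgebraicClosure K) f q).range := by
      rw [hm, pow_mul]
      exact pow_mem (tau_pow f hqe hq hK hy) m
    obtain ⟨u, hu⟩ := hy3
    have h1 : u⁻¹ * x₀ * u = x₀ ^ ((-(q : ℤ)) ^ 3) := by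
      apply hinj
      rw [map_mul, map_mul, map_inv, map_zpow, hu]
      exact H696.GmnUntw.conj_iter hX 3
    obtain ⟨v, j, hv, hj⟩ := exists_u hr.pos hor h1
    refine ⟨x₀, v, z, j, hor, ?_, ?_, hv, ?_⟩
    · rw [← orderOf_injective _ hinj z, hz, hτ3]
    · apply hinj
      rw [map_mul, map_mul, hz]
      exact hXτ.eq
    · rw [hj]; push_cast; rfl
  · right
    obtain ⟨i, u, hu⟩ := exists_mul_mem f hqe hq hK hy hτ hτR
    have h1 : u⁻¹ * x₀ * u = x₀ ^ (-(q : ℤ)) := by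
      apply hinj
      rw [map_mul, map_mul, map_inv, map_zpow, hu]
      calc (y * τ ^ i)⁻¹ * embT f q x₀ * (y * τ ^ i) = (τ ^ i)⁻¹ * (y⁻¹ * embT f q x₀ * y) * τ ^ i := by group
        _ = (τ ^ i)⁻¹ * (embT f q x₀ ^ (-(q : ℤ))) * τ ^ i := by rw [hX]
        _ = (τ ^ i)⁻¹ * ((embT f q x₀ ^ (-(q : ℤ))) * τ ^ i) := by group
        _ = (τ ^ i)⁻¹ * (τ ^ i * (embT f q x₀ ^ (-(q : ℤ)))) := by
          rw [((hXτ.zpow_right (-(q : ℤ))).pow_left i).eq]
        _ = _ := by group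
    obtain ⟨v, j, hv, hj⟩ := exists_u hr.pos hor h1
    exact ⟨x₀, v, j, hor, hv, by rw [hj]; push_cast; rfl⟩

end Big

/-! ### numbers -/

section Num

theorem cast_pv {r : ℕ} {f : ℕ} {c : Fin f → ℤ} {q : ℤ} (h : (r : ℤ) ∣ pv c q) : ((pv c q : ℤ) : ZMod r) = 0 :=
  (CharP.intCast_eq_zero_iff (ZMod r) r _).2 h

theorem natCast_ne {r n : ℕ} (_ : r.Prime) (hn : 0 < n) (h : n < r) : ((n : ℕ) : ZMod r) ≠ 0 := by
  rw [Ne, ZMod.natCast_eq_zero_iff]
  intro h1
  have := Nat.le_of_dvd hn h1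
  omega

theorem ord9 {r : ℕ} (hr : r.Prime) (h5 : 5 ≤ r) {a : ZMod r} (h : a ^ 6 + a ^ 3 + 1 = 0) : orderOf a = 9 := by
  haveI : Fact r.Prime := ⟨hr⟩
  haveI : Fact (Nat.Prime 3) := ⟨Nat.prime_three⟩
  have h9 : a ^ 9 = 1 := by linear_combination (a ^ 3 - 1) * h
  refine orderOf_eq_prime_pow (p := 3) (n := 1) (x := a) ?_ (by norm_num only []; exact h9)
  rw [pow_one]
  intro h3
  have h6 : a ^ 6 = 1 := by
    have : a ^ 6 = (a ^ 3) ^ 2 := by ring
    rw [this, h3, one_pow]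
  rw [h3, h6] at h
  have h7 : ((3 : ℕ) : ZMod r) = 0 := by push_cast; linear_combination h
  exact natCast_ne hr (by norm_num) (by omega) h7

theorem ord8 {r : ℕ} (hr : r.Prime) (h5 : 5 ≤ r) {a : ZMod r} (h : a ^ 4 + 1 = 0) : orderOf a = 8 := by
  haveI : Fact r.Prime := ⟨hr⟩
  haveI : Fact (Nat.Prime 2) := ⟨Nat.prime_two⟩
  have h9 : a ^ 8 = 1 := by linear_combination (a ^ 4 - 1) * h
  refine orderOf_eq_prime_pow (p := 2) (n := 2) (x := a) ?_ (by norm_num only []; exact h9)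
  norm_num only []
  intro h3
  rw [h3] at h
  have h7 : ((2 : ℕ) : ZMod r) = 0 := by push_cast; linear_combination h
  exact natCast_ne hr (by norm_num) (by omega) h7

theorem ord12 {r : ℕ} (hr : r.Prime) (h5 : 5 ≤ r) {a : ZMod r} (h : a ^ 4 - a ^ 2 + 1 = 0) : orderOf a = 12 := by
  haveI : Fact r.Prime := ⟨hr⟩
  have h6 : a ^ 6 = -1 := by linear_combination (a ^ 2 + 1) * h
  refine orderOf_eq_of_pow_and_pow_div_prime (by norm_num) (by linear_combination (a ^ 6 - 1) * h6) fun p hp hpd => ?_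
  have hpc : p = 2 ∨ p = 3 := by
    have h1 : p ∣ 2 * 2 * 3 := by simpa using hpd
    rcases (Nat.Prime.dvd_mul hp).1 h1 with h1 | h1
    · rcases (Nat.Prime.dvd_mul hp).1 h1 with h1 | h1
      · exact Or.inl ((Nat.prime_dvd_prime_iff_eq hp Nat.prime_two).1 h1)
      · exact Or.inl ((Nat.prime_dvd_prime_iff_eq hp Nat.prime_two).1 h1)
    · exact Or.inr ((Nat.prime_dvd_prime_iff_eq hp Nat.prime_three).1 h1)
  rcases hpc with rfl | rfl
  · norm_num only [_root_.ne_eq]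
    rw [h6]
    intro h3
    have h7 : ((2 : ℕ) : ZMod r) = 0 := by push_cast; linear_combination -h3
    exact natCast_ne hr (by norm_num) (by omega) h7
  · norm_num only [_root_.ne_eq]
    intro h3
    have h2 : a ^ 2 = 2 := by linear_combination h3 - h
    have h7 : ((3 : ℕ) : ZMod r) = 0 := by
      push_cast
      have : a ^ 4 = (a ^ 2) ^ 2 := by ring
      rw [this, h2] at h3
      linear_combination h3
    exact natCast_ne hr (by norm_num) (by omega) h7

theorem dvd_2e6 (q : ℕ) (hq : 2 ≤ q) : 81 ∣ q ^ 36 * (q ^ 2 - 1) * (q ^ 5 + 1) * (q ^ 6 - 1) * (q ^ 8 - 1) *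
    (q ^ 9 + 1) * (q ^ 12 - 1) := by
  rcases three_cases q hq with h | ⟨h1, h2⟩
  · have h3 : 81 ∣ q ^ 36 := ((show (81 : ℕ) = 3 ^ 4 by norm_num) ▸ pow_dvd_pow_of_dvd h 4).trans
      (pow_dvd_pow q (by norm_num))
    exact (((((h3.mul_right _).mul_right _).mul_right _).mul_right _).mul_right _).mul_right _
  · have h3 : 81 ∣ (q ^ 2 - 1) * (q ^ 6 - 1) * (q ^ (2 * 4) - 1) := mul_dvd_mul (mul_dvd_mul h1 h2) (three_sub h1)
    have e : q ^ 36 * (q ^ 2 - 1) * (q ^ 5 + 1) * (q ^ 6 - 1) * (q ^ 8 - 1) * (q ^ 9 + 1) * (q ^ 12 - 1) =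
      (q ^ 2 - 1) * (q ^ 6 - 1) * (q ^ (2 * 4) - 1) * (q ^ 36 * (q ^ 5 + 1) * (q ^ 9 + 1) * (q ^ 12 - 1)) := by ring
    rw [e]; exact h3.mul_right _

/-- small primes divide `|SL_3(q²)|` -/
theorem dvd_sl3_tw {K : Type} [Field K] [Fintype K] {q : ℕ} (hq : 2 ≤ q) (hK : Fintype.card K = q ^ 2) {r : ℕ}
    (h : r ∣ q ∨ (r : ℤ) ∣ pv c1 q ∨ (r : ℤ) ∣ pv c2 q ∨ (r : ℤ) ∣ pv c3 q ∨ (r : ℤ) ∣ pv c4 q ∨ (r : ℤ) ∣ pv c6 q) :
    r ∣ Nat.card (Matrix.SpecialLinearGroup (Fin 3) K) := by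
  have h2 : 1 ≤ (q ^ 2) ^ 2 := Nat.one_le_pow _ _ (Nat.pow_pos (by omega))
  have h3 : 1 ≤ (q ^ 2) ^ 3 := Nat.one_le_pow _ _ (Nat.pow_pos (by omega))
  have e2 : (((q ^ 2) ^ 2 - 1 : ℕ) : ℤ) = pv c1 q * pv c2 q * pv c4 q := by
    rw [pv_c1, pv_c2, pv_c4, Nat.cast_sub h2]; push_cast; ring
  have e3 : (((q ^ 2) ^ 3 - 1 : ℕ) : ℤ) = pv c1 q * pv c2 q * pv c3 q * pv c6 q := by
    rw [pv_c1, pv_c2, pv_c3, pv_c6, Nat.cast_sub h3]; push_cast; ring
  refine dvd_sl3 ?_ le_rfl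
  rw [hK]
  rcases h with h | h | h | h | h | h
  · exact Or.inl (h.trans (dvd_pow_self q two_ne_zero))
  · exact Or.inr (Or.inl (Int.natCast_dvd_natCast.1 (by rw [e2]; exact (h.mul_right _).mul_right _)))
  · exact Or.inr (Or.inl (Int.natCast_dvd_natCast.1 (by rw [e2]; exact (h.mul_left _).mul_right _)))
  · exact Or.inr (Or.inr (Int.natCast_dvd_natCast.1 (by rw [e3]; exact (h.mul_left _).mul_right _)))
  · exact Or.inr (Or.inl (Int.natCast_dvd_natCast.1 (by rw [e2]; exact h.mul_left _)))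
  · exact Or.inr (Or.inr (Int.natCast_dvd_natCast.1 (by rw [e3]; exact h.mul_left _)))

theorem three_dvd_c18 {q : ℕ} (h : 3 ∣ q + 1) : ((3 : ℕ) : ℤ) ∣ pv c18 q := by
  obtain ⟨m, hm⟩ := h
  have hq : (q : ℤ) = 3 * m - 1 := by linarith [show ((q + 1 : ℕ) : ℤ) = ((3 * m : ℕ) : ℤ) from congrArg _ hm]
  rw [pv_c18, hq]
  refine ⟨243 * m ^ 6 - 486 * m ^ 5 + 405 * m ^ 4 - 189 * m ^ 3 + 54 * m ^ 2 - 9 * m + 1, ?_⟩
  push_cast
  ring

theorem three_dvd_c6 {q : ℕ} (h : 3 ∣ q + 1) : ((3 : ℕ) : ℤ) ∣ pv c6 q := by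
  obtain ⟨m, hm⟩ := h
  have hq : (q : ℤ) = 3 * m - 1 := by linarith [show ((q + 1 : ℕ) : ℤ) = ((3 * m : ℕ) : ℤ) from congrArg _ hm]
  rw [pv_c6, hq]
  refine ⟨3 * m ^ 2 - 3 * m + 1, ?_⟩
  push_cast
  ring

end Num

/-! ### the row -/

section Row

variable {K : Type} [Field K] [Fintype K] {q : ℕ} (hq : IsPrimePow q) (hK : Fintype.card K = q ^ 2)

include hq hK

theorem kill_c18 {r : ℕ} (hr : r.Prime) (h5 : 5 ≤ r) (h : (r : ℤ) ∣ pv c18 q) (h3 : 3 ∣ q + 1) :
    KillAll r ↥(twistedE6 K q) ∨ KillX r ↥(twistedE6 K q) := by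
  haveI : Finite ↥(twistedE6 K q) := inferInstance
  haveI : Fact r.Prime := ⟨hr⟩
  have ho : orderOf (-(q : ZMod r)) = 9 := by
    refine ord9 hr h5 ?_
    have h1 := cast_pv h
    rw [pv_c18] at h1
    push_cast at h1
    linear_combination h1
  obtain ⟨p, e, hpF, hpk, he, hqe, hk⟩ := Cfsg.Agent.H493.PGE6T.setup hq hK
  obtain ⟨x, τ, y, hx, hxr, hτ, hτ3, hc, hy, hxy⟩ := exists_frame hq hK Cfsg.Agent.H493.PGE6T.chainG_ok
    Cfsg.Agent.H493.PGE6T.hThG Cfsg.Agent.H493.PGE6T.eigG_18 (by decide) Cfsg.Agent.H493.PGE6T.eigG_18 (by decide)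
    hr Nat.prime_three h (three_dvd_c18 h3) he hqe hk
  rcases core hq hK hr h5 hqe hx hxr hτ hτ3 hc hy hxy with ⟨x, u, z, j, h1, h2, h4, h6, h7⟩ | ⟨x, u, j, h1, h2, h4⟩
  · right
    refine killX_of_three_three hr h1 h6 ?_ h2 h4
    rw [h7, orderOf_pow' _ (by norm_num), ho]
    norm_num
  · left
    refine killAll_of_order h1 h2 ?_
    rw [h4, ho]
    norm_num

theorem kill_c12 {r : ℕ} (hr : r.Prime) (h5 : 5 ≤ r) (h : (r : ℤ) ∣ pv c12 q) (h3 : 3 ∣ q + 1) :
    KillAll r ↥(twistedE6 K q) := by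
  haveI : Finite ↥(twistedE6 K q) := inferInstance
  haveI : Fact r.Prime := ⟨hr⟩
  have ho : orderOf (-(q : ZMod r)) = 12 := by
    refine ord12 hr h5 ?_
    have h1 := cast_pv h
    rw [pv_c12] at h1
    push_cast at h1
    linear_combination h1
  obtain ⟨p, e, hpF, hpk, he, hqe, hk⟩ := Cfsg.Agent.H493.PGE6T.setup hq hK
  obtain ⟨x, τ, y, hx, hxr, hτ, hτ3, hc, hy, hxy⟩ := exists_frame hq hK Cfsg.Agent.H493.PGE6T.chainF_ok
    Cfsg.Agent.H493.PGE6T.hThF Cfsg.Agent.H493.PGE6T.eigF_12 (by decide) Cfsg.Agent.H493.PGE6T.eigF_6 (by decide)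
    hr Nat.prime_three h (three_dvd_c6 h3) he hqe hk
  rcases core hq hK hr h5 hqe hx hxr hτ hτ3 hc hy hxy with ⟨x, u, z, j, h1, h2, h4, h6, h7⟩ | ⟨x, u, j, h1, h2, h4⟩
  · refine killAll_of_four_three h1 h6 ?_ h2 h4
    rw [h7, orderOf_pow' _ (by norm_num), ho]
    norm_num
  · refine killAll_of_order h1 h2 ?_
    rw [h4, ho]
    norm_num

theorem no34_tw : No34 ↥(twistedE6 K q) := by
  haveI : Finite ↥(twistedE6 K q) := inferInstance
  have hcard := Cfsg.Agent.S1066.result hq hK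
  have hd3 : Nat.gcd 3 (q + 1) = 1 ∨ Nat.gcd 3 (q + 1) = 3 :=
    (Nat.dvd_prime Nat.prime_three).1 (Nat.gcd_dvd_left _ _)
  refine no34_ofX (fun _ => ?_) fun r hr h5 hd => ?_
  · obtain ⟨x, hx, hbx⟩ := exists_bad_three hq hK
    refine bad3_of_card hx hbx (Or.inl ?_)
    have h1 := dvd_2e6 q hq.two_le
    rw [← hcard] at h1
    have h2 : 81 ∣ 3 * Nat.card ↥(twistedE6 K q) := h1.trans (Nat.mul_dvd_mul_right (Nat.gcd_dvd_left _ _) _)
    rw [show (81 : ℕ) = 3 * 27 by norm_num] at h2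
    exact Nat.dvd_of_mul_dvd_mul_left (by norm_num) h2
  · haveI : Fact r.Prime := ⟨hr⟩
    by_cases hs : r ∣ Nat.card (Matrix.SpecialLinearGroup (Fin 3) K)
    · exact Or.inl (killAll_small_tw hq hK hr h5 hs)
    have hsm : ¬ (r ∣ q ∨ (r : ℤ) ∣ pv c1 q ∨ (r : ℤ) ∣ pv c2 q ∨ (r : ℤ) ∣ pv c3 q ∨ (r : ℤ) ∣ pv c4 q ∨
      (r : ℤ) ∣ pv c6 q) := fun h => hs (dvd_sl3_tw hq.two_le hK h)
    have hrq : ¬ r ∣ q := fun h => hsm (Or.inl h)
    have h1 : r ∣ q ^ 36 * (q ^ 2 - 1) * (q ^ 5 + 1) * (q ^ 6 - 1) * (q ^ 8 - 1) * (q ^ 9 + 1) * (q ^ 12 - 1) := by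
      rw [← hcard]
      exact hd.mul_left _
    have key : ∀ {n : ℕ}, orderOf (-(q : ZMod r)) = n → 5 ≤ n → (Nat.Coprime n 3 ∨ ¬ 3 ∣ q + 1) →
        KillAll r ↥(twistedE6 K q) := by
      intro n hn h5n hc
      refine killAll_of_order_tw hq hK hr hrq hd ?_
      rcases hd3 with h | h
      · rw [h, pow_one, hn]; exact h5n
      · rcases hc with hc | hc
        · rw [h, Nat.Coprime.orderOf_pow (by rw [hn]; exact hc), hn]; exact h5n
        · exact absurd (h ▸ Nat.gcd_dvd_right 3 (q + 1)) hc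
    rcases Cfsg.Agent.H493.PGE6T.cover hq.two_le hr h1 with (h | h | h | h | h | h | h) | h | h | h
    · exact absurd (Or.inl h) hsm
    · exact absurd (Or.inr (Or.inl h)) hsm
    · exact absurd (Or.inr (Or.inr (Or.inl h))) hsm
    · exact absurd (Or.inr (Or.inr (Or.inr (Or.inl h)))) hsm
    · exact absurd (Or.inr (Or.inr (Or.inr (Or.inr (Or.inl h))))) hsm
    · exact absurd (Or.inr (Or.inr (Or.inr (Or.inr (Or.inr h))))) hsm
    · -- order 5
      left
      have h2 := cast_pv h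
      rw [pv_c10] at h2
      push_cast at h2
      haveI : Fact (Nat.Prime 5) := ⟨Nat.prime_five⟩
      refine key (n := 5) (orderOf_eq_prime ?_ ?_) le_rfl (Or.inl (by decide))
      · linear_combination (-(q : ZMod r) - 1) * h2
      · intro h3
        apply hsm
        right; right; left
        rw [← CharP.intCast_eq_zero_iff (ZMod r) r, pv_c2]
        push_cast
        linear_combination -h3
    · -- order 8
      left
      have h2 := cast_pv h
      rw [pv_c8] at h2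
      push_cast at h2
      exact key (n := 8) (ord8 hr h5 (by linear_combination h2)) (by norm_num) (Or.inl (by decide))
    · -- order 12
      left
      by_cases h3 : 3 ∣ q + 1
      · exact kill_c12 hq hK hr h5 h h3
      · have h2 := cast_pv h
        rw [pv_c12] at h2
        push_cast at h2
        exact key (n := 12) (ord12 hr h5 (by linear_combination h2)) (by norm_num) (Or.inr h3)
    · -- order 9
      by_cases h3 : 3 ∣ q + 1
      · rcases kill_c18 hq hK hr h5 h h3 with h4 | h4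
        · exact Or.inl h4
        · exact Or.inr (Or.inl h4)
      · left
        have h2 := cast_pv h
        rw [pv_c18] at h2
        push_cast at h2
        exact key (n := 9) (ord9 hr h5 (by linear_combination h2)) (by norm_num) (Or.inr h3)

end Row

end Cfsg.Agent.H744.Fx.TwE6

namespace Cfsg.Agent.H254.Fx

/-- **The row `²E₆(q)`.** -/
theorem no34_2e6 {G : Type*} [Group G] (h : Cfsg.Lie.Iso2E6 G) : No34 G := by
  obtain ⟨K, _, _, q, hq, hK, ⟨e⟩⟩ := h
  exact No34.congr e.symm (Cfsg.Agent.H744.Fx.TwE6.no34_tw hq hK)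

end Cfsg.Agent.H254.Fx
end

-- part: H315/FxSporC
section
/-!
# `No34` for `M24` and `Suz` (helper315)
-/

set_option autoImplicit false

namespace Cfsg.Agent.H315.FxNum

open Cfsg Cfsg.Agent.H254.Fx Subgroup

theorem noexc_M24 : NoExc M24 7 4 := by
  intro k D _ _ hD hi
  have h1 := (H865.Seven.main D hD).1
  rw [card_normalizer_eq, hD, hi] at h1
  norm_num at h1

theorem no34_m24 {G : Type*} [Group G] (h : Spor.IsoM24 G) : No34 G := by
  obtain ⟨e⟩ := h
  refine No34.congr e.symm (no34_of_chk (n := 244823040) (E := [(7, 4)])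
    (l := [(2, 10), (3, 3), (5, 1), (7, 1), (11, 1), (23, 1)])
    S0365.result S0364.result (by decide +kernel) (Or.inl rfl) ?_)
  intro x hx
  rw [List.mem_singleton] at hx
  subst hx
  exact noexc_M24

theorem card_inv_suz {t : Spor.Suz} (ht : orderOf t = 2) :
    Nat.card (centralizer ({t} : Set Spor.Suz)) = 3317760 ∨ Nat.card (centralizer ({t} : Set Spor.Suz)) = 161280 := by
  have h1 : t * t = 1 := by rw [← pow_two, ← ht]; exact pow_orderOf_eq_one t
  have h2 : t ≠ 1 := by rintro rfl; rw [orderOf_one] at ht; omega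
  have key : ∀ s : Spor.Suz, IsConj s t → Nat.card (centralizer ({s} : Set Spor.Suz)) =
      Nat.card (centralizer ({t} : Set Spor.Suz)) := by
    intro s hs
    obtain ⟨g, hg⟩ := isConj_iff.1 hs
    have h3 : centralizer ({t} : Set Spor.Suz) =
        (centralizer ({s} : Set Spor.Suz)).map (MulAut.conj g).toMonoidHom := by
      ext y
      rw [mem_map_iff', mem_centralizer_singleton_iff, mem_centralizer_singleton_iff]
      have h4 : (MulAut.conj g).symm y = g⁻¹ * y * g := by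
        rw [MulEquiv.symm_apply_eq, MulAut.conj_apply]; group
      rw [h4, ← hg]
      constructor
      · intro h5
        have h6 : g⁻¹ * (y * (g * s * g⁻¹)) * g = g⁻¹ * ((g * s * g⁻¹) * y) * g := by rw [h5]
        calc g⁻¹ * y * g * s = g⁻¹ * (y * (g * s * g⁻¹)) * g := by group
          _ = g⁻¹ * ((g * s * g⁻¹) * y) * g := h6
          _ = s * (g⁻¹ * y * g) := by group
      · intro h5
        calc y * (g * s * g⁻¹) = g * (g⁻¹ * y * g * s) * g⁻¹ := by group
          _ = g * (s * (g⁻¹ * y * g)) * g⁻¹ := by rw [h5]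
          _ = g * s * g⁻¹ * y := by group
    rw [h3, card_map_eq]
  rcases CTwoTab.Suz.classes h1 h2 with h3 | h3
  · left
    rw [← key _ h3]
    exact KFacts.SuzCent.card_C1
  · right
    rw [← key _ h3]
    exact KFacts.SuzTwoB.card_CE

theorem noexc_suz : ∀ x ∈ [(25, 4), (91, 12)], NoExc Spor.Suz x.1 x.2 := by
  have hcard : Nat.card Spor.Suz = 448345497600 := S1694.result.2
  have hsim : IsSimpleGroup Spor.Suz := S1694.result.1
  have hfin : Finite Spor.Suz := Nat.finite_of_card_ne_zero (by rw [hcard]; norm_num)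
  intro x hx
  simp only [List.mem_cons, List.not_mem_nil, or_false] at hx
  rcases hx with rfl | rfl
  · intro k D h hF hD hi
    have : Fact (Nat.Prime 5) := ⟨Nat.prime_five⟩
    exact false_of_noSP h hF (by rw [hcard]; norm_num) (r := 5) (by rw [hD]; norm_num)
      (H99.SuzFive.nosp_suz_5 ⟨MulEquiv.refl _⟩)
  · intro k D h hF hD hi
    obtain ⟨t, x, ht, hx, htx⟩ := exists_inv h hF (r := 13) (by norm_num) (by rw [hD]; norm_num)
      (by rw [hcard]; norm_num) (Or.inl hi)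
    have h1 := dvd_centralizer hx htx
    rcases card_inv_suz ht with h2 | h2 <;> rw [h2] at h1 <;> norm_num at h1

theorem no34_suz {G : Type*} [Group G] (h : Spor.IsoSuz G) : No34 G := by
  obtain ⟨e⟩ := h
  exact No34.congr e.symm (no34_of_chk (n := 448345497600) (E := [(25, 4), (91, 12)])
    (l := [(2, 13), (3, 7), (5, 2), (7, 1), (11, 1), (13, 1)])
    S1694.result.1 S1694.result.2 (by decide +kernel) (Or.inl rfl) noexc_suz)

end Cfsg.Agent.H315.FxNum
end

-- part: H753/FxLy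
section
/-!
# Fixity 3 and 4: the row `Ly` (helper753, for S3002 and S2993)
-/

set_option autoImplicit false

namespace Cfsg.Agent.H753.FxLy

open Subgroup Equiv Cfsg.Agent.H254.Fx Cfsg.Agent.H753.FxNum Cfsg.Agent.OrdDiv
open Cfsg.Agent.SporRec.TwoAn Cfsg.Agent.TypeM.Two Cfsg.Agent.CpAutLy.Cov

/-- the factorization of the order -/
def l : List (ℕ × ℕ) := [(2, 8), (3, 7), (5, 6), (7, 1), (11, 1), (31, 1), (37, 1), (67, 1)]

/-- a 7-cycle -/
def c7 : Perm (Fin 11) := swap (0 : Fin 11) 1 * swap (1 : Fin 11) 2 * swap (2 : Fin 11) 3 * swap (3 : Fin 11) 4 * swap (4 : Fin 11) 5 * swap (5 : Fin 11) 6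

theorem type_c7 : c7.cycleType = {7} := by decide +kernel
theorem sup_c7 : c7.support.card = 7 := by decide +kernel
theorem pow_c7 : c7 ^ 7 = 1 := by decide +kernel
theorem ne_c7 : c7 ≠ 1 := by decide +kernel
theorem sign_c7 : c7 ∈ alternatingGroup (Fin 11) := by
  rw [Equiv.Perm.mem_alternatingGroup]
  decide +kernel

/-- a bad element of order 7 -/
theorem bad_seven {G : Type*} [Group G] [Finite G] (L : MT 11 G) : ∃ x : G, orderOf x = 7 ∧ Bad x := by
  obtain ⟨y₀, hy₀⟩ := L.K.exists_lift sign_c7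
  have h14 : (y₀ ^ 7) ^ 2 = 1 := by
    rcases (L.K.ker (y₀ ^ 7)).1 (by rw [map_pow, hy₀, pow_c7]) with h | h
    · rw [h, one_pow]
    · rw [h, L.K.z_pow_two]
  obtain ⟨y, hy⟩ : ∃ y, y = y₀ ^ 8 := ⟨_, rfl⟩
  have hπ : L.K.π y = c7 := by
    rw [hy, map_pow, hy₀, show 8 = 7 + 1 from rfl, pow_succ, pow_c7, one_mul]
  have hy7 : y ^ 7 = 1 := by
    rw [hy, ← pow_mul, show 8 * 7 = 7 * 2 * 4 from rfl, pow_mul, pow_mul, h14, one_pow]
  have hy1 : y ≠ 1 := by
    rintro h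
    rw [h, map_one] at hπ
    exact ne_c7 hπ.symm
  have h7 : Nat.Prime 7 := by norm_num
  have hcard : Nat.card ↥(centralizer ({y} : Set (centralizer ({L.t} : Set G)))) = 168 := by
    rw [card_eq L.K (n := 7) (by decide) hy7 (by
      rw [hπ]
      apply hasOdd_of_support
      rw [sup_c7]
      simp), hπ, Equiv.Perm.nat_card_centralizer, type_c7]
    decide
  refine ⟨(y : G), ?_, ?_⟩
  · rw [Subgroup.orderOf_coe]
    have := Fact.mk h7
    exact orderOf_eq_prime hy7 hy1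
  · refine bad_of_hom_eight (centralizer ({L.t} : Set G)).subtype
      (Y := centralizer ({y} : Set (centralizer ({L.t} : Set G))))
      (fun g hg => mem_centralizer_singleton_iff.1 hg) (fun g _ hg => Subtype.ext hg) ?_
    rw [hcard]
    norm_num

/-- **The row `Ly`.** -/
theorem no34_ly {G : Type*} [Group G] (h : Cfsg.Spor.IsoLy G) : No34 G := by
  obtain ⟨hf, -, hcard, ⟨L⟩⟩ := Cfsg.Agent.TypeM.FactsLy.facts h
  refine no34_num (n := 51765179004000000) (l := l) (dead3 := [2]) (dead4 := [2, 7]) (km := []) (by decide +kernel)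
    (by decide +kernel) hcard (Or.inl (by norm_num)) ?_ ?_ (by simp) (by decide +kernel) (by decide +kernel)
  · intro p hp
    rw [List.mem_singleton.1 hp]
    exact dead_two 3
  · intro p hp
    simp only [List.mem_cons, List.not_mem_nil, or_false] at hp
    rcases hp with rfl | rfl
    · exact dead_two 4
    · obtain ⟨x, hx, hb⟩ := bad_seven L
      exact dead_of_bad 4 (by norm_num) (by norm_num) hx hb

end Cfsg.Agent.H753.FxLy
end

private theorem dce_54debc3cbec6 : _root_.True := by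
  try have : _root_.True := by simp only [_root_.Cfsg.Agent.H682.Fx.perpIn.eq_1]
  exact _root_.True.intro
end
end
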